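import Mathlib

/-!
Groups of Hall-Janko type: elementary lemmas on finite groups used in the global analysis.
-/

set_option autoImplicit false
set_option linter.style.haveILetI false

namespace CfsgLib.HJType

open Subgroup

variable {G : Type*} [Group G]

theorem orderOf_two_iff {x : G} : orderOf x = 2 ↔ x * x = 1 ∧ x ≠ 1 := by
  rw [orderOf_eq_prime_iff, pow_two]

/-- An involution without fixed points on a finite subgroup inverts it. -/
theorem fpf_inverts [Finite G] {N : Subgroup G} {a : G} (ha : a * a = 1) (hN : ∀ x ∈ N, a * x * a ∈ N)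
    (hfix : ∀ x ∈ N, a * x = x * a → x = 1) : ∀ x ∈ N, a * x * a = x⁻¹ := by
  intro w hw
  have hinj : Function.Injective (fun x : N => (⟨(x : G)⁻¹ * (a * x * a), mul_mem (inv_mem x.2) (hN x x.2)⟩ : N)) := by
    intro x y h
    have h' : (x : G)⁻¹ * (a * x * a) = (y : G)⁻¹ * (a * y * a) := congrArg Subtype.val h
    have e : a * ((y : G) * (x : G)⁻¹) * a = (y : G) * (x : G)⁻¹ := by
      calc a * ((y : G) * (x : G)⁻¹) * a
          = (y : G) * ((y : G)⁻¹ * (a * y * a)) * (a⁻¹ * (x : G)⁻¹ * a) := by group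
        _ = (y : G) * ((x : G)⁻¹ * (a * x * a)) * (a⁻¹ * (x : G)⁻¹ * a) := by rw [h']
        _ = (y : G) * (x : G)⁻¹ * (a * a) := by group
        _ = _ := by rw [ha, mul_one]
    have hc : a * ((y : G) * (x : G)⁻¹) = (y : G) * (x : G)⁻¹ * a := by
      calc a * ((y : G) * (x : G)⁻¹) = a * ((y : G) * (x : G)⁻¹) * a * a := by
            rw [mul_assoc (a * ((y : G) * (x : G)⁻¹)), ha, mul_one]
        _ = _ := by rw [e]
    have := hfix _ (mul_mem y.2 (inv_mem x.2)) hc
    exact Subtype.ext (mul_inv_eq_one.1 this).symm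
  obtain ⟨x, hx⟩ := Finite.surjective_of_injective hinj ⟨w, hw⟩
  have hx' : (x : G)⁻¹ * (a * x * a) = w := congrArg Subtype.val hx
  have hai : a⁻¹ = a := inv_eq_of_mul_eq_one_right ha
  calc a * w * a = a * (x : G)⁻¹ * a * x * (a * a) := by rw [← hx']; group
    _ = w⁻¹ := by rw [← hx', ha, mul_inv_rev, mul_inv_rev, mul_inv_rev, hai, inv_inv]; group

/-- A four-group all whose involutions act without fixed points on a subgroup: the subgroup is trivial. -/
theorem four_fpf [Finite G] {N : Subgroup G} {a b : G} (ha : a * a = 1) (hb : b * b = 1) (hab : a * b = b * a)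
    (hNa : ∀ x ∈ N, a * x * a ∈ N) (hNb : ∀ x ∈ N, b * x * b ∈ N) (h1 : ∀ x ∈ N, a * x = x * a → x = 1)
    (h2 : ∀ x ∈ N, b * x = x * b → x = 1) (h3 : ∀ x ∈ N, a * b * x = x * (a * b) → x = 1) : N = ⊥ := by
  rw [eq_bot_iff]
  intro x hx
  rw [mem_bot]
  refine h3 x hx ?_
  have e1 := fpf_inverts hb hNb h2 x hx
  have e2 := fpf_inverts ha hNa h1 _ (inv_mem hx)
  rw [inv_inv, ← e1] at e2
  have hm : a * b * (a * b) = 1 := by
    calc a * b * (a * b) = a * (b * a) * b := by group
      _ = a * (a * b) * b := by rw [hab]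
      _ = (a * a) * (b * b) := by group
      _ = 1 := by rw [ha, hb, mul_one]
  calc a * b * x = a * (b * x * b) * (b * 1) := by
        rw [mul_one]
        calc a * b * x = a * b * x * (b * b) := by rw [hb, mul_one]
          _ = _ := by group
    _ = a * (b * x * b) * (b * (a * a)) := by rw [ha]
    _ = a * (b * x * b) * (b * a) * a := by group
    _ = a * (b * x * b) * (a * b) * a := by rw [hab]
    _ = x * b * a := by rw [show a * (b * x * b) * (a * b) * a = (a * (b * x * b) * a) * b * a by group, e2]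
    _ = x * (a * b) := by rw [hab, mul_assoc]

/-- A `p`-subgroup of `K` is conjugate into a subgroup of `K` whose order is the largest power of `p`
dividing the order of `K`. -/
theorem exists_conj_into [Finite G] {p n : ℕ} [Fact p.Prime] {K B : Subgroup G} (hBK : B ≤ K)
    (hB : Nat.card B = p ^ n) (hK : ¬ p ^ (n + 1) ∣ Nat.card K) {A : Subgroup G} (hAK : A ≤ K)
    (hA : IsPGroup p A) : ∃ c ∈ K, ∀ a ∈ A, c * a * c⁻¹ ∈ B := by
  set B' := B.subgroupOf K with hB'
  have hB'c : Nat.card B' = p ^ n := by rw [← hB]; exact Nat.card_congr (subgroupOfEquivOfLe hBK).toEquiv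
  obtain ⟨S, hS⟩ := (IsPGroup.of_card hB'c).exists_le_sylow
  obtain ⟨m, hm⟩ := IsPGroup.iff_card.1 S.2
  have hSB : (S : Subgroup K) = B' := by
    refine (eq_of_le_of_card_ge hS ?_).symm
    rw [hm, hB'c]
    refine Nat.pow_le_pow_right (Fact.out : p.Prime).pos ?_
    by_contra hlt
    exact hK ((pow_dvd_pow p (by omega : n + 1 ≤ m)).trans (hm ▸ card_subgroup_dvd_card _))
  obtain ⟨T, hT⟩ := (hA.of_equiv (subgroupOfEquivOfLe hAK).symm).exists_le_sylow
  obtain ⟨c, hc⟩ := MulAction.exists_smul_eq K T S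
  refine ⟨c, c.2, fun a ha => ?_⟩
  have h : MulAut.conj c • (⟨a, hAK ha⟩ : K) ∈ ((c • T : Sylow p K) : Subgroup K) :=
    smul_mem_pointwise_smul _ (MulAut.conj c) _ (hT ha)
  rw [hc, hSB, hB', mem_subgroupOf] at h
  exact h

/-- Two subgroups of `K` of largest `p`-power order are conjugate in `K`. -/
theorem exists_conj_eq [Finite G] {p n : ℕ} [Fact p.Prime] {K B A : Subgroup G} (hBK : B ≤ K)
    (hB : Nat.card B = p ^ n) (hK : ¬ p ^ (n + 1) ∣ Nat.card K) (hAK : A ≤ K) (hA : Nat.card A = p ^ n) :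
    ∃ c ∈ K, ∀ a : G, c * a * c⁻¹ ∈ B ↔ a ∈ A := by
  obtain ⟨c, hc, h⟩ := exists_conj_into hBK hB hK hAK (IsPGroup.of_card hA)
  refine ⟨c, hc, fun a => ⟨fun ha => ?_, h a⟩⟩
  have hbij : Function.Bijective (fun x : A => (⟨c * x * c⁻¹, h x x.2⟩ : B)) :=
    (Nat.bijective_iff_injective_and_card _).2 ⟨fun x y e => Subtype.ext
      (mul_left_cancel (mul_right_cancel (congrArg Subtype.val e))), by rw [hA, hB]⟩
  obtain ⟨x, hx⟩ := hbij.2 ⟨c * a * c⁻¹, ha⟩
  have : (x : G) = a := mul_left_cancel (mul_right_cancel (congrArg Subtype.val hx))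
  exact this ▸ x.2

/-- Conjugation of centralizers. -/
theorem mem_centralizer_conj {g x y : G} :
    g * x * g⁻¹ ∈ centralizer ({g * y * g⁻¹} : Set G) ↔ x ∈ centralizer ({y} : Set G) := by
  rw [mem_centralizer_singleton_iff, mem_centralizer_singleton_iff]
  exact Commute.conj_iff g

theorem isConj_conj (g x : G) : IsConj x (g * x * g⁻¹) := isConj_iff.2 ⟨g, rfl⟩

end CfsgLib.HJType
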