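import Mathlib
import Cfsg.Prelude.Def_Transfer
import Cfsg.Agent.Lib.InvolChar.MinusThirtyTwo
import Cfsg.Agent.Lib.PGroup.MinusThirtyTwoAut

/-!
Groups of Hall-Janko type: the centralizer `H` of the central involution and the five pairs of
noncentral involutions of its normal extraspecial subgroup of order 32.
-/

set_option autoImplicit false
set_option linter.style.haveILetI false
set_option linter.unusedSectionVars false

namespace CfsgLib.HJType

open Subgroup Cfsg CfsgLib.InvolChar.MinusThirtyTwo CfsgLib.PGroup.MinusThirtyTwoAut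

/-- A permutation of `p`-power order: the number of points is congruent to the number of fixed points. -/
theorem card_modEq_fixed {α : Type*} [Finite α] {p : ℕ} [Fact p.Prime] (σ : Equiv.Perm α) (hσ : σ ^ p = 1) :
    Nat.card α ≡ Nat.card {a : α // σ a = a} [MOD p] := by
  classical
  haveI := Fintype.ofFinite α
  have h := Equiv.Perm.card_compl_support_modEq (p := p) (n := 1) (σ := σ) (by rwa [pow_one])
  have e : σ.supportᶜ.card = Nat.card {a : α // σ a = a} := by
    rw [Nat.card_eq_fintype_card, Fintype.card_subtype]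
    congr 1
    ext x
    simp
  rw [e, ← Nat.card_eq_fintype_card] at h
  exact h.symm

/-- The version for a property invariant under the permutation. -/
theorem card_modEq_fixed_of_invariant {α : Type*} [Finite α] {p : ℕ} [Fact p.Prime] (σ : Equiv.Perm α)
    (hσ : σ ^ p = 1) (P : α → Prop) (hP : ∀ a, P (σ a) ↔ P a) :
    Nat.card {a // P a} ≡ Nat.card {a // P a ∧ σ a = a} [MOD p] := by
  have hn : ∀ (n : ℕ) (a : {a // P a}), ((σ.subtypePerm hP ^ n) a : α) = (σ ^ n) a := by
    intro n
    induction n with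
    | zero => exact fun a => rfl
    | succ n ih => intro a; rw [pow_succ, pow_succ, Equiv.Perm.mul_apply, ih]; rfl
  have hσ' : σ.subtypePerm hP ^ p = 1 := Equiv.ext fun a => Subtype.ext (by rw [hn, hσ]; rfl)
  refine (card_modEq_fixed _ hσ').trans (congrArg (· % p) (Nat.card_congr ?_))
  exact
    { toFun := fun a => ⟨a.1.1, a.1.2, congrArg Subtype.val a.2⟩
      invFun := fun a => ⟨⟨a.1, a.2.1⟩, Subtype.ext a.2.2⟩
      left_inv := fun _ => rfl
      right_inv := fun _ => rfl }

section minus

variable {E : Type*} [Group E] [Finite E] {z : E}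

set_option maxHeartbeats 800000 in
/-- An automorphism of order five forces minus type. -/
theorem minus_of_five (b : Base z) (α : MulAut E) (h5 : α ^ 5 = 1) (h1 : α ≠ 1) : Minus z := by
  classical
  haveI := Fintype.ofFinite E
  haveI : Fact (Nat.Prime 5) := ⟨by norm_num⟩
  let σ : Equiv.Perm E := MulAut.toPerm E α
  have hσ : σ ^ 5 = 1 := by rw [← map_pow, h5, map_one]
  have haz : α z = z := by
    have hc : α z ∈ center E := mem_center_iff.2 fun x => by
      obtain ⟨y, rfl⟩ := α.surjective x
      rw [← map_mul, ← map_mul, b.hzc]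
    exact (b.hcen _ hc).resolve_left fun h => b.hz1 (α.injective (h.trans (map_one α).symm))
  -- the fixed points are the centre
  have hfix : ∀ x, α x = x → x = 1 ∨ x = z := by
    let C : Subgroup E :=
      { carrier := {x | α x = x}
        one_mem' := map_one α
        mul_mem' := fun {x y} hx hy => by
          show α (x * y) = x * y
          rw [map_mul, hx, hy]
        inv_mem' := fun {x} hx => by
          show α x⁻¹ = x⁻¹
          rw [map_inv, hx] }
    have hmod : 32 ≡ Nat.card C [MOD 5] := by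
      have h := card_modEq_fixed σ hσ
      rw [b.h32] at h
      exact h
    obtain ⟨m, hm5, hm⟩ := (Nat.dvd_prime_pow Nat.prime_two).1
      (show Nat.card C ∣ 2 ^ 5 by rw [show 2 ^ 5 = 32 from rfl, ← b.h32]; exact card_subgroup_dvd_card C)
    have h32 : Nat.card C ≠ 32 := fun h => by
      have hC : C = ⊤ := (card_eq_iff_eq_top C).1 (h.trans b.h32.symm)
      exact h1 (MulEquiv.ext fun y => (hC ▸ mem_top y : y ∈ C))
    rw [hm] at hmod h32
    have hm1 : m = 1 := by
      unfold Nat.ModEq at hmod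
      interval_cases m <;> simp_all
    intro x hx
    by_contra hno
    push Not at hno
    have h3 : ({1, z, x} : Finset E).card = 3 := by
      rw [Finset.card_insert_of_notMem, Finset.card_pair (Ne.symm hno.2)]
      simp [Ne.symm b.hz1, Ne.symm hno.1]
    have h4 : ({1, z, x} : Finset E).card ≤ Nat.card C := by
      rw [Nat.card_eq_fintype_card, Fintype.card_subtype]
      refine Finset.card_le_card fun y hy => ?_
      simp only [Finset.mem_insert, Finset.mem_singleton] at hy
      simp only [Finset.mem_filter, Finset.mem_univ, true_and]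
      rcases hy with rfl | rfl | rfl
      · exact one_mem C
      · exact haz
      · exact hx
    rw [h3, hm, hm1] at h4
    omega
  have hfixed : ∀ P : E → Prop, P 1 → P z → Nat.card {a // P a ∧ σ a = a} = 2 := by
    intro P h1' hz'
    rw [Nat.card_eq_fintype_card, Fintype.card_subtype,
      show (Finset.univ.filter fun a => P a ∧ σ a = a) = {1, z} from ?_, Finset.card_pair (Ne.symm b.hz1)]
    ext a
    simp only [Finset.mem_filter, Finset.mem_univ, true_and, Finset.mem_insert, Finset.mem_singleton]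
    refine ⟨fun h => hfix a h.2, ?_⟩
    rintro (rfl | rfl)
    · exact ⟨h1', map_one α⟩
    · exact ⟨hz', haz⟩
  -- twelve square roots of one
  have hinvP : ∀ a, σ a * σ a = 1 ↔ a * a = 1 := fun a => by
    show α a * α a = 1 ↔ _
    rw [← map_mul, EmbeddingLike.map_eq_one_iff]
  have hS : Nat.card {x : E // x * x = 1} = 12 := by
    have h := card_modEq_fixed_of_invariant σ hσ (fun a => a * a = 1) hinvP
    rw [hfixed (fun a => a * a = 1) (one_mul 1) b.hz] at h
    have hsum : ∑ x : E, chi x = 2 * (Nat.card {x : E // x * x = 1} : ℤ) - 32 := by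
      have h1 : ∀ x : E, chi x = 2 * (if x * x = 1 then 1 else 0) - 1 := fun x => by
        unfold chi; split_ifs <;> norm_num
      rw [Finset.sum_congr rfl (fun x _ => h1 x), Finset.sum_sub_distrib, ← Finset.mul_sum, Finset.sum_boole,
        Nat.card_eq_fintype_card, Fintype.card_subtype, Finset.sum_const, Finset.card_univ,
        ← Nat.card_eq_fintype_card, b.h32]
      norm_num
    have hg := gauss b
    rw [hsum] at hg
    set S := Nat.card {x : E // x * x = 1}
    have hle : S ≤ 32 := b.h32 ▸ Nat.card_le_card_of_injective _ Subtype.val_injective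
    unfold Nat.ModEq at h
    interval_cases S <;> simp_all
  refine ⟨b, fun A hA => ?_⟩
  by_contra hlt
  push Not at hlt
  set A' := A ⊔ zpowers z with hA'def
  have hA' : IsElementaryAbelian 2 A' := by
    refine CfsgLib.PGroup.elemAb_sup hA (CfsgLib.PGroup.elemAb_zpowers (by rw [pow_two, b.hz])) ?_
    rintro a - _ ⟨j, rfl⟩
    exact ((show Commute a z from b.hzc a).zpow_right j).eq
  set S : Finset E := Finset.univ.filter (fun x => x * x = 1) with hSdef
  have hScard : S.card = 12 := by rw [← hS, Nat.card_eq_fintype_card, Fintype.card_subtype]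
  let F : Subgroup E → Finset E := fun B => Finset.univ.filter (fun x => x ∈ B)
  have hF : ∀ B, (F B).card = Nat.card B := fun B => by
    rw [Nat.card_eq_fintype_card, Fintype.card_subtype]
  have hcardA : Nat.card A' = 8 := by
    have h1 : Nat.card A ≤ Nat.card A' := card_le_of_le le_sup_left
    have h2 : (F A').card ≤ S.card := Finset.card_le_card fun x hx => Finset.mem_filter.2
      ⟨Finset.mem_univ _, by rw [← pow_two]; exact hA'.2 x (Finset.mem_filter.1 hx).2⟩
    rw [hF, hScard] at h2
    obtain ⟨i, hi5, hi⟩ := (Nat.dvd_prime_pow Nat.prime_two).1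
      (show Nat.card A' ∣ 2 ^ 5 by rw [show 2 ^ 5 = 32 from rfl, ← b.h32]; exact card_subgroup_dvd_card A')
    rw [hi] at h1 h2 ⊢
    interval_cases i <;> omega
  have hzA : z ∈ A' := mem_sup_right (mem_zpowers z)
  set A'' := A'.map α.toMonoidHom with hA''def
  have hne : A'' ≠ A' := by
    intro h
    have hinv : ∀ a, σ a ∈ A' ↔ a ∈ A' := fun a => by
      constructor
      · intro ha
        rw [← h] at ha
        obtain ⟨c, hc, hce⟩ := ha
        have : c = a := α.injective hce
        exact this ▸ hc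
      · intro ha
        rw [← h]
        exact ⟨a, ha, rfl⟩
    have h := card_modEq_fixed_of_invariant σ hσ (fun a => a ∈ A') hinv
    rw [hfixed (fun a => a ∈ A') (one_mem _) hzA] at h
    have h8 : Nat.card {a // a ∈ A'} = 8 := hcardA
    rw [h8] at h
    exact absurd h (by decide)
  have hcard'' : Nat.card A'' = 8 := by
    rw [← hcardA]; exact (Nat.card_congr (A'.equivMapOfInjective _ α.injective).toEquiv).symm
  have hsub' : ∀ x ∈ A', x ∈ S := fun x hx =>
    Finset.mem_filter.2 ⟨Finset.mem_univ _, by rw [← pow_two]; exact hA'.2 x hx⟩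
  have hsub'' : ∀ x ∈ A'', x ∈ S := by
    rintro _ ⟨c, hc, rfl⟩
    exact Finset.mem_filter.2 ⟨Finset.mem_univ _, (hinvP c).2 (Finset.mem_filter.1 (hsub' c hc)).2⟩
  have hI : Nat.card ↥(A' ⊓ A'') ≤ 4 := by
    obtain ⟨i, hi3, hi⟩ := (Nat.dvd_prime_pow Nat.prime_two).1
      (show Nat.card ↥(A' ⊓ A'') ∣ 2 ^ 3 by
        rw [show 2 ^ 3 = 8 from rfl, ← hcardA]; exact card_dvd_of_le inf_le_left)
    have hlt' : i ≠ 3 := fun h => by
      have h1 : A' ⊓ A'' = A' := eq_of_le_of_card_ge inf_le_left (by rw [hi, h, hcardA]; norm_num)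
      have h2 : A' ≤ A'' := inf_eq_left.1 h1
      exact hne (eq_of_le_of_card_ge h2 (by rw [hcard'', hcardA])).symm
    rw [hi]
    interval_cases i <;> simp_all
  have hu := Finset.card_union_add_card_inter (F A') (F A'')
  have hFi : F A' ∩ F A'' = F (A' ⊓ A'') := by ext x; simp [F]
  rw [hFi, hF, hF, hF, hcardA, hcard''] at hu
  have hsubU : F A' ∪ F A'' ⊆ S := fun x hx => by
    rcases Finset.mem_union.1 hx with h | h
    · exact hsub' x (Finset.mem_filter.1 h).2
    · exact hsub'' x (Finset.mem_filter.1 h).2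
  have hU12 := Finset.card_le_card hsubU
  rw [hScard] at hU12
  have hUeq : F A' ∪ F A'' = S := Finset.eq_of_subset_of_card_le hsubU (by rw [hScard]; omega)
  -- a noncentral involution commuting with all involutions
  obtain ⟨x, hxA, hxA', hx1, hxz⟩ : ∃ x, x ∈ A' ∧ x ∈ A'' ∧ x ≠ 1 ∧ x ≠ z := by
    by_contra hno
    push Not at hno
    have : (F (A' ⊓ A'')).card ≤ ({1, z} : Finset E).card := Finset.card_le_card fun y hy => by
      have hy' := (Finset.mem_filter.1 hy).2
      simp only [Finset.mem_insert, Finset.mem_singleton]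
      by_cases h1 : y = 1
      · exact Or.inl h1
      · exact Or.inr (hno y hy'.1 hy'.2 h1)
    rw [hF, Finset.card_pair (Ne.symm b.hz1)] at this
    omega
  have hA''c : IsElementaryAbelian 2 A'' := CfsgLib.PGroup.elemAb_map hA' _
  have hxall : ∀ y : E, y * y = 1 → x * y = y * x := fun y hy => by
    have : y ∈ F A' ∪ F A'' := hUeq ▸ Finset.mem_filter.2 ⟨Finset.mem_univ _, hy⟩
    rcases Finset.mem_union.1 this with h | h
    · exact CfsgLib.PGroup.elemAb_comm hA' hxA (Finset.mem_filter.1 h).2
    · exact CfsgLib.PGroup.elemAb_comm hA''c hxA' (Finset.mem_filter.1 h).2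
  -- the subgroup of central square roots of one
  let T : Subgroup E :=
    { carrier := {p | p * p = 1 ∧ ∀ y : E, y * y = 1 → p * y = y * p}
      one_mem' := ⟨one_mul 1, fun y _ => by rw [one_mul, mul_one]⟩
      mul_mem' := fun {p q} hp hq => by
        refine ⟨?_, fun y hy => ?_⟩
        · calc p * q * (p * q) = p * (q * p) * q := by group
            _ = p * (p * q) * q := by rw [← hp.2 q hq.1]
            _ = (p * p) * (q * q) := by group
            _ = 1 := by rw [hp.1, hq.1, one_mul]
        · rw [mul_assoc, hq.2 y hy, ← mul_assoc, hp.2 y hy, mul_assoc]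
      inv_mem' := fun {p} hp => by
        rw [inv_eq_of_mul_eq_one_right hp.1]
        exact hp }
  have hTinv : ∀ a, σ a ∈ T ↔ a ∈ T := fun a => by
    show (α a * α a = 1 ∧ ∀ y : E, y * y = 1 → α a * y = y * α a) ↔ (a * a = 1 ∧ ∀ y : E, y * y = 1 → a * y = y * a)
    refine and_congr (hinvP a) ⟨fun h y hy => α.injective ?_, fun h y hy => ?_⟩
    · rw [map_mul, map_mul]
      exact h _ ((hinvP y).2 hy)
    · obtain ⟨w, rfl⟩ := α.surjective y
      rw [← map_mul, ← map_mul, h w ((hinvP w).1 hy)]
  have hzT : z ∈ T := ⟨b.hz, fun y _ => (b.hzc y).symm⟩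
  have hxT : x ∈ T := ⟨by rw [← pow_two]; exact hA'.2 x hxA, hxall⟩
  have hT5 := card_modEq_fixed_of_invariant σ hσ (fun a => a ∈ T) hTinv
  rw [hfixed (fun a => a ∈ T) (one_mem _) hzT] at hT5
  have hT12 : (F T).card ≤ S.card := Finset.card_le_card fun p hp =>
    Finset.mem_filter.2 ⟨Finset.mem_univ _, ((Finset.mem_filter.1 hp).2).1⟩
  rw [hF, hScard] at hT12
  have hT3 : ({1, z, x} : Finset E).card ≤ (F T).card := Finset.card_le_card fun y hy => by
    simp only [Finset.mem_insert, Finset.mem_singleton] at hy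
    refine Finset.mem_filter.2 ⟨Finset.mem_univ _, ?_⟩
    rcases hy with rfl | rfl | rfl
    · exact one_mem T
    · exact hzT
    · exact hxT
  rw [hF, Finset.card_insert_of_notMem (by simp [Ne.symm b.hz1, Ne.symm hx1]), Finset.card_pair (Ne.symm hxz)] at hT3
  obtain ⟨i, hi5, hi⟩ := (Nat.dvd_prime_pow Nat.prime_two).1
    (show Nat.card T ∣ 2 ^ 5 by rw [show 2 ^ 5 = 32 from rfl, ← b.h32]; exact card_subgroup_dvd_card T)
  have hT5' : Nat.card T % 5 = 2 := hT5
  rw [hi] at hT5' hT12 hT3
  interval_cases i <;> simp_all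

end minus

variable {G : Type*} [Group G]

/-- The centralizer of the involution and its extraspecial normal subgroup. -/
structure Setup (z : G) (Q : Subgroup G) : Prop where
  hz : orderOf z = 2
  hQH : Q ≤ centralizer {z}
  hnorm : centralizer {z} ≤ normalizer (Q : Set G)
  hE : IsExtraspecial 2 Q
  h32 : Nat.card Q = 32
  hH : Nat.card (centralizer ({z} : Set G)) = 1920
  hself : ∀ x ∈ centralizer ({z} : Set G), (∀ q ∈ Q, x * q = q * x) → x ∈ Q
  hnwc : ∃ g : G, g * z * g⁻¹ ∈ Q ∧ g * z * g⁻¹ ≠ z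

/-- Representatives of the five pairs and the permutation action of `H` on them. -/
structure Frame (z : G) (Q : Subgroup G) where
  /-- representatives of the pairs -/
  x : Fin 5 → G
  /-- the permutation of the pairs -/
  p : G → Equiv.Perm (Fin 5)
  hx : ∀ i, x i ∈ Q ∧ x i * x i = 1 ∧ x i ≠ 1 ∧ x i ≠ z
  hall : ∀ u ∈ Q, u * u = 1 → u ≠ 1 → u ≠ z → ∃ i, u = x i ∨ u = z * x i
  huniq : ∀ i j, (x j = x i ∨ x j = z * x i) → i = j
  hnc : ∀ i j, i ≠ j → x i * x j ≠ x j * x i
  hmul : ∀ h ∈ centralizer ({z} : Set G), ∀ k ∈ centralizer ({z} : Set G), p (h * k) = p h * p k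
  hact : ∀ h ∈ centralizer ({z} : Set G), ∀ i, h * x i * h⁻¹ = x (p h i) ∨ h * x i * h⁻¹ = z * x (p h i)
  hker : ∀ h ∈ centralizer ({z} : Set G), p h = 1 ↔ h ∈ Q
  hsign : ∀ h ∈ centralizer ({z} : Set G), Equiv.Perm.sign (p h) = 1
  hsurj : ∀ σ : Equiv.Perm (Fin 5), Equiv.Perm.sign σ = 1 → ∃ h ∈ centralizer ({z} : Set G), p h = σ

variable {z : G} {Q : Subgroup G}

namespace Setup

variable (st : Setup z Q)
include st

theorem zz : z * z = 1 := by rw [← pow_two, ← st.hz, pow_orderOf_eq_one]

theorem z_ne : z ≠ 1 := fun h => by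
  have := st.hz
  rw [h, orderOf_one] at this
  omega

theorem zc {h : G} (hh : h ∈ centralizer ({z} : Set G)) : h * z = z * h :=
  mem_centralizer_singleton_iff.1 hh

theorem z_mem_H : z ∈ centralizer ({z} : Set G) := mem_centralizer_singleton_iff.2 rfl

theorem z_mem : z ∈ Q := st.hself z st.z_mem_H fun q hq => (st.zc (st.hQH hq)).symm

theorem base [Finite G] : Base (⟨z, st.z_mem⟩ : Q) := by
  obtain ⟨w, b⟩ := exists_base st.hE st.h32
  have h1 : (⟨z, st.z_mem⟩ : Q) ∈ center Q := mem_center_iff.2 fun q => Subtype.ext (st.zc (st.hQH q.2))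
  rcases b.hcen _ h1 with e | e
  · exact absurd (congrArg Subtype.val e) st.z_ne
  · exact e ▸ b

/-- Conjugation on `Q`. -/
noncomputable def conjQ : ↥(centralizer ({z} : Set G)) →* MulAut Q :=
  (normalizerMonoidHom Q).comp (Subgroup.inclusion st.hnorm)

theorem conjQ_apply (h : ↥(centralizer ({z} : Set G))) (q : Q) :
    ((st.conjQ h q : Q) : G) = (h : G) * q * (h : G)⁻¹ := rfl

theorem conj_mem {h q : G} (hh : h ∈ centralizer ({z} : Set G)) (hq : q ∈ Q) : h * q * h⁻¹ ∈ Q :=
  (mem_normalizer_iff.1 (st.hnorm hh) q).1 hq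

theorem exists_five [Finite G] : ∃ f ∈ centralizer ({z} : Set G), orderOf f = 5 := by
  haveI : Fact (Nat.Prime 5) := ⟨by norm_num⟩
  obtain ⟨f, hf⟩ := exists_prime_orderOf_dvd_card' (G := centralizer ({z} : Set G)) 5 (by rw [st.hH]; norm_num)
  exact ⟨f, f.2, by rw [orderOf_coe, hf]⟩

theorem not_mem_of_order_five [Finite G] {f : G} (hf : orderOf f = 5) : f ∉ Q := fun h => by
  have := Subgroup.orderOf_dvd_natCard Q h
  rw [st.h32, hf] at this
  norm_num at this

theorem minus [Finite G] : Minus (⟨z, st.z_mem⟩ : Q) := by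
  obtain ⟨f, hfH, hf⟩ := st.exists_five
  refine minus_of_five st.base (st.conjQ ⟨f, hfH⟩) ?_ fun h => st.not_mem_of_order_five hf ?_
  · rw [← map_pow]
    have : (⟨f, hfH⟩ : ↥(centralizer ({z} : Set G))) ^ 5 = 1 := Subtype.ext (by
      rw [Subgroup.coe_pow, ← hf, pow_orderOf_eq_one, Subgroup.coe_one])
    rw [this, map_one]
  · refine st.hself f hfH fun q hq => ?_
    have e : (st.conjQ ⟨f, hfH⟩ ⟨q, hq⟩ : Q) = ⟨q, hq⟩ := by rw [h]; rfl
    have e' : f * q * f⁻¹ = q := congrArg Subtype.val e
    exact mul_inv_eq_iff_eq_mul.1 e'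

theorem nonempty_frame [Finite G] : Nonempty (Frame z Q) := by
  classical
  set zq : Q := ⟨z, st.z_mem⟩ with hzq
  have b : Minus zq := st.minus
  have hc5 := card_pts b
  let e : pts zq ≃ Fin 5 := (Finite.equivFin _).trans (finCongr hc5)
  let r : Fin 5 → Q := fun i => (e.symm i).2.choose
  have hr : ∀ i, Inv' zq (r i) ∧ ((r i : Q) : Q ⧸ center Q) = (e.symm i : Q ⧸ center Q) :=
    fun i => (e.symm i).2.choose_spec
  let π : ↥(centralizer ({z} : Set G)) →* Equiv.Perm (Fin 5) :=
    (e.permCongrHom.toMonoidHom.comp (CfsgLib.PGroup.MinusThirtyTwoAut.perm b)).comp st.conjQ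
  have hπ : ∀ h i, π h i = e (CfsgLib.PGroup.MinusThirtyTwoAut.perm b (st.conjQ h) (e.symm i)) :=
    fun h i => rfl
  have hker : ∀ h, π h = 1 ↔ (h : G) ∈ Q := by
    intro h
    have h1 : π h = 1 ↔ st.conjQ h ∈ (CfsgLib.PGroup.MinusThirtyTwoAut.perm b).ker := by
      rw [MonoidHom.mem_ker]
      show e.permCongrHom _ = 1 ↔ _
      exact ⟨fun hh => e.permCongrHom.injective (hh.trans (map_one _).symm), fun hh => by rw [hh, map_one]⟩
    rw [h1, ker_perm b]
    constructor
    · rintro ⟨q, hq⟩
      have hm : (q : G)⁻¹ * h ∈ Q := by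
        refine st.hself _ (mul_mem (inv_mem (st.hQH q.2)) h.2) fun w hw => ?_
        have e1 : (h : G) * w * (h : G)⁻¹ = q * w * (q : G)⁻¹ := by
          have := congrArg (fun φ : MulAut Q => ((φ ⟨w, hw⟩ : Q) : G)) hq
          simpa [conjQ_apply] using this.symm
        calc (q : G)⁻¹ * h * w = (q : G)⁻¹ * ((h : G) * w * (h : G)⁻¹) * h := by group
          _ = _ := by rw [e1]; group
      simpa using mul_mem q.2 hm
    · intro hh
      exact ⟨⟨h, hh⟩, MulEquiv.ext fun w => Subtype.ext rfl⟩
  have hrange : π.range = alternatingGroup (Fin 5) := by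
    refine Equiv.Perm.eq_alternatingGroup_of_index_eq_two ?_
    have h1 := card_mul_index π.ker
    rw [index_ker, st.hH] at h1
    have h2 : Nat.card π.ker = 32 := by
      rw [← st.h32, ← Nat.card_congr (Subgroup.subgroupOfEquivOfLe st.hQH).toEquiv]
      have : π.ker = Q.subgroupOf (centralizer ({z} : Set G)) :=
        Subgroup.ext fun h => by rw [MonoidHom.mem_ker, hker, mem_subgroupOf]
      rw [this]
    have h3 := card_mul_index π.range
    rw [h2] at h1
    rw [Nat.card_perm, Nat.card_fin] at h3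
    rw [show Nat.factorial 5 = 120 from rfl] at h3
    have h60 : Nat.card π.range = 60 := by omega
    rw [h60] at h3
    omega
  refine ⟨{
    x := fun i => (r i : G)
    p := fun g => if hg : g ∈ centralizer ({z} : Set G) then π ⟨g, hg⟩ else 1
    hx := fun i => ⟨(r i).2, congrArg Subtype.val (hr i).1.1, fun h => (hr i).1.2.1 (Subtype.ext h),
      fun h => (hr i).1.2.2 (Subtype.ext h)⟩
    hall := ?_, huniq := ?_, hnc := ?_, hmul := ?_, hact := ?_, hker := ?_, hsign := ?_, hsurj := ?_ }⟩
  · intro u hu hu2 hu1 huz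
    have hI : Inv' zq ⟨u, hu⟩ :=
      ⟨Subtype.ext hu2, fun h => hu1 (congrArg Subtype.val h), fun h => huz (congrArg Subtype.val h)⟩
    refine ⟨e ⟨_, _, hI, rfl⟩, ?_⟩
    have h := (hr (e ⟨_, _, hI, rfl⟩)).2
    rw [Equiv.symm_apply_apply] at h
    rcases (mk_eq_iff b).1 h with h' | h'
    · exact Or.inl (congrArg Subtype.val h')
    · exact Or.inr (congrArg Subtype.val h')
  · intro i j hij
    have h : ((r i : Q) : Q ⧸ center Q) = (r j : Q) := by
      rw [mk_eq_iff b]
      rcases hij with h | h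
      · exact Or.inl (Subtype.ext h)
      · exact Or.inr (Subtype.ext h)
    rw [(hr i).2, (hr j).2] at h
    exact e.symm.injective (Subtype.ext h)
  · intro i j hij hc
    have h := eq_of_commute b (hr i).1 (hr j).1 (Subtype.ext hc)
    apply hij
    have h' : ((r i : Q) : Q ⧸ center Q) = (r j : Q) := (mk_eq_iff b).2 h
    rw [(hr i).2, (hr j).2] at h'
    exact e.symm.injective (Subtype.ext h')
  · intro h hh k hk
    rw [dif_pos hh, dif_pos hk, dif_pos (mul_mem hh hk), ← map_mul]
    rfl
  · intro h hh i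
    rw [dif_pos hh]
    have h1 : (((st.conjQ ⟨h, hh⟩ (r i) : Q)) : Q ⧸ center Q) = (r (π ⟨h, hh⟩ i) : Q) := by
      rw [(hr (π ⟨h, hh⟩ i)).2, hπ, Equiv.symm_apply_apply, ← ind_mk, (hr i).2]
      rfl
    rcases (mk_eq_iff b).1 h1.symm with h2 | h2
    · exact Or.inl (congrArg Subtype.val h2)
    · exact Or.inr (congrArg Subtype.val h2)
  · intro h hh
    rw [dif_pos hh]
    exact hker ⟨h, hh⟩
  · intro h hh
    rw [dif_pos hh, ← Equiv.Perm.mem_alternatingGroup, ← hrange]
    exact ⟨_, rfl⟩
  · intro σ hσ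
    rw [← Equiv.Perm.mem_alternatingGroup, ← hrange] at hσ
    obtain ⟨h, rfl⟩ := hσ
    exact ⟨h, h.2, by rw [dif_pos h.2]⟩

end Setup

end CfsgLib.HJType
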