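import Mathlib

/-!
Groups of Hall-Janko type: finite facts about even permutations of five points.
-/

set_option autoImplicit false
set_option synthInstance.maxSize 512
set_option synthInstance.maxHeartbeats 200000

namespace CfsgLib.HJType

/-- An even involution fixes one point and moves the other four in two pairs. -/
theorem perm_shape : ∀ σ : Equiv.Perm (Fin 5), Equiv.Perm.sign σ = 1 → σ ≠ 1 → σ * σ = 1 →
    ∀ i, σ i = i → ∃ j l, j ≠ i ∧ σ j ≠ i ∧ l ≠ i ∧ σ l ≠ i ∧ σ j ≠ j ∧ σ l ≠ l ∧ l ≠ j ∧ l ≠ σ j ∧ σ l ≠ j ∧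
      σ l ≠ σ j ∧ ∀ m, m ≠ i → m = j ∨ m = σ j ∨ m = l ∨ m = σ l := by decide +kernel

theorem perm_fixed : ∀ σ : Equiv.Perm (Fin 5), Equiv.Perm.sign σ = 1 → σ ≠ 1 → σ * σ = 1 → ∃ i, σ i = i := by
  decide +kernel

/-- The centraliser of an even involution. -/
theorem perm_cent_invol_card : ∀ σ : Equiv.Perm (Fin 5), Equiv.Perm.sign σ = 1 → σ ≠ 1 → σ * σ = 1 →
    Fintype.card {τ : Equiv.Perm (Fin 5) // Equiv.Perm.sign τ = 1 ∧ τ * σ = σ * τ} = 4 := by decide +kernel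

theorem perm_cent_invol : ∀ σ : Equiv.Perm (Fin 5), Equiv.Perm.sign σ = 1 → σ ≠ 1 → σ * σ = 1 →
    ∀ τ : Equiv.Perm (Fin 5), Equiv.Perm.sign τ = 1 → τ * σ = σ * τ → τ * τ = 1 ∧ ∀ i, σ i = i → τ i = i := by
  decide +kernel

theorem perm_cent_invol_moves : ∀ σ : Equiv.Perm (Fin 5), Equiv.Perm.sign σ = 1 → σ ≠ 1 → σ * σ = 1 →
    ∀ τ : Equiv.Perm (Fin 5), Equiv.Perm.sign τ = 1 → τ * σ = σ * τ → τ ≠ 1 → τ ≠ σ →
    ∀ j, σ j ≠ j → τ j ≠ j ∧ τ j ≠ σ j := by decide +kernel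

theorem perm_conj_invol : ∀ σ : Equiv.Perm (Fin 5), Equiv.Perm.sign σ = 1 → σ ≠ 1 → σ * σ = 1 →
    ∀ τ : Equiv.Perm (Fin 5), Equiv.Perm.sign τ = 1 → τ ≠ 1 → τ * τ = 1 →
    ∃ ρ : Equiv.Perm (Fin 5), Equiv.Perm.sign ρ = 1 ∧ ρ * σ = τ * ρ := by decide +kernel

/-- A permutation of order three. -/
theorem perm_three : ∀ σ : Equiv.Perm (Fin 5), σ ≠ 1 → σ * σ * σ = 1 →
    (∀ τ : Equiv.Perm (Fin 5), Equiv.Perm.sign τ = 1 → τ * σ = σ * τ → τ = 1 ∨ τ = σ ∨ τ = σ * σ) ∧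
    ∃ a j k, σ a ≠ a ∧ σ j = j ∧ σ k = k ∧ j ≠ k ∧ σ (σ a) ≠ a ∧ σ a ≠ j ∧ σ a ≠ k ∧ a ≠ j ∧ a ≠ k := by
  decide +kernel

theorem perm_three_inv : ∀ σ : Equiv.Perm (Fin 5), Equiv.Perm.sign σ = 1 → σ ≠ 1 → σ * σ * σ = 1 →
    ∀ τ : Equiv.Perm (Fin 5), Equiv.Perm.sign τ = 1 → τ ≠ 1 → τ * τ * τ = 1 →
    ∃ ρ : Equiv.Perm (Fin 5), Equiv.Perm.sign ρ = 1 ∧ ρ * σ = τ * ρ := by decide +kernel


/-- A permutation of order five. -/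
theorem perm_five : ∀ σ : Equiv.Perm (Fin 5), σ ≠ 1 → σ * σ * σ * σ * σ = 1 →
    ∀ τ : Equiv.Perm (Fin 5), τ * σ = σ * τ →
      τ = 1 ∨ τ = σ ∨ τ = σ * σ ∨ τ = σ * σ * σ ∨ τ = σ * σ * σ * σ := by decide +kernel

theorem perm_three_card : ∀ σ : Equiv.Perm (Fin 5), Equiv.Perm.sign σ = 1 → σ ≠ 1 → σ * σ * σ = 1 →
    Fintype.card {τ : Equiv.Perm (Fin 5) // Equiv.Perm.sign τ = 1 ∧ τ * σ = σ * τ} = 3 := by decide +kernel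

theorem perm_five_card : ∀ σ : Equiv.Perm (Fin 5), σ ≠ 1 → σ * σ * σ * σ * σ = 1 →
    Fintype.card {τ : Equiv.Perm (Fin 5) // Equiv.Perm.sign τ = 1 ∧ τ * σ = σ * τ} = 5 := by decide +kernel

theorem perm_no_invol : ∀ σ : Equiv.Perm (Fin 5), Equiv.Perm.sign σ = 1 →
    σ * σ ≠ 1 → ∀ τ : Equiv.Perm (Fin 5), Equiv.Perm.sign τ = 1 → τ * σ = σ * τ → τ * τ = 1 → τ = 1 := by
  decide +kernel

theorem perm_transitive : ∀ i j : Fin 5, ∃ ρ : Equiv.Perm (Fin 5), Equiv.Perm.sign ρ = 1 ∧ ρ i = j := by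
  decide +kernel

end CfsgLib.HJType
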