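import Mathlib
import Cfsg.Agent.Lib.HJType.Frame
import Cfsg.Agent.Lib.HJType.PermFacts

/-!
Groups of Hall-Janko type: the internal structure of the centralizer of the central involution.
-/

set_option autoImplicit false
set_option linter.style.haveILetI false
set_option linter.unusedSectionVars false

namespace CfsgLib.HJType

open Subgroup

variable {G : Type*} [Group G] {z : G} {Q : Subgroup G}

/-- Anticommuting elements. -/
def Anti (z a b : G) : Prop := a * b = z * (b * a)

namespace Frame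

variable (F : Frame z Q)

/-- The elements of the pair of index `i`. -/
def InPair (i : Fin 5) (u : G) : Prop := u = F.x i ∨ u = z * F.x i

end Frame

namespace Setup

variable (st : Setup z Q)
include st

theorem qz {a : G} (ha : a ∈ Q) : a * z = z * a := st.zc (st.hQH ha)

theorem qz' {a : G} (ha : a ∈ centralizer ({z} : Set G)) (b : G) : a * (z * b) = z * (a * b) := by
  rw [← mul_assoc, st.zc ha, mul_assoc]

theorem zzc (u : G) : z * (z * u) = u := by rw [← mul_assoc, st.zz, one_mul]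

theorem anti_symm {a b : G} (h : Anti z a b) : Anti z b a := by
  unfold Anti at h ⊢
  rw [h, st.zzc]

theorem comm_cases [Finite G] {a b : G} (ha : a ∈ Q) (hb : b ∈ Q) : a * b = b * a ∨ Anti z a b := by
  rcases CfsgLib.InvolChar.MinusThirtyTwo.comm_cases st.base ⟨a, ha⟩ ⟨b, hb⟩ with h | h
  · exact Or.inl (congrArg Subtype.val h)
  · exact Or.inr (congrArg Subtype.val h)

theorem sq_cases [Finite G] {a : G} (ha : a ∈ Q) : a * a = 1 ∨ a * a = z := by
  rcases CfsgLib.InvolChar.MinusThirtyTwo.sq_cases st.base ⟨a, ha⟩ with h | h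
  · exact Or.inl (congrArg Subtype.val h)
  · exact Or.inr (congrArg Subtype.val h)

theorem comm_of_anti_anti {a b c : G} (ha : a ∈ Q) (h1 : Anti z a c) (h2 : Anti z b c) :
    a * b * c = c * (a * b) := by
  unfold Anti at h1 h2
  rw [mul_assoc, h2, ← mul_assoc, st.qz ha, mul_assoc, ← mul_assoc a c, h1, mul_assoc, mul_assoc, st.zzc]

theorem anti_of_anti_comm {a b c : G} (h1 : Anti z a c) (h2 : b * c = c * b) : Anti z (a * b) c := by
  unfold Anti at h1 ⊢
  rw [mul_assoc, h2, ← mul_assoc, h1, mul_assoc, mul_assoc]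

theorem anti_of_comm_anti {a b c : G} (ha : a ∈ Q) (h1 : a * c = c * a) (h2 : Anti z b c) :
    Anti z (a * b) c := by
  unfold Anti at h2 ⊢
  rw [mul_assoc, h2, st.qz' (st.hQH ha), ← mul_assoc a c, h1, mul_assoc]

theorem not_anti_self {a : G} : ¬ Anti z a a := fun h => st.z_ne (mul_eq_right.1 h.symm)

variable (F : Frame z Q)

theorem anti_x [Finite G] {i j : Fin 5} (h : i ≠ j) : Anti z (F.x i) (F.x j) :=
  (st.comm_cases (F.hx i).1 (F.hx j).1).resolve_left (F.hnc i j h)

theorem zx_mem (i : Fin 5) : z * F.x i ∈ Q := mul_mem st.z_mem (F.hx i).1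

theorem inPair_mem {i : Fin 5} {u : G} (h : F.InPair i u) : u ∈ Q := by
  rcases h with rfl | rfl
  · exact (F.hx i).1
  · exact st.zx_mem F i

theorem inPair_z {i : Fin 5} {u : G} (h : F.InPair i u) : F.InPair i (z * u) := by
  rcases h with rfl | rfl
  · exact Or.inr rfl
  · exact Or.inl (st.zzc _)

theorem inPair_mul_self {i : Fin 5} {u u' : G} (h : F.InPair i u) (h' : F.InPair i u') :
    u * u' = 1 ∨ u * u' = z := by
  have e := (F.hx i).2.1
  have ec := st.qz (F.hx i).1
  rcases h with rfl | rfl <;> rcases h' with rfl | rfl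
  · exact Or.inl e
  · exact Or.inr (by rw [← mul_assoc, ec, mul_assoc, e, mul_one])
  · exact Or.inr (by rw [mul_assoc, e, mul_one])
  · exact Or.inl (by rw [mul_assoc, ← mul_assoc (F.x i), ec, mul_assoc z (F.x i), e, mul_one, st.zz])

/-- The product of representatives of four distinct pairs lies in the fifth pair. -/
theorem four [Finite G] {a b c d i : Fin 5} (hab : a ≠ b) (hac : a ≠ c) (had : a ≠ d) (hbc : b ≠ c)
    (hbd : b ≠ d) (hcd : c ≠ d) (hia : i ≠ a) (hib : i ≠ b) (hic : i ≠ c) (hid : i ≠ d) :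
    F.InPair i (F.x a * F.x b * (F.x c * F.x d)) := by
  set w := F.x a * F.x b with hw
  set w' := F.x c * F.x d with hw'
  have hwQ : w ∈ Q := mul_mem (F.hx a).1 (F.hx b).1
  have hwQ' : w' ∈ Q := mul_mem (F.hx c).1 (F.hx d).1
  have hwc := st.comm_of_anti_anti (F.hx a).1 (st.anti_x F hac) (st.anti_x F hbc)
  have hwd := st.comm_of_anti_anti (F.hx a).1 (st.anti_x F had) (st.anti_x F hbd)
  have hw'a := st.comm_of_anti_anti (F.hx c).1 (st.anti_x F (Ne.symm hac)) (st.anti_x F (Ne.symm had))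
  have hw'b := st.comm_of_anti_anti (F.hx c).1 (st.anti_x F (Ne.symm hbc)) (st.anti_x F (Ne.symm hbd))
  rw [← hw] at hwc hwd
  rw [← hw'] at hw'a hw'b
  have hww' : w * w' = w' * w := by
    rw [hw', ← mul_assoc, hwc, mul_assoc, hwd, ← mul_assoc]
  have hA : ∀ m, m = a ∨ m = b ∨ m = c ∨ m = d → Anti z (w * w') (F.x m) := by
    rintro m (rfl | rfl | rfl | rfl)
    · exact st.anti_of_anti_comm (st.anti_of_comm_anti (F.hx m).1 rfl (st.anti_x F (Ne.symm hab))) hw'a
    · exact st.anti_of_anti_comm (st.anti_of_anti_comm (st.anti_x F hab) rfl) hw'b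
    · exact st.anti_of_comm_anti hwQ hwc (st.anti_of_comm_anti (F.hx m).1 rfl (st.anti_x F (Ne.symm hcd)))
    · exact st.anti_of_comm_anti hwQ hwd (st.anti_of_anti_comm (st.anti_x F hcd) rfl)
  have hsq : ∀ p q : Fin 5, p ≠ q → F.x p * F.x q * (F.x p * F.x q) = z := fun p q h => by
    have e : F.x q * F.x p = z * (F.x p * F.x q) := st.anti_x F (Ne.symm h)
    calc F.x p * F.x q * (F.x p * F.x q) = F.x p * (F.x q * F.x p) * F.x q := by group
      _ = F.x p * (z * (F.x p * F.x q)) * F.x q := by rw [e]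
      _ = z * (F.x p * F.x p) * (F.x q * F.x q) := by
          rw [st.qz' (st.hQH (F.hx p).1)]; group
      _ = z := by rw [(F.hx p).2.1, (F.hx q).2.1, mul_one, mul_one]
  have h2 : w * w' * (w * w') = 1 := by
    calc w * w' * (w * w') = w * (w' * w) * w' := by group
      _ = w * (w * w') * w' := by rw [← hww']
      _ = (w * w) * (w' * w') := by group
      _ = 1 := by rw [hw, hw', hsq a b hab, hsq c d hcd, st.zz]
  have h1 : w * w' ≠ 1 := fun h => st.z_ne (mul_eq_right.1 (by
    have := hA a (Or.inl rfl)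
    rw [Anti, h, one_mul, mul_one] at this
    exact this.symm))
  have hz : w * w' ≠ z := fun h => st.z_ne (mul_eq_right.1 (by
    have := hA a (Or.inl rfl)
    rw [Anti, h, st.qz (F.hx a).1] at this
    exact this.symm))
  obtain ⟨m, hm⟩ := F.hall _ (mul_mem hwQ hwQ') h2 h1 hz
  by_cases hmi : m = i
  · exact hmi ▸ hm
  exfalso
  have hm' : m = a ∨ m = b ∨ m = c ∨ m = d := by
    have : ∀ a b c d i m : Fin 5, a ≠ b → a ≠ c → a ≠ d → b ≠ c → b ≠ d → c ≠ d → i ≠ a → i ≠ b → i ≠ c →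
        i ≠ d → m ≠ i → m = a ∨ m = b ∨ m = c ∨ m = d := by decide +kernel
    exact this a b c d i m hab hac had hbc hbd hcd hia hib hic hid hmi
  have h3 := hA m hm'
  rcases hm with h | h <;> rw [h] at h3
  · exact st.not_anti_self h3
  · unfold Anti at h3
    rw [st.qz' (st.hQH (F.hx m).1), mul_assoc, (F.hx m).2.1, mul_one, st.zz] at h3
    exact st.z_ne h3

/-- An involution of `H` outside `Q`: its permutation. -/
theorem p_invol {v : G} (hv : v ∈ centralizer ({z} : Set G)) (hvQ : v ∉ Q) (h2 : v * v = 1) :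
    Equiv.Perm.sign (F.p v) = 1 ∧ F.p v ≠ 1 ∧ F.p v * F.p v = 1 :=
  ⟨F.hsign v hv, fun h => hvQ ((F.hker v hv).1 h),
    by rw [← F.hmul v hv v hv, h2, (F.hker 1 (one_mem _)).2 (one_mem _)]⟩

theorem conj_inPair {h : G} (hh : h ∈ centralizer ({z} : Set G)) {i : Fin 5} {u : G} (hu : F.InPair i u) :
    F.InPair (F.p h i) (h * u * h⁻¹) := by
  rcases hu with rfl | rfl
  · exact F.hact h hh i
  · have e : h * (z * F.x i) * h⁻¹ = z * (h * F.x i * h⁻¹) := by rw [st.qz' hh, mul_assoc z]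
    rw [e]
    exact st.inPair_z F (F.hact h hh i)

theorem conj_pair_mul {h : G} (hh : h ∈ centralizer ({z} : Set G)) (a b : Fin 5) :
    h * (F.x a * F.x b) * h⁻¹ = F.x (F.p h a) * F.x (F.p h b) ∨
      h * (F.x a * F.x b) * h⁻¹ = z * (F.x (F.p h a) * F.x (F.p h b)) := by
  rw [show h * (F.x a * F.x b) * h⁻¹ = (h * F.x a * h⁻¹) * (h * F.x b * h⁻¹) by group]
  have hc := st.qz' (st.hQH (F.hx (F.p h a)).1)
  rcases F.hact h hh a with e | e <;> rcases F.hact h hh b with e' | e' <;> rw [e, e']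
  · exact Or.inl rfl
  · exact Or.inr (hc _)
  · exact Or.inr (mul_assoc _ _ _)
  · exact Or.inl (by rw [mul_assoc, hc, st.zzc])

/-- An involution outside `Q` inverts the products over its moved pairs and centralises its fixed pair. -/
theorem invol_facts [Finite G] {v : G} (hv : v ∈ centralizer ({z} : Set G)) (hvQ : v ∉ Q) (h2 : v * v = 1)
    {i : Fin 5} (hi : F.p v i = i) :
    v * F.x i = F.x i * v ∧
      ∀ j, F.p v j ≠ j → v * (F.x j * F.x (F.p v j)) * v = z * (F.x j * F.x (F.p v j)) := by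
  obtain ⟨hs, hne, hpp⟩ := st.p_invol F hv hvQ h2
  have hvi : v⁻¹ = v := inv_eq_of_mul_eq_one_right h2
  have hinv : ∀ j, F.p v j ≠ j → v * (F.x j * F.x (F.p v j)) * v = z * (F.x j * F.x (F.p v j)) := by
    intro j hj
    set k := F.p v j with hk
    have hkj : F.x k * F.x j = z * (F.x j * F.x k) := st.anti_x F hj
    have hvk : ∀ e : G, v * F.x j * v = e → v * e * v = F.x j := by
      rintro e rfl
      calc v * (v * F.x j * v) * v = (v * v) * F.x j * (v * v) := by group
        _ = _ := by rw [h2, one_mul, mul_one]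
    have hsplit : v * (F.x j * F.x k) * v = (v * F.x j * v) * (v * F.x k * v) := by
      calc v * (F.x j * F.x k) * v = v * F.x j * 1 * F.x k * v := by group
        _ = _ := by rw [← h2]; group
    rw [hsplit]
    rcases F.hact v hv j with e | e <;> rw [hvi, ← hk] at e
    · rw [e, hvk _ e, hkj]
    · have e' := hvk _ e
      have e'' : v * F.x k * v = z * F.x j := by
        rw [← e', st.qz' hv, mul_assoc z, ← mul_assoc z z, st.zz, one_mul]
      rw [e, e'', mul_assoc, st.qz' (st.hQH (F.hx k).1), st.zzc, hkj]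
  refine ⟨?_, hinv⟩
  obtain ⟨j, l, hji, hsji, hli, hsli, hjj, hll, hlj, hlsj, hslj, hslsj, -⟩ := perm_shape _ hs hne hpp i hi
  set k := F.p v j with hk
  set m := F.p v l with hm
  have hfour := st.four F (Ne.symm hjj) (Ne.symm hlj) (Ne.symm hslj) (Ne.symm hlsj) (Ne.symm hslsj)
    (Ne.symm hll) (Ne.symm hji) (Ne.symm hsji) (Ne.symm hli) (Ne.symm hsli)
  set P := F.x j * F.x k * (F.x l * F.x m) with hP
  have hvP : v * P * v = P := by
    calc v * P * v = (v * (F.x j * F.x k) * v) * (v * (F.x l * F.x m) * v) := by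
          rw [show (v * (F.x j * F.x k) * v) * (v * (F.x l * F.x m) * v)
            = v * (F.x j * F.x k) * (v * v) * (F.x l * F.x m) * v by group, h2, hP]
          group
      _ = _ := by
          rw [hinv j hjj, hinv l hll, mul_assoc, st.qz' (st.hQH (mul_mem (F.hx j).1 (F.hx k).1)), st.zzc]
  have hvP' : v * P = P * v := by
    calc v * P = v * P * (v * v) := by rw [h2, mul_one]
      _ = (v * P * v) * v := by group
      _ = P * v := by rw [hvP]
  rcases hfour with h | h
  · rw [← h]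
    exact hvP'
  · rw [h, st.qz' hv, mul_assoc] at hvP'
    exact mul_left_cancel hvP'

/-- The subgroup of elements of `Q` fixed modulo `⟨z⟩` by an element of `H`. -/
def Fix {h : G} (hh : h ∈ centralizer ({z} : Set G)) : Subgroup G where
  carrier := {q | q ∈ Q ∧ (h * q * h⁻¹ = q ∨ h * q * h⁻¹ = z * q)}
  one_mem' := ⟨one_mem _, Or.inl (by group)⟩
  mul_mem' := fun {a b} ha hb => by
    refine ⟨mul_mem ha.1 hb.1, ?_⟩
    rw [show h * (a * b) * h⁻¹ = (h * a * h⁻¹) * (h * b * h⁻¹) by group]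
    rcases ha.2 with e | e <;> rcases hb.2 with e' | e' <;> rw [e, e']
    · exact Or.inl rfl
    · exact Or.inr (st.qz' (st.hQH ha.1) b)
    · exact Or.inr (mul_assoc _ _ _)
    · exact Or.inl (by rw [mul_assoc, st.qz' (st.hQH ha.1), st.zzc])
  inv_mem' := fun {a} ha => by
    refine ⟨inv_mem ha.1, ?_⟩
    rw [show h * a⁻¹ * h⁻¹ = (h * a * h⁻¹)⁻¹ by group]
    rcases ha.2 with e | e <;> rw [e]
    · exact Or.inl rfl
    · refine Or.inr ?_
      rw [mul_inv_rev, inv_eq_of_mul_eq_one_right st.zz, st.qz (inv_mem ha.1)]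

/-- A subgroup of `Q` missing two elements and their quotient has order at most eight. -/
theorem card_le_eight [Finite G] {K : Subgroup G} (hK : K ≤ Q) {a b : G} (ha : a ∈ Q) (hb : b ∈ Q)
    (h1 : a ∉ K) (h2 : b ∉ K) (h3 : a⁻¹ * b ∉ K) : Nat.card K ≤ 8 := by
  classical
  set K' := K.subgroupOf Q with hK'
  have hc : Nat.card K' = Nat.card K := Nat.card_congr (Subgroup.subgroupOfEquivOfLe hK).toEquiv
  have hm := card_mul_index K'
  rw [st.h32] at hm
  have h3' : 3 ≤ K'.index := by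
    have hf : Function.Injective (![((1 : Q) : Q ⧸ K'), ((⟨a, ha⟩ : Q) : Q ⧸ K'), ((⟨b, hb⟩ : Q) : Q ⧸ K')]) := by
      intro s t hst
      fin_cases s <;> fin_cases t <;>
        first
          | rfl
          | (exfalso
             simp [QuotientGroup.eq, hK', mem_subgroupOf] at hst
             first
               | exact h1 hst
               | exact h2 hst
               | exact h3 hst
               | exact h3 (by simpa using inv_mem hst))
    simpa [Subgroup.index] using Nat.card_le_card_of_injective _ hf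
  rw [← hc]
  obtain ⟨n, hn5, hn⟩ : ∃ n ≤ 5, K'.index = 2 ^ n := (Nat.dvd_prime_pow Nat.prime_two).1
    (show K'.index ∣ 2 ^ 5 from ⟨Nat.card K', by rw [mul_comm, hm]; norm_num⟩)
  rw [hn] at hm h3'
  interval_cases n <;> omega

/-- The fixed four-group of an involution outside `Q`. -/
theorem fixed_of_invol [Finite G] {v : G} (hv : v ∈ centralizer ({z} : Set G)) (hvQ : v ∉ Q) (h2 : v * v = 1)
    {i : Fin 5} (hi : F.p v i = i) :
    Nat.card ↥(Q ⊓ centralizer ({v} : Set G)) = 4 ∧ Nat.card ↥(st.Fix (h := v) hv) ≤ 8 ∧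
      ∀ q ∈ Q, v * q = q * v → q = 1 ∨ q = z ∨ q = F.x i ∨ q = z * F.x i := by
  classical
  haveI := Fintype.ofFinite G
  obtain ⟨hs, hne, hpp⟩ := st.p_invol F hv hvQ h2
  obtain ⟨hvx, hinv⟩ := st.invol_facts F hv hvQ h2 hi
  obtain ⟨j, l, hji, hsji, hli, hsli, hjj, hll, hlj, hlsj, hslj, hslsj, -⟩ := perm_shape _ hs hne hpp i hi
  have hvi : v⁻¹ = v := inv_eq_of_mul_eq_one_right h2
  have hK : Nat.card ↥(st.Fix (h := v) hv) ≤ 8 := by
    refine st.card_le_eight (fun q hq => hq.1) (F.hx j).1 (F.hx l).1 ?_ ?_ ?_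
    · rintro ⟨-, h⟩
      have hc := st.conj_inPair F hv (Or.inl rfl : F.InPair j (F.x j))
      refine hjj ?_
      rcases h with h | h <;> rw [h] at hc <;> rcases hc with e | e
      · exact F.huniq _ _ (Or.inl e)
      · exact F.huniq _ _ (Or.inr e)
      · exact F.huniq _ _ (Or.inr (by rw [← e, st.zzc]))
      · exact F.huniq _ _ (Or.inl (mul_left_cancel e))
    · rintro ⟨-, h⟩
      have hc := st.conj_inPair F hv (Or.inl rfl : F.InPair l (F.x l))
      refine hll ?_
      rcases h with h | h <;> rw [h] at hc <;> rcases hc with e | e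
      · exact F.huniq _ _ (Or.inl e)
      · exact F.huniq _ _ (Or.inr e)
      · exact F.huniq _ _ (Or.inr (by rw [← e, st.zzc]))
      · exact F.huniq _ _ (Or.inl (mul_left_cancel e))
    · rw [inv_eq_of_mul_eq_one_right (F.hx j).2.1]
      rintro ⟨-, h⟩
      set k := F.p v j with hk
      set m := F.p v l with hm
      have hfour := st.four F (Ne.symm hlj) (Ne.symm hslj) (Ne.symm hjj) (Ne.symm hll) hlsj
        hslsj (Ne.symm hji) (Ne.symm hli) (Ne.symm hsli) (Ne.symm hsji)
      have hmk : F.x m * F.x k = z * (F.x k * F.x m) := st.anti_x F hslsj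
      have hP : F.x j * F.x l * (F.x k * F.x m) = 1 ∨ F.x j * F.x l * (F.x k * F.x m) = z := by
        have hsq : F.x j * F.x l * (F.x j * F.x l) = z := by
          calc F.x j * F.x l * (F.x j * F.x l) = F.x j * (F.x l * F.x j) * F.x l := by group
            _ = F.x j * (z * (F.x j * F.x l)) * F.x l := by
                rw [show F.x l * F.x j = z * (F.x j * F.x l) from st.anti_x F hlj]
            _ = z * (F.x j * F.x j) * (F.x l * F.x l) := by rw [st.qz' (st.hQH (F.hx j).1)]; group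
            _ = z := by rw [(F.hx j).2.1, (F.hx l).2.1, mul_one, mul_one]
        rcases h with h | h <;> rcases st.conj_pair_mul F hv j l with e | e <;> rw [h, ← hk, ← hm] at e
        · exact Or.inr (by rw [← e, hsq])
        · refine Or.inl ?_
          have : F.x k * F.x m = z * (F.x j * F.x l) := by
            conv_rhs => rw [e]
            rw [st.zzc]
          rw [this, st.qz' (st.hQH (mul_mem (F.hx j).1 (F.hx l).1)), hsq, st.zz]
        · exact Or.inl (by rw [← e, st.qz' (st.hQH (mul_mem (F.hx j).1 (F.hx l).1)), hsq, st.zz])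
        · refine Or.inr ?_
          rw [← mul_left_cancel e, hsq]
      have hflip : F.x j * F.x l * (F.x m * F.x k) = z * (F.x j * F.x l * (F.x k * F.x m)) := by
        rw [hmk, st.qz' (st.hQH (mul_mem (F.hx j).1 (F.hx l).1))]
      obtain ⟨-, -, hx1, hxz⟩ := F.hx i
      rcases hP with e | e <;> rw [e] at hflip <;> rw [hflip] at hfour <;>
        simp only [mul_one, st.zz] at hfour <;> rcases hfour with e' | e'
      · exact hxz e'.symm
      · exact hx1 (by rw [← st.zzc (F.x i), ← e', st.zz])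
      · exact hx1 e'.symm
      · exact hxz (by rw [← st.zzc (F.x i), ← e', mul_one])
  set C := Q ⊓ centralizer ({v} : Set G) with hC
  have hCK : C ≤ st.Fix (h := v) hv := fun q hq => ⟨hq.1, Or.inl (by
    rw [show v * q = q * v from (mem_centralizer_singleton_iff.1 hq.2).symm, mul_inv_cancel_right])⟩
  set w := F.x j * F.x (F.p v j) with hwdef
  have hwK : w ∈ st.Fix (h := v) hv :=
    ⟨mul_mem (F.hx j).1 (F.hx _).1, Or.inr (by rw [hvi]; exact hinv j hjj)⟩
  have hwC : w ∉ C := fun h => by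
    have e := hinv j hjj
    rw [show v * w = w * v from (mem_centralizer_singleton_iff.1 h.2).symm, mul_assoc, h2, mul_one] at e
    exact st.z_ne (mul_eq_right.1 e.symm)
  have hlt : Nat.card C < Nat.card ↥(st.Fix (h := v) hv) := by
    refine lt_of_le_of_ne (card_le_of_le hCK) fun e => hwC ?_
    exact (eq_of_le_of_card_ge hCK e.ge).symm ▸ hwK
  have hC4 : ({1, z, F.x i, z * F.x i} : Finset G) ⊆ Finset.univ.filter (fun q => q ∈ C) := by
    intro q hq
    simp only [Finset.mem_insert, Finset.mem_singleton] at hq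
    refine Finset.mem_filter.2 ⟨Finset.mem_univ _, ?_⟩
    have mz : z ∈ C := ⟨st.z_mem, mem_centralizer_singleton_iff.2 (st.zc hv).symm⟩
    have mx : F.x i ∈ C := ⟨(F.hx i).1, mem_centralizer_singleton_iff.2 hvx.symm⟩
    rcases hq with rfl | rfl | rfl | rfl
    · exact one_mem C
    · exact mz
    · exact mx
    · exact mul_mem mz mx
  obtain ⟨-, -, hx1, hxz⟩ := F.hx i
  have hcard4 : ({1, z, F.x i, z * F.x i} : Finset G).card = 4 := by
    have hzx1 : z * F.x i ≠ 1 := fun h => hxz (by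
      rw [← st.zzc (F.x i), h, mul_one])
    rw [Finset.card_insert_of_notMem (by simp [Ne.symm st.z_ne, Ne.symm hx1, Ne.symm hzx1]),
      Finset.card_insert_of_notMem (by simp [Ne.symm hxz, hx1]),
      Finset.card_pair (fun h => st.z_ne (mul_eq_right.1 h.symm))]
  have hCle : (Finset.univ.filter (fun q => q ∈ C)).card = Nat.card C := by
    rw [Nat.card_eq_fintype_card, Fintype.card_subtype]
  have hge : 4 ≤ Nat.card C := by rw [← hcard4, ← hCle]; exact Finset.card_le_card hC4
  have h4 : Nat.card C = 4 := by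
    obtain ⟨n, hn5, hn⟩ := (Nat.dvd_prime_pow Nat.prime_two).1
      (show Nat.card C ∣ 2 ^ 5 by rw [show 2 ^ 5 = 32 from rfl, ← st.h32]; exact card_dvd_of_le inf_le_left)
    rw [hn] at hge hlt ⊢
    interval_cases n <;> omega
  refine ⟨h4, hK, fun q hq hqv => ?_⟩
  have hm : q ∈ ({1, z, F.x i, z * F.x i} : Finset G) := by
    rw [Finset.eq_of_subset_of_card_le hC4 (by rw [hcard4, hCle, h4])]
    exact Finset.mem_filter.2 ⟨Finset.mem_univ _, hq, mem_centralizer_singleton_iff.2 hqv.symm⟩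
  simpa using hm

/-- The involutions in a coset of `Q` are conjugate under `Q`. -/
theorem coset_conj [Finite G] {u v : G} (hu : u ∈ centralizer ({z} : Set G)) (hv : v ∈ centralizer ({z} : Set G))
    (hvQ : v ∉ Q) (hu2 : u * u = 1) (hv2 : v * v = 1) (hp : F.p u = F.p v) :
    ∃ q ∈ Q, q * v * q⁻¹ = u := by
  classical
  haveI := Fintype.ofFinite G
  obtain ⟨hs, hne, hpp⟩ := st.p_invol F hv hvQ hv2
  obtain ⟨i, hi⟩ := perm_fixed _ hs hne hpp
  obtain ⟨h4, hK, -⟩ := st.fixed_of_invol F hv hvQ hv2 hi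
  have hvi : v⁻¹ = v := inv_eq_of_mul_eq_one_right hv2
  set J : Finset G := Finset.univ.filter (fun w => w * w = 1 ∧ v * w ∈ Q) with hJ
  have hJ8 : J.card ≤ 8 := by
    refine le_trans ?_ hK
    rw [Nat.card_eq_fintype_card, Fintype.card_subtype]
    refine Finset.card_le_card_of_injOn (fun w => v * w) ?_ (fun a _ b _ hab => mul_left_cancel hab)
    intro w hw
    obtain ⟨hw2, hwQ⟩ := (Finset.mem_filter.1 (Finset.mem_coe.1 hw)).2
    refine Finset.mem_coe.2 (Finset.mem_filter.2 ⟨Finset.mem_univ _, hwQ, ?_⟩)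
    have e : v * (v * w) * v⁻¹ = (v * w)⁻¹ := by
      rw [hvi, ← mul_assoc v v, hv2, one_mul, mul_inv_rev, hvi, inv_eq_of_mul_eq_one_right hw2]
    rw [e]
    rcases st.sq_cases hwQ with h | h
    · exact Or.inl (inv_eq_of_mul_eq_one_right h)
    · refine Or.inr (inv_eq_of_mul_eq_one_right ?_)
      rw [st.qz' (st.hQH hwQ), h, st.zz]
  set QF : Finset G := Finset.univ.filter (fun q => q ∈ Q) with hQF
  set O := QF.image (fun q => q * v * q⁻¹) with hO
  have hsub : O ⊆ J := by
    intro w hw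
    obtain ⟨q, hq, rfl⟩ := Finset.mem_image.1 hw
    have hq' := (Finset.mem_filter.1 hq).2
    refine Finset.mem_filter.2 ⟨Finset.mem_univ _, ?_, ?_⟩
    · rw [show q * v * q⁻¹ * (q * v * q⁻¹) = q * (v * v) * q⁻¹ by group, hv2, mul_one, mul_inv_cancel]
    · rw [show v * (q * v * q⁻¹) = (v * q * v) * q⁻¹ by group]
      exact mul_mem (show v * q * v ∈ Q by simpa only [hvi] using st.conj_mem hv hq') (inv_mem hq')
  have hfib : QF.card ≤ 4 * O.card := by
    refine Finset.card_le_mul_card_image QF 4 fun w hw => ?_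
    obtain ⟨q₀, hq₀, rfl⟩ := Finset.mem_image.1 hw
    refine le_trans ?_ h4.le
    rw [Nat.card_eq_fintype_card, Fintype.card_subtype]
    refine Finset.card_le_card_of_injOn (fun q => q₀⁻¹ * q) ?_ (fun a _ b _ hab => mul_left_cancel hab)
    intro q hq
    obtain ⟨hq', he⟩ := Finset.mem_filter.1 (Finset.mem_coe.1 hq)
    refine Finset.mem_coe.2 (Finset.mem_filter.2 ⟨Finset.mem_univ _,
      (mul_mem (inv_mem (Finset.mem_filter.1 hq₀).2) (Finset.mem_filter.1 hq').2 : q₀⁻¹ * q ∈ Q),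
      mem_centralizer_singleton_iff.2 ?_⟩)
    calc q₀⁻¹ * q * v = q₀⁻¹ * (q * v * q⁻¹) * q := by group
      _ = q₀⁻¹ * (q₀ * v * q₀⁻¹) * q := by rw [he]
      _ = v * (q₀⁻¹ * q) := by group
  have hQc : QF.card = 32 := by rw [← st.h32, Nat.card_eq_fintype_card, Fintype.card_subtype]
  have hOJ : O = J := Finset.eq_of_subset_of_card_le hsub (by omega)
  have huJ : u ∈ J := by
    refine Finset.mem_filter.2 ⟨Finset.mem_univ _, hu2, (F.hker _ (mul_mem hv hu)).1 ?_⟩
    rw [F.hmul v hv u hu, hp, hpp]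
  rw [← hOJ, hO] at huJ
  obtain ⟨q, hq, e⟩ := Finset.mem_image.1 huJ
  exact ⟨q, (Finset.mem_filter.1 hq).2, e⟩

/-- The involutions of `H` outside `Q` are conjugate in `H`. -/
theorem invol_conj [Finite G] {u v : G} (hu : u ∈ centralizer ({z} : Set G)) (hv : v ∈ centralizer ({z} : Set G))
    (huQ : u ∉ Q) (hvQ : v ∉ Q) (hu2 : u * u = 1) (hv2 : v * v = 1) :
    ∃ h ∈ centralizer ({z} : Set G), h * v * h⁻¹ = u := by
  obtain ⟨F⟩ := st.nonempty_frame
  obtain ⟨hs, hne, hpp⟩ := st.p_invol F hv hvQ hv2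
  obtain ⟨hs', hne', hpp'⟩ := st.p_invol F hu huQ hu2
  obtain ⟨ρ, hρ, hρe⟩ := perm_conj_invol _ hs hne hpp _ hs' hne' hpp'
  obtain ⟨h, hh, rfl⟩ := F.hsurj ρ hρ
  set v' := h * v * h⁻¹ with hv'
  have hv'H : v' ∈ centralizer ({z} : Set G) := mul_mem (mul_mem hh hv) (inv_mem hh)
  have e : v' * h = h * v := by rw [hv', inv_mul_cancel_right]
  have hp : F.p v' = F.p u := by
    have h1 := congrArg F.p e
    rw [F.hmul _ hv'H _ hh, F.hmul _ hh _ hv, hρe] at h1
    exact mul_right_cancel h1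
  have hv'Q : v' ∉ Q := fun hq => hne' (hp ▸ (F.hker _ hv'H).2 hq)
  have hv'2 : v' * v' = 1 := by
    rw [hv', show h * v * h⁻¹ * (h * v * h⁻¹) = h * (v * v) * h⁻¹ by group, hv2, mul_one, mul_inv_cancel]
  obtain ⟨q, hq, hqe⟩ := st.coset_conj F hu hv'H hv'Q hu2 hv'2 hp.symm
  exact ⟨q * h, mul_mem (st.hQH hq) hh, by rw [← hqe, hv']; group⟩

/-- All noncentral involutions of `Q` are conjugate in `H`. -/
theorem pair_conj [Finite G] {u u' : G} (hu : u ∈ Q) (hu2 : u * u = 1) (hu1 : u ≠ 1) (huz : u ≠ z)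
    (hu' : u' ∈ Q) (hu'2 : u' * u' = 1) (hu'1 : u' ≠ 1) (hu'z : u' ≠ z) :
    ∃ h ∈ centralizer ({z} : Set G), h * u * h⁻¹ = u' := by
  obtain ⟨F⟩ := st.nonempty_frame
  obtain ⟨i, hi⟩ := F.hall u hu hu2 hu1 huz
  obtain ⟨j, hj⟩ := F.hall u' hu' hu'2 hu'1 hu'z
  obtain ⟨ρ, hρ, hρi⟩ := perm_transitive i j
  obtain ⟨h, hh, rfl⟩ := F.hsurj ρ hρ
  have hc := st.conj_inPair F hh (show F.InPair i u from hi)
  rw [hρi] at hc
  by_cases he : h * u * h⁻¹ = u'
  · exact ⟨h, hh, he⟩
  have he' : z * (h * u * h⁻¹) = u' := by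
    rcases hc with e | e <;> rcases hj with e' | e' <;> rw [e]
    · exact absurd (e.trans e'.symm) he
    · exact e'.symm
    · rw [st.zzc]; exact e'.symm
    · exact absurd (e.trans e'.symm) he
  obtain ⟨k, hk⟩ : ∃ k, k ≠ j := exists_ne j
  refine ⟨F.x k * h, mul_mem (st.hQH (F.hx k).1) hh, ?_⟩
  rw [show F.x k * h * u * (F.x k * h)⁻¹ = F.x k * (h * u * h⁻¹) * (F.x k)⁻¹ by group,
    inv_eq_of_mul_eq_one_right (F.hx k).2.1, ← he']
  have ha : F.x k * F.x j = z * (F.x j * F.x k) := st.anti_x F hk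
  rcases hc with e | e <;> rw [e]
  · rw [ha, mul_assoc, mul_assoc, (F.hx k).2.1, mul_one]
  · rw [st.qz' (st.hQH (F.hx k).1), ha, mul_assoc, mul_assoc, mul_assoc, (F.hx k).2.1, mul_one]

/-- The permutations commuting with that of an involution lift to its centralizer. -/
theorem cent_invol_lift [Finite G] {v : G} (hv : v ∈ centralizer ({z} : Set G)) (hvQ : v ∉ Q) (h2 : v * v = 1)
    (τ : Equiv.Perm (Fin 5)) (hτ : Equiv.Perm.sign τ = 1) (hτc : τ * F.p v = F.p v * τ) :
    ∃ h ∈ centralizer ({z} : Set G), h * v = v * h ∧ F.p h = τ := by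
  obtain ⟨hs, hne, hpp⟩ := st.p_invol F hv hvQ h2
  by_cases hτ1 : τ = 1
  · exact ⟨1, one_mem _, by simp, by rw [hτ1, (F.hker 1 (one_mem _)).2 (one_mem _)]⟩
  obtain ⟨hττ, -⟩ := perm_cent_invol _ hs hne hpp τ hτ hτc
  obtain ⟨ρ, hρ, hρe⟩ := perm_conj_invol _ hs hne hpp _ hτ hτ1 hττ
  obtain ⟨g, hg, rfl⟩ := F.hsurj ρ hρ
  set u := g * v * g⁻¹ with hu
  have huH : u ∈ centralizer ({z} : Set G) := mul_mem (mul_mem hg hv) (inv_mem hg)
  have hpu : F.p u = τ := by
    have h1 := congrArg F.p (show u * g = g * v by rw [hu, inv_mul_cancel_right])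
    rw [F.hmul _ huH _ hg, F.hmul _ hg _ hv, hρe] at h1
    exact mul_right_cancel h1
  have hu2 : u * u = 1 := by
    rw [hu, show g * v * g⁻¹ * (g * v * g⁻¹) = g * (v * v) * g⁻¹ by group, h2, mul_one, mul_inv_cancel]
  have hui : u⁻¹ = u := inv_eq_of_mul_eq_one_right hu2
  have hw : u * v * u ∈ centralizer ({z} : Set G) := mul_mem (mul_mem huH hv) huH
  have hw2 : u * v * u * (u * v * u) = 1 := by
    rw [show u * v * u * (u * v * u) = u * v * (u * u) * v * u by group, hu2, mul_one, mul_assoc u, h2,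
      mul_one, hu2]
  have hpw : F.p (u * v * u) = F.p v := by
    rw [F.hmul _ (mul_mem huH hv) _ huH, F.hmul _ huH _ hv, hpu, hτc, mul_assoc, hττ, mul_one]
  obtain ⟨q, hq, e⟩ := st.coset_conj F hw hv hvQ hw2 h2 hpw
  refine ⟨q⁻¹ * u, mul_mem (inv_mem (st.hQH hq)) huH, ?_, ?_⟩
  · calc q⁻¹ * u * v = q⁻¹ * (u * v * u) * u := by
          rw [mul_assoc q⁻¹ (u * v * u), mul_assoc (u * v), hu2, mul_one, mul_assoc]
      _ = q⁻¹ * (q * v * q⁻¹) * u := by rw [e]
      _ = v * (q⁻¹ * u) := by group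
  · rw [F.hmul _ (inv_mem (st.hQH hq)) _ huH, (F.hker _ (inv_mem (st.hQH hq))).2 (inv_mem hq), one_mul, hpu]

/-- The centralizer of an involution outside `Q` centralises its fixed pair. -/
theorem cent_invol_fix [Finite G] {v : G} (hv : v ∈ centralizer ({z} : Set G)) (hvQ : v ∉ Q) (h2 : v * v = 1)
    {i : Fin 5} (hi : F.p v i = i) {h : G} (hh : h ∈ centralizer ({z} : Set G)) (hc : h * v = v * h) :
    h * F.x i = F.x i * h := by
  obtain ⟨hs, hne, hpp⟩ := st.p_invol F hv hvQ h2
  obtain ⟨-, -, hE⟩ := st.fixed_of_invol F hv hvQ h2 hi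
  have hx2 := (F.hx i).2.1
  by_cases hhQ : h ∈ Q
  · rcases hE h hhQ hc.symm with rfl | rfl | rfl | rfl
    · simp
    · exact (st.qz (F.hx i).1).symm
    · rfl
    · rw [mul_assoc, st.qz' (st.hQH (F.hx i).1)]
  have hcp : F.p h * F.p v = F.p v * F.p h := by rw [← F.hmul h hh v hv, hc, F.hmul v hv h hh]
  obtain ⟨hττ, hτi⟩ := perm_cent_invol _ hs hne hpp _ (F.hsign h hh) hcp
  have hih : F.p h i = i := hτi i hi
  rcases F.hact h hh i with e | e <;> rw [hih] at e
  · exact mul_inv_eq_iff_eq_mul.1 e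
  exfalso
  have hhx : h * F.x i = z * (F.x i * h) := by rw [mul_inv_eq_iff_eq_mul.1 e, mul_assoc]
  have hsQ : h * h ∈ Q := (F.hker _ (mul_mem hh hh)).1 (by rw [F.hmul h hh h hh, hττ])
  have hsv : v * (h * h) = h * h * v := by rw [← mul_assoc, ← hc, mul_assoc, ← hc, mul_assoc]
  rcases hE (h * h) hsQ hsv with hs' | hs' | hs' | hs'
  · have := (st.invol_facts F hh hhQ hs' hih).1
    rw [hhx] at this
    exact st.z_ne (mul_eq_right.1 this)
  · have hkH : h * F.x i ∈ centralizer ({z} : Set G) := mul_mem hh (st.hQH (F.hx i).1)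
    have e' : F.x i * h = z * (h * F.x i) := by rw [hhx, st.zzc]
    have hk2 : h * F.x i * (h * F.x i) = 1 := by
      calc h * F.x i * (h * F.x i) = h * (F.x i * h) * F.x i := by group
        _ = h * (z * (h * F.x i)) * F.x i := by rw [e']
        _ = z * (h * h) * (F.x i * F.x i) := by rw [st.qz' hh]; group
        _ = 1 := by rw [hs', hx2, st.zz, mul_one]
    have hkQ : h * F.x i ∉ Q := fun hq => hhQ (by simpa using mul_mem hq (inv_mem (F.hx i).1))
    have hki : F.p (h * F.x i) i = i := by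
      rw [F.hmul _ hh _ (st.hQH (F.hx i).1), (F.hker _ (st.hQH (F.hx i).1)).2 (F.hx i).1, mul_one, hih]
    have := (st.invol_facts F hkH hkQ hk2 hki).1
    rw [← mul_assoc (F.x i), mul_left_inj, hhx] at this
    exact st.z_ne (mul_eq_right.1 this)
  · exact st.z_ne (mul_eq_right.1 (by rw [← hhx, ← hs', mul_assoc] : z * (F.x i * h) = F.x i * h))
  · refine st.z_ne (mul_eq_right.1 (?_ : z * (F.x i * h) = F.x i * h))
    have hzx : F.x i = z * (h * h) := by rw [hs', st.zzc]
    rw [← hhx, hzx, st.qz' hh, mul_assoc z, mul_assoc]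

end Setup

end CfsgLib.HJType
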