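import Mathlib
import Cfsg.Agent.Lib.HJType.Local
import Cfsg.Agent.Lib.Invol.Counting

/-!
Groups of Hall-Janko type: centralizers inside the centralizer of the central involution.
-/

set_option autoImplicit false
set_option linter.style.haveILetI false
set_option linter.unusedSectionVars false

namespace CfsgLib.HJType

open Subgroup

variable {G : Type*} [Group G] {z : G} {Q : Subgroup G}

/-- Orbit and stabilizer for conjugation by a subgroup. -/
theorem card_class_mul [Finite G] {H : Subgroup G} {v : G} (hv : v ∈ H) :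
    Nat.card {y : G // ∃ h ∈ H, h * v * h⁻¹ = y} * Nat.card ↥(H ⊓ centralizer ({v} : Set G)) = Nat.card H := by
  classical
  rw [← CfsgLib.Invol.card_conjugates_mul (⟨v, hv⟩ : H)]
  congr 1
  · refine Nat.card_congr
      { toFun := fun y => ⟨⟨y.1, ?_⟩, ?_⟩
        invFun := fun y => ⟨(y.1 : G), ?_⟩
        left_inv := fun _ => rfl
        right_inv := fun _ => rfl }
    · obtain ⟨h, hh, e⟩ := y.2
      rw [← e]
      exact mul_mem (mul_mem hh hv) (inv_mem hh)
    · obtain ⟨h, hh, e⟩ := y.2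
      exact isConj_iff.2 ⟨⟨h, hh⟩, Subtype.ext e⟩
    · obtain ⟨h, e⟩ := isConj_iff.1 y.2
      exact ⟨h, h.2, congrArg Subtype.val e⟩
  · refine Nat.card_congr
      { toFun := fun y => ⟨⟨y.1, y.2.1⟩, mem_centralizer_singleton_iff.2
          (Subtype.ext (mem_centralizer_singleton_iff.1 y.2.2))⟩
        invFun := fun y => ⟨(y.1 : G), y.1.2, mem_centralizer_singleton_iff.2
          (congrArg Subtype.val (mem_centralizer_singleton_iff.1 y.2))⟩
        left_inv := fun _ => rfl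
        right_inv := fun _ => rfl }

/-- The action on the pairs as a homomorphism. -/
def Frame.pHom (F : Frame z Q) : ↥(centralizer ({z} : Set G)) →* Equiv.Perm (Fin 5) where
  toFun h := F.p h
  map_one' := (F.hker 1 (one_mem _)).2 (one_mem _)
  map_mul' h k := F.hmul h h.2 k k.2

namespace Setup

variable (st : Setup z Q)
include st

variable (F : Frame z Q)

theorem card_split [Finite G] {K : Subgroup G} (hK : K ≤ centralizer ({z} : Set G))
    (P : Equiv.Perm (Fin 5) → Prop) (hP : ∀ h ∈ K, P (F.p h)) (hP' : ∀ τ, P τ → ∃ h ∈ K, F.p h = τ) :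
    Nat.card K = Nat.card ↥(K ⊓ Q) * Nat.card {τ // P τ} := by
  let f : ↥K →* Equiv.Perm (Fin 5) := F.pHom.comp (Subgroup.inclusion hK)
  have h := card_mul_index f.ker
  rw [index_ker] at h
  rw [← h]
  congr 1
  · refine Nat.card_congr
      { toFun := fun x => ⟨(x.1 : G), x.1.2, (F.hker _ (hK x.1.2)).1 x.2⟩
        invFun := fun x => ⟨⟨x.1, x.2.1⟩, (F.hker _ (hK x.2.1)).2 x.2.2⟩
        left_inv := fun _ => rfl
        right_inv := fun _ => rfl }
  · refine Nat.card_congr (Equiv.subtypeEquivRight fun τ => ⟨?_, fun hτ => ?_⟩)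
    · rintro ⟨x, rfl⟩
      exact hP _ x.2
    · obtain ⟨x, hx, e⟩ := hP' τ hτ
      exact ⟨⟨x, hx⟩, e⟩

/-- Elements of odd prime order with the same permutation are conjugate under `Q`. -/
theorem conj_of_perm [Finite G] {n : ℕ} [Fact n.Prime] (hn : n ≠ 2) {r r' : G}
    (hr : r ∈ centralizer ({z} : Set G)) (hr' : r' ∈ centralizer ({z} : Set G)) (hp : F.p r = F.p r')
    (h1 : r ^ n = 1) (h1' : r' ^ n = 1) : ∃ q ∈ Q, q⁻¹ * r * q = r' := by
  classical
  have hmem : ∀ q : Q, r * q * r'⁻¹ ∈ Q := fun q => by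
    refine (F.hker _ (mul_mem (mul_mem hr (st.hQH q.2)) (inv_mem hr'))).1 ?_
    rw [F.hmul _ (mul_mem hr (st.hQH q.2)) _ (inv_mem hr'), F.hmul _ hr _ (st.hQH q.2),
      (F.hker _ (st.hQH q.2)).2 q.2, mul_one, hp, ← F.hmul _ hr' _ (inv_mem hr'), mul_inv_cancel,
      (F.hker 1 (one_mem _)).2 (one_mem _)]
  have hmem' : ∀ q : Q, r⁻¹ * q * r' ∈ Q := fun q => by
    refine (F.hker _ (mul_mem (mul_mem (inv_mem hr) (st.hQH q.2)) hr')).1 ?_
    rw [F.hmul _ (mul_mem (inv_mem hr) (st.hQH q.2)) _ hr', F.hmul _ (inv_mem hr) _ (st.hQH q.2),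
      (F.hker _ (st.hQH q.2)).2 q.2, mul_one, ← hp, ← F.hmul _ (inv_mem hr) _ hr, inv_mul_cancel,
      (F.hker 1 (one_mem _)).2 (one_mem _)]
  let σ : Equiv.Perm Q :=
    { toFun := fun q => ⟨r * q * r'⁻¹, hmem q⟩
      invFun := fun q => ⟨r⁻¹ * q * r', hmem' q⟩
      left_inv := fun q => Subtype.ext (by show r⁻¹ * (r * q * r'⁻¹) * r' = q; group)
      right_inv := fun q => Subtype.ext (by show r * (r⁻¹ * q * r') * r'⁻¹ = q; group) }
  have hpow : ∀ (k : ℕ) (q : Q), ((σ ^ k) q : G) = r ^ k * q * (r' ^ k)⁻¹ := by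
    intro k
    induction k with
    | zero => intro q; simp
    | succ k ih =>
      intro q
      rw [pow_succ σ, Equiv.Perm.mul_apply, ih]
      show r ^ k * (r * q * r'⁻¹) * (r' ^ k)⁻¹ = _
      rw [pow_succ r, pow_succ r', mul_inv_rev]
      simp only [mul_assoc]
  have hσ : σ ^ n = 1 := Equiv.ext fun q => Subtype.ext (by rw [hpow, h1, h1']; simp)
  have hmod := card_modEq_fixed σ hσ
  rw [st.h32] at hmod
  have hne : Nat.card {q : Q // σ q = q} ≠ 0 := by
    intro h0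
    rw [h0] at hmod
    have hd : n ∣ 2 ^ 5 := Nat.modEq_zero_iff_dvd.1 hmod
    exact hn ((Nat.prime_dvd_prime_iff_eq (Fact.out) Nat.prime_two).1 ((Fact.out : n.Prime).dvd_of_dvd_pow hd))
  obtain ⟨⟨q, hq⟩⟩ := (Nat.card_ne_zero.1 hne).1
  refine ⟨q, q.2, ?_⟩
  have e : r * (q : G) * r'⁻¹ = q := congrArg Subtype.val hq
  rw [mul_assoc, mul_inv_eq_iff_eq_mul.1 e]
  group

omit F

/-- The noncentral involutions of `Q`. -/
theorem card_X [Finite G] : Nat.card {u : G // u ∈ Q ∧ u * u = 1 ∧ u ≠ 1 ∧ u ≠ z} = 10 := by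
  classical
  obtain ⟨F⟩ := st.nonempty_frame
  let f : Fin 5 × Bool → {u : G // u ∈ Q ∧ u * u = 1 ∧ u ≠ 1 ∧ u ≠ z} := fun a =>
    if a.2 then ⟨F.x a.1, F.hx a.1⟩
    else ⟨z * F.x a.1, st.zx_mem F a.1, by
      rw [mul_assoc, ← mul_assoc (F.x a.1), st.qz (F.hx a.1).1, mul_assoc z, (F.hx a.1).2.1, mul_one, st.zz],
      fun h => (F.hx a.1).2.2.2 (by rw [← st.zzc (F.x a.1), h, mul_one]),
      fun h => (F.hx a.1).2.2.1 (mul_eq_left.1 h)⟩
  have hf : Function.Bijective f := by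
    constructor
    · rintro ⟨i, a⟩ ⟨j, b⟩ e
      cases a <;> cases b <;> simp only [f, Bool.false_eq_true, if_true, if_false, Subtype.mk.injEq] at e
      · rw [F.huniq i j (Or.inl (mul_left_cancel e).symm)]
      · rw [F.huniq i j (Or.inr e.symm)] at e
        exact absurd (mul_eq_right.1 e) st.z_ne
      · rw [F.huniq j i (Or.inr e)] at e
        exact absurd (mul_eq_right.1 e.symm) st.z_ne
      · rw [F.huniq i j (Or.inl e.symm)]
    · rintro ⟨u, hu⟩
      obtain ⟨i, e | e⟩ := F.hall u hu.1 hu.2.1 hu.2.2.1 hu.2.2.2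
      · exact ⟨(i, true), Subtype.ext (by simp [f, e])⟩
      · exact ⟨(i, false), Subtype.ext (by simp [f, e])⟩
  rw [← Nat.card_eq_of_bijective f hf, Nat.card_prod, Nat.card_fin, Nat.card_eq_fintype_card, Fintype.card_bool]

/-- The centralizer in `H` of an involution outside `Q`. -/
theorem cent_invol [Finite G] {v : G} (hv : v ∈ centralizer ({z} : Set G)) (hvQ : v ∉ Q) (h2 : v * v = 1) :
    Nat.card ↥(centralizer ({z} : Set G) ⊓ centralizer ({v} : Set G)) = 16 ∧
      Nat.card ↥(Q ⊓ centralizer ({v} : Set G)) = 4 ∧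
      (∀ q ∈ Q, q * v = v * q → q * q = 1) ∧
      (∀ h ∈ centralizer ({z} : Set G), h * v = v * h → ∀ q ∈ Q, q * v = v * q → h * q = q * h) ∧
      (∀ h ∈ centralizer ({z} : Set G), h * v = v * h → h * h ∈ Q) ∧
      Nat.card {u : G // (u ∈ Q ∧ u * u = 1 ∧ u ≠ 1 ∧ u ≠ z) ∧ u * v ≠ v * u} = 8 := by
  classical
  haveI := Fintype.ofFinite G
  obtain ⟨F⟩ := st.nonempty_frame
  obtain ⟨hs, hne, hpp⟩ := st.p_invol F hv hvQ h2
  obtain ⟨i, hi⟩ := perm_fixed _ hs hne hpp
  obtain ⟨h4, -, hE⟩ := st.fixed_of_invol F hv hvQ h2 hi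
  have hzx : ∀ h ∈ centralizer ({z} : Set G), h * v = v * h → h * (z * F.x i) = z * F.x i * h := by
    intro h hh hc
    rw [st.qz' hh, st.cent_invol_fix F hv hvQ h2 hi hh hc, mul_assoc]
  have hvx := (st.invol_facts F hv hvQ h2 hi).1
  refine ⟨?_, h4, ?_, ?_, ?_, ?_⟩
  · rw [st.card_split F inf_le_left (fun τ => Equiv.Perm.sign τ = 1 ∧ τ * F.p v = F.p v * τ)]
    · have e : (centralizer ({z} : Set G) ⊓ centralizer ({v} : Set G)) ⊓ Q = Q ⊓ centralizer ({v} : Set G) := by
        ext q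
        simp only [mem_inf]
        exact ⟨fun h => ⟨h.2, h.1.2⟩, fun h => ⟨⟨st.hQH h.1, h.2⟩, h.1⟩⟩
      rw [e, h4, Nat.card_eq_fintype_card, perm_cent_invol_card _ hs hne hpp]
    · rintro h ⟨hh, hc⟩
      exact ⟨F.hsign h hh, by
        rw [← F.hmul h hh v hv, mem_centralizer_singleton_iff.1 hc, F.hmul v hv h hh]⟩
    · rintro τ ⟨hτ, hτc⟩
      obtain ⟨h, hh, hc, e⟩ := st.cent_invol_lift F hv hvQ h2 τ hτ hτc
      exact ⟨h, ⟨hh, mem_centralizer_singleton_iff.2 hc⟩, e⟩
  · intro q hq hc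
    rcases hE q hq hc.symm with rfl | rfl | rfl | rfl
    · exact one_mul 1
    · exact st.zz
    · exact (F.hx i).2.1
    · rw [mul_assoc, st.qz' (st.hQH (F.hx i).1), (F.hx i).2.1, mul_one, st.zz]
  · intro h hh hc q hq hqc
    rcases hE q hq hqc.symm with rfl | rfl | rfl | rfl
    · simp
    · exact st.zc hh
    · exact st.cent_invol_fix F hv hvQ h2 hi hh hc
    · exact hzx h hh hc
  · intro h hh hc
    refine (F.hker _ (mul_mem hh hh)).1 ?_
    rw [F.hmul h hh h hh]
    exact (perm_cent_invol _ hs hne hpp _ (F.hsign h hh) (by rw [← F.hmul h hh v hv, hc, F.hmul v hv h hh])).1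
  · have h10 := st.card_X
    set X : Finset G := Finset.univ.filter (fun u => u ∈ Q ∧ u * u = 1 ∧ u ≠ 1 ∧ u ≠ z) with hX
    have hXc : X.card = 10 := by rw [← h10, Nat.card_eq_fintype_card, Fintype.card_subtype]
    have hsub : ({F.x i, z * F.x i} : Finset G) ⊆ X := by
      intro u hu
      simp only [Finset.mem_insert, Finset.mem_singleton] at hu
      refine Finset.mem_filter.2 ⟨Finset.mem_univ _, ?_⟩
      rcases hu with rfl | rfl
      · exact F.hx i
      · exact ⟨st.zx_mem F i, by rw [mul_assoc, st.qz' (st.hQH (F.hx i).1), (F.hx i).2.1, mul_one, st.zz],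
          fun h => (F.hx i).2.2.2 (by rw [← st.zzc (F.x i), h, mul_one]),
          fun h => (F.hx i).2.2.1 (mul_eq_left.1 h)⟩
    have hpair : ({F.x i, z * F.x i} : Finset G).card = 2 :=
      Finset.card_pair (fun h => st.z_ne (mul_eq_right.1 h.symm))
    have e : (Finset.univ.filter fun u : G => (u ∈ Q ∧ u * u = 1 ∧ u ≠ 1 ∧ u ≠ z) ∧ u * v ≠ v * u)
        = X \ {F.x i, z * F.x i} := by
      ext u
      simp only [Finset.mem_filter, Finset.mem_univ, true_and, Finset.mem_sdiff, hX, Finset.mem_insert,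
        Finset.mem_singleton, not_or]
      constructor
      · rintro ⟨hu, hne'⟩
        refine ⟨hu, fun e' => hne' (e' ▸ hvx.symm), fun e' => hne' ?_⟩
        rw [e', mul_assoc, ← hvx, st.qz' hv]
      · rintro ⟨hu, h3, h5⟩
        refine ⟨hu, fun hc => ?_⟩
        rcases hE u hu.1 hc.symm with h | h | h | h
        · exact hu.2.2.1 h
        · exact hu.2.2.2 h
        · exact h3 h
        · exact h5 h
    rw [Nat.card_eq_fintype_card, Fintype.card_subtype, e, Finset.card_sdiff_of_subset hsub, hXc, hpair]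

/-- The involutions of `H` outside `Q`. -/
theorem card_invol [Finite G] {v : G} (hv : v ∈ centralizer ({z} : Set G)) (hvQ : v ∉ Q) (h2 : v * v = 1) :
    Nat.card {y : G // y ∈ centralizer ({z} : Set G) ∧ y ∉ Q ∧ y * y = 1} = 120 := by
  have h := card_class_mul hv
  rw [(st.cent_invol hv hvQ h2).1, st.hH] at h
  have e : Nat.card {y : G // ∃ h ∈ centralizer ({z} : Set G), h * v * h⁻¹ = y} =
      Nat.card {y : G // y ∈ centralizer ({z} : Set G) ∧ y ∉ Q ∧ y * y = 1} := by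
    refine Nat.card_congr (Equiv.subtypeEquivRight fun y => ⟨?_, fun hy => st.invol_conj hy.1 hv hy.2.1 hvQ hy.2.2 h2⟩)
    rintro ⟨k, hk, rfl⟩
    refine ⟨mul_mem (mul_mem hk hv) (inv_mem hk), fun hq => hvQ ?_, ?_⟩
    · have := st.conj_mem (inv_mem hk) hq
      simpa [mul_assoc] using this
    · rw [show k * v * k⁻¹ * (k * v * k⁻¹) = k * (v * v) * k⁻¹ by group, h2, mul_one, mul_inv_cancel]
  omega

/-- The centralizer in `H` of an element of order three. -/
theorem cent_three [Finite G] {r : G} (hr : r ∈ centralizer ({z} : Set G)) (h3 : orderOf r = 3) :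
    Nat.card ↥(centralizer ({z} : Set G) ⊓ centralizer ({r} : Set G)) = 24 ∧
      (∀ w ∈ centralizer ({z} : Set G), w * r = r * w → w * w = 1 → w ∈ Q) ∧
      Nat.card ↥(Q ⊓ centralizer ({r} : Set G)) = 8 ∧
      (∀ c ∈ Q, c * r = r * c → (∀ q ∈ Q, q * r = r * q → c * q = q * c) → c = 1 ∨ c = z) ∧
      ∃ u ∈ Q, u * u = 1 ∧ u ≠ 1 ∧ u ≠ z ∧ u * r ≠ r * u := by
  classical
  haveI := Fintype.ofFinite G
  obtain ⟨F⟩ := st.nonempty_frame
  have hrQ : r ∉ Q := fun h => by
    have := Subgroup.orderOf_dvd_natCard Q h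
    rw [st.h32, h3] at this
    norm_num at this
  have hr3 : r * r * r = 1 := by rw [← pow_orderOf_eq_one r, h3, pow_succ, pow_two]
  have hσ1 : F.p r ≠ 1 := fun h => hrQ ((F.hker r hr).1 h)
  have hσ3 : F.p r * F.p r * F.p r = 1 := by
    rw [← F.hmul r hr r hr, ← F.hmul _ (mul_mem hr hr) r hr, hr3, (F.hker 1 (one_mem _)).2 (one_mem _)]
  obtain ⟨hcases, a, j, k, haa, hj, hk, hjk, haaa, haj, hak, hajk, hakk⟩ := perm_three _ hσ1 hσ3
  -- the fixed pairs are centralised
  have hfix : ∀ m, F.p r m = m → r * F.x m = F.x m * r := by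
    intro m hm
    rcases F.hact r hr m with e | e <;> rw [hm] at e
    · exact mul_inv_eq_iff_eq_mul.1 e
    exfalso
    have e3 : r * (r * (r * F.x m * r⁻¹) * r⁻¹) * r⁻¹ = F.x m := by
      calc _ = (r * r * r) * F.x m * (r * r * r)⁻¹ := by group
        _ = _ := by rw [hr3]; group
    have e' : ∀ y : G, r * (z * y) * r⁻¹ = z * (r * y * r⁻¹) := fun y => by rw [st.qz' hr, mul_assoc z]
    rw [e, e', e, st.zzc, e] at e3
    exact st.z_ne (mul_eq_right.1 e3)
  have hjC : F.x j ∈ Q ⊓ centralizer ({r} : Set G) :=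
    ⟨(F.hx j).1, mem_centralizer_singleton_iff.2 (hfix j hj).symm⟩
  have hkC : F.x k ∈ Q ⊓ centralizer ({r} : Set G) :=
    ⟨(F.hx k).1, mem_centralizer_singleton_iff.2 (hfix k hk).symm⟩
  have hzC : z ∈ Q ⊓ centralizer ({r} : Set G) :=
    ⟨st.z_mem, mem_centralizer_singleton_iff.2 (st.zc hr).symm⟩
  have hnot : ∀ m, F.p r m ≠ m → F.x m ∉ Q ⊓ centralizer ({r} : Set G) := by
    intro m hm hmem
    have e : r * F.x m * r⁻¹ = F.x m :=
      mul_inv_eq_iff_eq_mul.2 (mem_centralizer_singleton_iff.1 hmem.2).symm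
    rcases F.hact r hr m with e' | e' <;> rw [e] at e'
    · exact hm (F.huniq _ _ (Or.inl e'))
    · exact hm (F.huniq _ _ (Or.inr e'))
  set b := F.p r a with hb
  have hbb : F.p r b ≠ b := fun h => haa ((F.p r).injective h)
  have hab : a ≠ b := Ne.symm haa
  have hab' : (F.x a)⁻¹ * F.x b ∉ Q ⊓ centralizer ({r} : Set G) := by
    rw [inv_eq_of_mul_eq_one_right (F.hx a).2.1]
    intro hmem
    have e : r * (F.x a * F.x b) * r⁻¹ = F.x a * F.x b :=
      mul_inv_eq_iff_eq_mul.2 (mem_centralizer_singleton_iff.1 hmem.2).symm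
    have hca : a ≠ F.p r b := Ne.symm haaa
    have hkey : F.x b * F.x (F.p r b) = F.x a * F.x b ∨ F.x b * F.x (F.p r b) = z * (F.x a * F.x b) := by
      rcases st.conj_pair_mul F hr a b with e' | e' <;> rw [← hb, e] at e'
      · exact Or.inl e'.symm
      · exact Or.inr (by rw [e', st.zzc])
    have hanti : F.x a * F.x b = z * (F.x b * F.x a) := st.anti_x F hab
    rcases hkey with e' | e'
    · rw [hanti, ← st.qz' (st.hQH (F.hx b).1)] at e'
      exact hca (F.huniq _ _ (Or.inr (mul_left_cancel e')))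
    · rw [hanti, st.zzc] at e'
      exact hca (F.huniq _ _ (Or.inl (mul_left_cancel e')))
  have hle8 : Nat.card ↥(Q ⊓ centralizer ({r} : Set G)) ≤ 8 :=
    st.card_le_eight inf_le_left (F.hx a).1 (F.hx b).1 (hnot a haa) (hnot b hbb) hab'
  have hcjk : ∀ c ∈ Q, c * F.x j = F.x j * c → c * F.x k = F.x k * c →
      c ∈ ({1, z, F.x j, z * F.x j, F.x k, z * F.x k, F.x j * F.x k, z * (F.x j * F.x k)} : Finset G) →
      c = 1 ∨ c = z := by
    intro c hc h1 h2 hm
    simp only [Finset.mem_insert, Finset.mem_singleton] at hm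
    have hjk' := F.hnc j k hjk
    have hzp : ∀ p q : G, p ∈ Q → q ∈ Q → z * p * q = q * (z * p) → p * q = q * p := fun p q hp hq h => by
      rw [st.qz' (st.hQH hq), mul_assoc] at h
      exact mul_left_cancel h
    have hw : ¬ (F.x j * F.x k * F.x j = F.x j * (F.x j * F.x k)) := fun h => by
      rw [mul_assoc] at h
      exact hjk' (mul_left_cancel h).symm
    rcases hm with rfl | rfl | rfl | rfl | rfl | rfl | rfl | rfl
    · exact Or.inl rfl
    · exact Or.inr rfl
    · exact absurd h2 hjk'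
    · exact absurd (hzp _ _ (F.hx j).1 (F.hx k).1 h2) hjk'
    · exact absurd h1.symm hjk'
    · exact absurd (hzp _ _ (F.hx k).1 (F.hx j).1 h1).symm hjk'
    · exact absurd h1 hw
    · exact absurd (hzp _ _ (mul_mem (F.hx j).1 (F.hx k).1) (F.hx j).1 h1) hw
  set L : Finset G := {1, z, F.x j, z * F.x j, F.x k, z * F.x k, F.x j * F.x k, z * (F.x j * F.x k)} with hL
  have hLsub : L ⊆ Finset.univ.filter (fun q => q ∈ Q ⊓ centralizer ({r} : Set G)) := by
    intro q hq
    simp only [hL, Finset.mem_insert, Finset.mem_singleton] at hq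
    refine Finset.mem_filter.2 ⟨Finset.mem_univ _, ?_⟩
    rcases hq with rfl | rfl | rfl | rfl | rfl | rfl | rfl | rfl
    · exact one_mem _
    · exact hzC
    · exact hjC
    · exact mul_mem hzC hjC
    · exact hkC
    · exact mul_mem hzC hkC
    · exact mul_mem hjC hkC
    · exact mul_mem hzC (mul_mem hjC hkC)
  obtain ⟨-, hj2, hj1, hjz⟩ := F.hx j
  obtain ⟨-, hk2, hk1, hkz⟩ := F.hx k
  have hnkj : F.x k ≠ F.x j := fun h => hjk (F.huniq j k (Or.inl h))
  have hnkzj : F.x k ≠ z * F.x j := fun h => hjk (F.huniq j k (Or.inr h))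
  have hLc : L.card = 8 := by
    have hne1 : ∀ p q : G, p ≠ q → z * p ≠ z * q := fun p q h h' => h (mul_left_cancel h')
    have hzp : ∀ p q : G, p ≠ z * q → z * p ≠ q := fun p q h h' => h (by rw [← h', st.zzc])
    have hz1 := st.z_ne
    have hw1 : F.x j * F.x k ≠ 1 := fun h => hnkj (mul_left_cancel (h.trans hj2.symm))
    have hwz : F.x j * F.x k ≠ z := fun h => hnkzj (mul_left_cancel (a := F.x j) (by
      rw [h, st.qz' (st.hQH (F.hx j).1), hj2, mul_one]))
    have hwj : F.x j * F.x k ≠ F.x j := fun h => hk1 (mul_eq_left.1 h)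
    have hwzj : F.x j * F.x k ≠ z * F.x j := fun h => hkz (mul_left_cancel (a := F.x j) (by
      rw [h, st.qz (F.hx j).1]))
    have hwk : F.x j * F.x k ≠ F.x k := fun h => hj1 (mul_eq_right.1 h)
    have hwzk : F.x j * F.x k ≠ z * F.x k := fun h => hjz (mul_right_cancel h)
    have hzj1 : z * F.x j ≠ 1 := hzp _ _ (by rw [mul_one]; exact hjz)
    have hzk1 : z * F.x k ≠ 1 := hzp _ _ (by rw [mul_one]; exact hkz)
    have hzw1 : z * (F.x j * F.x k) ≠ 1 := hzp _ _ (by rw [mul_one]; exact hwz)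
    have hzjz : z * F.x j ≠ z := fun h => hj1 (mul_eq_left.1 h)
    have hzkz : z * F.x k ≠ z := fun h => hk1 (mul_eq_left.1 h)
    have hzwz : z * (F.x j * F.x k) ≠ z := fun h => hw1 (mul_eq_left.1 h)
    have a1 : z * F.x k ≠ F.x j := hzp _ _ hnkzj
    have a2 : z * (F.x j * F.x k) ≠ F.x j := hzp _ _ hwzj
    have a3 : z * (F.x j * F.x k) ≠ F.x k := hzp _ _ hwzk
    have a4 : z * F.x j ≠ F.x k := fun h => hnkzj h.symm
    have a5 : z * F.x j ≠ F.x j := fun h => hz1 (mul_eq_right.1 h)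
    have a6 : z * F.x k ≠ F.x k := fun h => hz1 (mul_eq_right.1 h)
    have a7 : z * (F.x j * F.x k) ≠ F.x j * F.x k := fun h => hz1 (mul_eq_right.1 h)
    have a8 := hne1 _ _ hwj
    have a9 := hne1 _ _ hwk
    have a10 := hne1 _ _ hnkj
    rw [hL, Finset.card_insert_of_notMem, Finset.card_insert_of_notMem, Finset.card_insert_of_notMem,
      Finset.card_insert_of_notMem, Finset.card_insert_of_notMem, Finset.card_insert_of_notMem,
      Finset.card_insert_of_notMem, Finset.card_singleton] <;>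
      simp only [Finset.mem_insert, Finset.mem_singleton, not_or]
    · exact a7.symm
    · exact ⟨fun h => hwzk h.symm, a9.symm⟩
    · exact ⟨a6.symm, hwk.symm, a3.symm⟩
    · exact ⟨a4, a10.symm, fun h => hwzj h.symm, a8.symm⟩
    · exact ⟨a5.symm, hnkj.symm, a1.symm, hwj.symm, a2.symm⟩
    · exact ⟨hjz.symm, hzjz.symm, hkz.symm, hzkz.symm, hwz.symm, hzwz.symm⟩
    · exact ⟨hz1.symm, hj1.symm, hzj1.symm, hk1.symm, hzk1.symm, hw1.symm, hzw1.symm⟩
  have hCc : (Finset.univ.filter (fun q => q ∈ Q ⊓ centralizer ({r} : Set G))).card =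
      Nat.card ↥(Q ⊓ centralizer ({r} : Set G)) := by
    rw [Nat.card_eq_fintype_card, Fintype.card_subtype]
  have h8 : Nat.card ↥(Q ⊓ centralizer ({r} : Set G)) = 8 := by
    have := Finset.card_le_card hLsub
    omega
  have hLeq : L = Finset.univ.filter (fun q => q ∈ Q ⊓ centralizer ({r} : Set G)) :=
    Finset.eq_of_subset_of_card_le hLsub (by rw [hCc, h8, hLc])
  have hsgn := F.hsign r hr
  have hσσ : F.p r * F.p r ≠ 1 := fun h => hσ1 (by
    have := hσ3
    rwa [h, one_mul] at this)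
  refine ⟨?_, ?_, h8, ?_, ⟨F.x a, (F.hx a).1, (F.hx a).2.1, (F.hx a).2.2.1, (F.hx a).2.2.2,
    fun h => hnot a haa ⟨(F.hx a).1, mem_centralizer_singleton_iff.2 h⟩⟩⟩
  · rw [st.card_split F inf_le_left (fun τ => Equiv.Perm.sign τ = 1 ∧ τ * F.p r = F.p r * τ)]
    · have e : (centralizer ({z} : Set G) ⊓ centralizer ({r} : Set G)) ⊓ Q = Q ⊓ centralizer ({r} : Set G) := by
        ext q
        simp only [mem_inf]
        exact ⟨fun h => ⟨h.2, h.1.2⟩, fun h => ⟨⟨st.hQH h.1, h.2⟩, h.1⟩⟩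
      rw [e, h8, Nat.card_eq_fintype_card, perm_three_card _ hsgn hσ1 hσ3]
    · rintro h ⟨hh, hc⟩
      exact ⟨F.hsign h hh, by
        rw [← F.hmul h hh r hr, mem_centralizer_singleton_iff.1 hc, F.hmul r hr h hh]⟩
    · rintro τ ⟨hτ, hτc⟩
      rcases hcases τ hτ hτc with e | e | e
      · exact ⟨1, one_mem _, by rw [e, (F.hker 1 (one_mem _)).2 (one_mem _)]⟩
      · exact ⟨r, ⟨hr, mem_centralizer_singleton_iff.2 rfl⟩, e.symm⟩
      · exact ⟨r * r, ⟨mul_mem hr hr, mem_centralizer_singleton_iff.2 (mul_assoc r r r)⟩,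
          by rw [e, F.hmul r hr r hr]⟩
  · intro w hw hc hw2
    refine (F.hker w hw).1 (perm_no_invol _ hsgn hσσ _ (F.hsign w hw) ?_ ?_)
    · rw [← F.hmul w hw r hr, hc, F.hmul r hr w hw]
    · rw [← F.hmul w hw w hw, hw2, (F.hker 1 (one_mem _)).2 (one_mem _)]
  · intro c hc hcr hall
    refine hcjk c hc (hall _ (F.hx j).1 (hfix j hj).symm) (hall _ (F.hx k).1 (hfix k hk).symm) ?_
    rw [hLeq]
    exact Finset.mem_filter.2 ⟨Finset.mem_univ _, hc, mem_centralizer_singleton_iff.2 hcr⟩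

/-- The elements of order three of `H` are conjugate in `H`. -/
theorem conj_three [Finite G] {r r' : G} (hr : r ∈ centralizer ({z} : Set G))
    (hr' : r' ∈ centralizer ({z} : Set G)) (h3 : orderOf r = 3) (h3' : orderOf r' = 3) :
    ∃ h ∈ centralizer ({z} : Set G), h * r * h⁻¹ = r' := by
  obtain ⟨F⟩ := st.nonempty_frame
  haveI : Fact (Nat.Prime 3) := ⟨Nat.prime_three⟩
  have key : ∀ s : G, s ∈ centralizer ({z} : Set G) → orderOf s = 3 →
      F.p s ≠ 1 ∧ F.p s * F.p s * F.p s = 1 := by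
    intro s hs hs3
    refine ⟨fun h => ?_, ?_⟩
    · have := Subgroup.orderOf_dvd_natCard Q ((F.hker s hs).1 h)
      rw [st.h32, hs3] at this
      norm_num at this
    · rw [← F.hmul s hs s hs, ← F.hmul _ (mul_mem hs hs) s hs, ← pow_two, ← pow_succ, show 2 + 1 = orderOf s by
        rw [hs3], pow_orderOf_eq_one, (F.hker 1 (one_mem _)).2 (one_mem _)]
  obtain ⟨k1, k3⟩ := key r hr h3
  obtain ⟨k1', k3'⟩ := key r' hr' h3'
  obtain ⟨ρ, hρ, hρe⟩ := perm_three_inv _ (F.hsign r hr) k1 k3 _ (F.hsign r' hr') k1' k3'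
  obtain ⟨g, hg, rfl⟩ := F.hsurj ρ hρ
  have hs : g * r * g⁻¹ ∈ centralizer ({z} : Set G) := mul_mem (mul_mem hg hr) (inv_mem hg)
  have hp : F.p (g * r * g⁻¹) = F.p r' := by
    have h1 := congrArg F.p (show g * r * g⁻¹ * g = g * r by group)
    rw [F.hmul _ hs _ hg, F.hmul _ hg _ hr, hρe] at h1
    exact mul_right_cancel h1
  obtain ⟨q, hq, e⟩ := st.conj_of_perm F (n := 3) (by norm_num) hs hr' hp
    (by rw [conj_pow, ← h3, pow_orderOf_eq_one, mul_one, mul_inv_cancel])
    (by rw [← h3', pow_orderOf_eq_one])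
  exact ⟨q⁻¹ * g, mul_mem (inv_mem (st.hQH hq)) hg, by rw [← e]; group⟩

/-- The centralizer in `H` of an element of order five. -/
theorem cent_five [Finite G] {f : G} (hf : f ∈ centralizer ({z} : Set G)) (h5 : orderOf f = 5) :
    Nat.card ↥(centralizer ({z} : Set G) ⊓ centralizer ({f} : Set G)) = 10 ∧
      ∀ w ∈ centralizer ({z} : Set G), w * f = f * w → w * w = 1 → w = 1 ∨ w = z := by
  classical
  haveI := Fintype.ofFinite G
  haveI : Fact (Nat.Prime 5) := ⟨by norm_num⟩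
  obtain ⟨F⟩ := st.nonempty_frame
  have hfQ := st.not_mem_of_order_five h5
  have hf5 : f ^ 5 = 1 := by rw [← h5, pow_orderOf_eq_one]
  set φ : MulAut Q := st.conjQ ⟨f, hf⟩ with hφ
  have hφ5 : φ ^ 5 = 1 := by
    rw [hφ, ← map_pow, show (⟨f, hf⟩ : ↥(centralizer ({z} : Set G))) ^ 5 = 1 from
      Subtype.ext (by rw [Subgroup.coe_pow, hf5, Subgroup.coe_one]), map_one]
  have hσ : (MulAut.toPerm Q φ) ^ 5 = 1 := by rw [← map_pow, hφ5, map_one]
  have hfixiff : ∀ q : Q, MulAut.toPerm Q φ q = q ↔ (q : G) * f = f * q := fun q => by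
    show φ q = q ↔ _
    rw [Subtype.ext_iff, hφ, st.conjQ_apply]
    exact mul_inv_eq_iff_eq_mul.trans ⟨fun h => h.symm, fun h => h.symm⟩
  set C := Q ⊓ centralizer ({f} : Set G) with hC
  have hmod : 32 ≡ Nat.card C [MOD 5] := by
    have h := card_modEq_fixed (MulAut.toPerm Q φ) hσ
    rw [st.h32] at h
    refine h.trans (congrArg (· % 5) (Nat.card_congr ?_))
    exact
      { toFun := fun q => ⟨q.1, q.1.2, mem_centralizer_singleton_iff.2 ((hfixiff q.1).1 q.2)⟩
        invFun := fun q => ⟨⟨q.1, q.2.1⟩, (hfixiff _).2 (mem_centralizer_singleton_iff.1 q.2.2)⟩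
        left_inv := fun _ => rfl
        right_inv := fun _ => rfl }
  obtain ⟨n, hn5, hn⟩ := (Nat.dvd_prime_pow Nat.prime_two).1
    (show Nat.card C ∣ 2 ^ 5 by rw [show 2 ^ 5 = 32 from rfl, ← st.h32]; exact card_dvd_of_le inf_le_left)
  have h32 : Nat.card C ≠ 32 := fun h => hfQ (st.hself f hf fun q hq => by
    have hCQ : C = Q := eq_of_le_of_card_ge inf_le_left (by rw [h, st.h32])
    exact (mem_centralizer_singleton_iff.1 (hCQ.symm ▸ hq : q ∈ C).2).symm)
  have hC2 : Nat.card C = 2 := by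
    rw [hn] at hmod h32 ⊢
    unfold Nat.ModEq at hmod
    interval_cases n <;> simp_all
  have hCmem : ∀ w ∈ Q, w * f = f * w → w = 1 ∨ w = z := by
    intro w hw hc
    by_contra hno
    push Not at hno
    have h3 : ({1, z, w} : Finset G).card ≤ Nat.card C := by
      rw [Nat.card_eq_fintype_card, Fintype.card_subtype]
      refine Finset.card_le_card fun y hy => ?_
      simp only [Finset.mem_insert, Finset.mem_singleton] at hy
      refine Finset.mem_filter.2 ⟨Finset.mem_univ _, ?_⟩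
      rcases hy with rfl | rfl | rfl
      · exact one_mem C
      · exact ⟨st.z_mem, mem_centralizer_singleton_iff.2 (st.zc hf).symm⟩
      · exact ⟨hw, mem_centralizer_singleton_iff.2 hc⟩
    rw [Finset.card_insert_of_notMem (by simp [Ne.symm st.z_ne, Ne.symm hno.1]),
      Finset.card_pair (Ne.symm hno.2)] at h3
    omega
  have hσ1 : F.p f ≠ 1 := fun h => hfQ ((F.hker f hf).1 h)
  have hσ5 : F.p f * F.p f * F.p f * F.p f * F.p f = 1 := by
    rw [← F.hmul f hf f hf, ← F.hmul _ (mul_mem hf hf) f hf, ← F.hmul _ (mul_mem (mul_mem hf hf) hf) f hf,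
      ← F.hmul _ (mul_mem (mul_mem (mul_mem hf hf) hf) hf) f hf,
      show f * f * f * f * f = f ^ 5 by simp [pow_succ], hf5, (F.hker 1 (one_mem _)).2 (one_mem _)]
  have hσσ : F.p f * F.p f ≠ 1 := fun h => hσ1 (by
    have := hσ5
    rwa [h, one_mul, h, one_mul] at this)
  refine ⟨?_, fun w hw hc hw2 => hCmem w ?_ hc⟩
  · rw [st.card_split F inf_le_left (fun τ => Equiv.Perm.sign τ = 1 ∧ τ * F.p f = F.p f * τ)]
    · have e : (centralizer ({z} : Set G) ⊓ centralizer ({f} : Set G)) ⊓ Q = C := by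
        ext q
        simp only [hC, mem_inf]
        exact ⟨fun h => ⟨h.2, h.1.2⟩, fun h => ⟨⟨st.hQH h.1, h.2⟩, h.1⟩⟩
      rw [e, hC2, Nat.card_eq_fintype_card, perm_five_card _ hσ1 hσ5]
    · rintro h ⟨hh, hc⟩
      exact ⟨F.hsign h hh, by
        rw [← F.hmul h hh f hf, mem_centralizer_singleton_iff.1 hc, F.hmul f hf h hh]⟩
    · rintro τ ⟨hτ, hτc⟩
      have hpow : ∀ m : ℕ, ∃ h ∈ centralizer ({z} : Set G) ⊓ centralizer ({f} : Set G), F.p h = F.p f ^ m :=
        fun m => ⟨f ^ m, ⟨pow_mem hf m, mem_centralizer_singleton_iff.2 ((Commute.refl f).pow_left m).eq⟩, by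
          exact map_pow F.pHom ⟨f, hf⟩ m⟩
      rcases perm_five _ hσ1 hσ5 τ hτc with e | e | e | e | e <;> rw [e]
      · simpa using hpow 0
      · simpa using hpow 1
      · simpa [pow_succ] using hpow 2
      · simpa [pow_succ] using hpow 3
      · simpa [pow_succ] using hpow 4
  · refine (F.hker w hw).1 (perm_no_invol _ (F.hsign f hf) hσσ _ (F.hsign w hw) ?_ ?_)
    · rw [← F.hmul w hw f hf, hc, F.hmul f hf w hw]
    · rw [← F.hmul w hw w hw, hw2, (F.hker 1 (one_mem _)).2 (one_mem _)]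

end Setup

end CfsgLib.HJType
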