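import Mathlib
import Cfsg.Agent.Lib.HJType.Counts
import Cfsg.Agent.Lib.HJType.Basics
import Cfsg.Agent.Lib.Transfer.Fusion

/-!
Groups of Hall-Janko type: the two classes of involutions.
-/

set_option autoImplicit false
set_option linter.style.haveILetI false
set_option linter.unusedSectionVars false

namespace CfsgLib.HJType

open Subgroup

variable {G : Type*} [Group G] {z : G} {Q : Subgroup G}

namespace Setup

variable (st : Setup z Q)
include st

/-- The noncentral involutions of `Q` are conjugate to `z`. -/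
theorem q_conj [Finite G] {u : G} (hu : u ∈ Q) (hu2 : u * u = 1) (hu1 : u ≠ 1) : IsConj z u := by
  by_cases huz : u = z
  · exact huz ▸ IsConj.refl z
  obtain ⟨g, hg, hgz⟩ := st.hnwc
  have h2 : g * z * g⁻¹ * (g * z * g⁻¹) = 1 := by
    rw [show g * z * g⁻¹ * (g * z * g⁻¹) = g * (z * z) * g⁻¹ by group, st.zz, mul_one, mul_inv_cancel]
  have h1 : g * z * g⁻¹ ≠ 1 := fun h => st.z_ne (conj_eq_one_iff.1 h)
  obtain ⟨h, -, e⟩ := st.pair_conj hg h2 h1 hgz hu hu2 hu1 huz
  exact isConj_iff.2 ⟨h * g, by rw [← e]; group⟩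

/-- Every involution is conjugate into `H`. -/
theorem conj_into_H [Finite G] {w : G} (hw : w * w = 1) : ∃ g : G, g * w * g⁻¹ ∈ centralizer ({z} : Set G) := by
  haveI : Fact (Nat.Prime 2) := ⟨Nat.prime_two⟩
  obtain ⟨T, hT⟩ := (IsPGroup.of_card (p := 2) (G := Q) (n := 5) (by rw [st.h32]; norm_num)).exists_le_sylow
  have hTH : (T : Subgroup G) ≤ centralizer ({z} : Set G) := by
    have hzT : z ∈ (T : Subgroup G) := hT st.z_mem
    haveI : Nontrivial (T : Subgroup G) :=
      ⟨⟨⟨z, hzT⟩, 1, fun h => st.z_ne (congrArg Subtype.val h)⟩⟩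
    haveI := T.2.center_nontrivial
    obtain ⟨c, hc⟩ := exists_ne (1 : Subgroup.center ↥(T : Subgroup G))
    set c' : G := ((c : ↥(T : Subgroup G)) : G) with hc'
    have hcomm : ∀ x ∈ (T : Subgroup G), x * c' = c' * x := fun x hx =>
      congrArg Subtype.val (mem_center_iff.1 c.2 ⟨x, hx⟩)
    have hcH : c' ∈ centralizer ({z} : Set G) := mem_centralizer_singleton_iff.2 (hcomm z hzT).symm
    have hcQ : c' ∈ Q := st.hself c' hcH fun q hq => (hcomm q (hT hq)).symm
    have hc1 : c' ≠ 1 := fun h => hc (Subtype.ext (Subtype.ext h))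
    have hcz : c' = z := by
      have hcen : (⟨c', hcQ⟩ : Q) ∈ Subgroup.center Q :=
        mem_center_iff.2 fun q => Subtype.ext (hcomm q (hT q.2))
      rcases st.base.hcen _ hcen with e | e
      · exact absurd (congrArg Subtype.val e) hc1
      · exact congrArg Subtype.val e
    exact fun x hx => mem_centralizer_singleton_iff.2 (hcz ▸ hcomm x hx)
  obtain ⟨k, -, hk⟩ := (Nat.dvd_prime_pow Nat.prime_two).1
    (orderOf_dvd_of_pow_eq_one (show w ^ 2 ^ 1 = 1 by rw [pow_one, pow_two, hw]))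
  obtain ⟨g, hg⟩ := CfsgLib.Transfer.exists_conj_mem_sylow T (S := zpowers w)
    (IsPGroup.of_card (n := k) (by rw [Nat.card_zpowers, hk]))
  exact ⟨g, hTH (hg w (mem_zpowers w))⟩

end Setup

/-- The central involution with an involution of the other class in its centralizer. -/
structure Pair (z t : G) (Q : Subgroup G) : Prop where
  st : Setup z Q
  ht : t ∈ centralizer ({z} : Set G)
  htQ : t ∉ Q
  ht2 : t * t = 1
  htz : ¬ IsConj z t

namespace Pair

variable {t : G} (P : Pair z t Q)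
include P

theorem t_ne : t ≠ 1 := fun h => P.htQ (h ▸ one_mem Q)

theorem ht' : orderOf t = 2 := orderOf_two_iff.2 ⟨P.ht2, P.t_ne⟩

theorem tz : t * z = z * t := P.st.zc P.ht

/-- The involutions of `H` outside `Q` are conjugate to `t`. -/
theorem out_conj [Finite G] {w : G} (hw : w ∈ centralizer ({z} : Set G)) (hwQ : w ∉ Q) (hw2 : w * w = 1) :
    IsConj t w := by
  obtain ⟨h, -, e⟩ := P.st.invol_conj hw P.ht hwQ P.htQ hw2 P.ht2
  exact isConj_iff.2 ⟨h, e⟩

theorem not_both {w : G} (h1 : IsConj z w) (h2 : IsConj t w) : False := P.htz (h1.trans h2.symm)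

theorem mem_Q_of_zclass [Finite G] {w : G} (hw : w ∈ centralizer ({z} : Set G)) (hc : IsConj z w) : w ∈ Q := by
  by_contra hwQ
  have hw2 : w * w = 1 := by
    obtain ⟨g, rfl⟩ := isConj_iff.1 hc
    rw [show g * z * g⁻¹ * (g * z * g⁻¹) = g * (z * z) * g⁻¹ by group, P.st.zz, mul_one, mul_inv_cancel]
  exact P.not_both hc (P.out_conj hw hwQ hw2)

theorem not_mem_Q_of_tclass [Finite G] {w : G} (hc : IsConj t w) : w ∉ Q := by
  intro hwQ
  obtain ⟨g, rfl⟩ := isConj_iff.1 hc
  refine P.not_both (P.st.q_conj hwQ ?_ fun h => P.t_ne (conj_eq_one_iff.1 h)) hc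
  rw [show g * t * g⁻¹ * (g * t * g⁻¹) = g * (t * t) * g⁻¹ by group, P.ht2, mul_one, mul_inv_cancel]

/-- There are exactly two classes of involutions. -/
theorem classes [Finite G] {w : G} (hw : w * w = 1) (hw1 : w ≠ 1) : IsConj z w ∨ IsConj t w := by
  obtain ⟨g, hg⟩ := P.st.conj_into_H hw
  have h2 : g * w * g⁻¹ * (g * w * g⁻¹) = 1 := by
    rw [show g * w * g⁻¹ * (g * w * g⁻¹) = g * (w * w) * g⁻¹ by group, hw, mul_one, mul_inv_cancel]
  by_cases hq : g * w * g⁻¹ ∈ Q
  · exact Or.inl ((P.st.q_conj hq h2 fun h => hw1 (conj_eq_one_iff.1 h)).trans (isConj_conj g w).symm)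
  · exact Or.inr ((P.out_conj hg hq h2).trans (isConj_conj g w).symm)

/-- An involution commuting with `t` which is conjugate to `z` is conjugate to `z` in the centralizer of `t`. -/
theorem conj_in_D [Finite G] {w : G} (hw : w * t = t * w) (hc : IsConj z w) :
    ∃ g ∈ centralizer ({t} : Set G), g * w * g⁻¹ = z := by
  obtain ⟨g, hg⟩ := isConj_iff.1 hc.symm
  have htH : g * t * g⁻¹ ∈ centralizer ({z} : Set G) := by
    rw [← hg, mem_centralizer_conj, mem_centralizer_singleton_iff]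
    exact hw.symm
  have h2 : g * t * g⁻¹ * (g * t * g⁻¹) = 1 := by
    rw [show g * t * g⁻¹ * (g * t * g⁻¹) = g * (t * t) * g⁻¹ by group, P.ht2, mul_one, mul_inv_cancel]
  obtain ⟨h, hh, e⟩ := P.st.invol_conj P.ht htH P.htQ (P.not_mem_Q_of_tclass (isConj_conj g t)) P.ht2 h2
  refine ⟨h * g, mem_centralizer_singleton_iff.2 ?_, ?_⟩
  · refine mul_inv_eq_iff_eq_mul.1 ?_
    rw [← show h * (g * t * g⁻¹) * h⁻¹ = h * g * t * (h * g)⁻¹ by group]
    exact e
  · rw [show h * g * w * (h * g)⁻¹ = h * (g * w * g⁻¹) * h⁻¹ by group, hg, P.st.zc hh, mul_inv_cancel_right]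

end Pair

end CfsgLib.HJType
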