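import Mathlib
import Cfsg.Prelude.Def_MonsterType
import Cfsg.Agent.Lib.HJType.Classes
import Cfsg.Agent.Lib.Cores.Components
import Cfsg.Agent.Lib.LargeExtra.SubExtra
import Cfsg.Agent.Lib.Classical.SmallIso.MinusFourTwo

/-!
Groups of Hall-Janko type: from the hypotheses of the statements to the working setting.
-/

set_option autoImplicit false
set_option linter.style.haveILetI false

namespace CfsgLib.HJType

open Subgroup

local notation "q4" => Cfsg.quadFormMinus 1 (ZMod 2) 1 1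

theorem card_omega : Nat.card ↥(Cfsg.Omega (ZMod 2) q4) = 60 := by
  obtain ⟨φ⟩ := CfsgLib.Classical.SmallIso.minus_four_two (F := ZMod 2) (ZMod.card 2)
  have hmap : (Cfsg.Omega (ZMod 2) q4).map φ.toMonoidHom = alternatingGroup (Fin 5) := by
    rw [← alternatingGroup.commutator_perm_eq (α := Fin 5) (by simp), Cfsg.Omega, _root_.commutator_def,
      Subgroup.map_commutator, Subgroup.map_top_of_surjective φ.toMonoidHom φ.surjective, _root_.commutator_def]
  rw [Nat.card_congr ((φ.subgroupMap (Cfsg.Omega (ZMod 2) q4)).trans (MulEquiv.subgroupCongr hmap)).toEquiv,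
    nat_card_alternatingGroup]
  norm_num [Nat.factorial]

variable {G : Type*} [Group G] [Finite G]

theorem setup_of_hyp (z : G) (hz : orderOf z = 2) (Q : Subgroup (Subgroup.centralizer ({z} : Set G))) [Q.Normal]
    (hF : Cfsg.generalizedFittingSubgroup (Subgroup.centralizer ({z} : Set G)) = Q) (hQ : Cfsg.IsExtraspecial 2 Q)
    (hcard : Nat.card Q = 2 ^ 5)
    (e : (Subgroup.centralizer ({z} : Set G)) ⧸ Q ≃* Cfsg.Omega (ZMod 2) q4)
    (hnwc : ∃ g : G, (∃ hq : g * z * g⁻¹ ∈ Subgroup.centralizer ({z} : Set G),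
      (⟨g * z * g⁻¹, hq⟩ : Subgroup.centralizer ({z} : Set G)) ∈ Q) ∧ g * z * g⁻¹ ≠ z) :
    Setup z (Q.map (Subgroup.centralizer ({z} : Set G)).subtype) := by
  have eQ := Q.equivMapOfInjective (Subgroup.centralizer ({z} : Set G)).subtype (Subgroup.centralizer ({z} : Set G)).subtype_injective
  refine ⟨hz, map_subtype_le Q, ?_, CfsgLib.LargeExtra.isExtraspecial_of_mulEquiv eQ hQ, ?_, ?_, ?_, ?_⟩
  · intro h hh
    refine mem_normalizer_iff.2 fun x => ⟨?_, ?_⟩
    · rintro ⟨q, hq, rfl⟩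
      exact ⟨⟨h, hh⟩ * q * ⟨h, hh⟩⁻¹, (inferInstance : Q.Normal).conj_mem q hq _, rfl⟩
    · rintro ⟨q, hq, hqe⟩
      refine ⟨⟨h, hh⟩⁻¹ * q * ⟨h, hh⟩, by simpa using (inferInstance : Q.Normal).conj_mem q hq ⟨h, hh⟩⁻¹, ?_⟩
      show h⁻¹ * (q : G) * h = x
      rw [show (q : G) = h * x * h⁻¹ from hqe]
      group
  · rw [← Nat.card_congr eQ.toEquiv, hcard]; norm_num
  · have h := card_mul_index Q
    rw [index_eq_card, Nat.card_congr e.toEquiv, card_omega, hcard] at h
    rw [← h]; norm_num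
  · intro x hx hc
    have hm : (⟨x, hx⟩ : (Subgroup.centralizer ({z} : Set G))) ∈ centralizer (Cfsg.generalizedFittingSubgroup (Subgroup.centralizer ({z} : Set G)) : Set (Subgroup.centralizer ({z} : Set G))) := by
      rw [hF, mem_centralizer_iff]
      exact fun q hq => Subtype.ext (hc q ⟨q, hq, rfl⟩).symm
    have hxQ := CfsgLib.Cores.centralizer_generalizedFittingSubgroup_le hm
    rw [hF] at hxQ
    exact ⟨⟨x, hx⟩, hxQ, rfl⟩
  · obtain ⟨g, ⟨hq, hm⟩, hne⟩ := hnwc
    exact ⟨g, ⟨_, hm, rfl⟩, hne⟩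

variable {z : G} {Q : Subgroup G}

/-- With a second class of involutions there is an involution of the other class in the centralizer of `z`. -/
theorem Setup.exists_pair (st : Setup z Q) (hcl : ∃ x y : G, orderOf x = 2 ∧ orderOf y = 2 ∧ ¬ IsConj x y) :
    ∃ t, Pair z t Q := by
  obtain ⟨x, y, hx, hy, hxy⟩ := hcl
  obtain ⟨w, hw, hwz⟩ : ∃ w, orderOf w = 2 ∧ ¬ IsConj z w := by
    by_contra h
    push Not at h
    exact hxy ((h x hx).symm.trans (h y hy))
  obtain ⟨hw2, hw1⟩ := orderOf_two_iff.1 hw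
  obtain ⟨g, hg⟩ := st.conj_into_H hw2
  have h2 : g * w * g⁻¹ * (g * w * g⁻¹) = 1 := by
    rw [show g * w * g⁻¹ * (g * w * g⁻¹) = g * (w * w) * g⁻¹ by group, hw2, mul_one, mul_inv_cancel]
  refine ⟨g * w * g⁻¹, st, hg, fun hq => hwz ?_, h2, fun h => hwz (h.trans (isConj_conj g w).symm)⟩
  exact (st.q_conj hq h2 fun h => hw1 (conj_eq_one_iff.1 h)).trans (isConj_conj g w).symm

end CfsgLib.HJType
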