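import Mathlib

/-!
Groups of Hall-Janko type: finite facts about the alternating group of degree five.
-/

set_option autoImplicit false
set_option synthInstance.maxSize 512
set_option synthInstance.maxHeartbeats 200000

namespace CfsgLib.HJType

theorem a5_pairs : Nat.card {p : alternatingGroup (Fin 5) × alternatingGroup (Fin 5) //
    p.1 * p.1 = 1 ∧ p.1 ≠ 1 ∧ p.2 * p.2 = 1 ∧ (p.1 * p.2) ^ 15 = 1} = 195 := by
  rw [Nat.card_eq_fintype_card]; decide +kernel

theorem a5_invol_cent : ∀ b c : alternatingGroup (Fin 5), b * b = 1 → b ≠ 1 → c * b = b * c → c * c = 1 := by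
  decide +kernel

theorem a5_five_inv : ∀ b : alternatingGroup (Fin 5), b ^ 5 = 1 → ∃ c, c * b * c⁻¹ = b⁻¹ := by
  decide +kernel

theorem a5_five_not_sq : ∀ b c : alternatingGroup (Fin 5), b ^ 5 = 1 → c * b * c⁻¹ = b ^ 2 → b = 1 := by
  decide +kernel

theorem a5_three_inv : ∀ b : alternatingGroup (Fin 5), b ^ 3 = 1 →
    ∃ c, c * c = 1 ∧ c * b * c⁻¹ = b⁻¹ := by
  decide +kernel

theorem a5_card : Nat.card (alternatingGroup (Fin 5)) = 60 := by
  rw [nat_card_alternatingGroup]; norm_num [Nat.factorial]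

theorem a5_simple : IsSimpleGroup (alternatingGroup (Fin 5)) := alternatingGroup.isSimpleGroup_five

theorem a5_commutator : commutator (alternatingGroup (Fin 5)) = ⊤ := by
  haveI := a5_simple
  haveI : (commutator (alternatingGroup (Fin 5))).Normal := inferInstance
  refine (Subgroup.Normal.eq_bot_or_eq_top this).resolve_left fun h => ?_
  obtain ⟨a, b, hab⟩ : ∃ a b : alternatingGroup (Fin 5), a * b ≠ b * a := by decide +kernel
  have hm : a * b * a⁻¹ * b⁻¹ ∈ commutator (alternatingGroup (Fin 5)) :=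
    Subgroup.commutator_mem_commutator (Subgroup.mem_top a) (Subgroup.mem_top b)
  rw [h, Subgroup.mem_bot, mul_inv_eq_one, mul_inv_eq_iff_eq_mul] at hm
  exact hab hm

end CfsgLib.HJType
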