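import Mathlib
import Cfsg.Agent.Lib.HJType.Classes

/-!
Groups of Hall-Janko type: centralizers of elements of order five of the centralizer of the central involution.
-/

set_option autoImplicit false
set_option linter.style.haveILetI false
set_option linter.unusedSectionVars false

namespace CfsgLib.HJType

open Subgroup

variable {G : Type*} [Group G] {z : G} {Q : Subgroup G}

namespace Setup

variable (st : Setup z Q)
include st

/-- In the centralizer of an element of order five of `H` every involution is conjugate to `z`, and four does not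
divide its order. -/
theorem five_cent [Finite G] {f : G} (hf : f ∈ centralizer ({z} : Set G)) (h5 : orderOf f = 5) :
    ¬ 4 ∣ Nat.card (centralizer ({f} : Set G)) ∧
      ∀ w ∈ centralizer ({f} : Set G), w * w = 1 → w ≠ 1 → ∃ c ∈ centralizer ({f} : Set G), c * w * c⁻¹ = z := by
  classical
  haveI : Fact (Nat.Prime 2) := ⟨Nat.prime_two⟩
  obtain ⟨h10, -⟩ := st.cent_five hf h5
  set C := centralizer ({f} : Set G) with hC
  have hzC : z ∈ C := mem_centralizer_singleton_iff.2 (st.zc hf).symm
  have hzc2 : Nat.card (zpowers z) = 2 ^ 1 := by rw [Nat.card_zpowers, st.hz, pow_one]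
  have h4 : ¬ 2 ^ (1 + 1) ∣ Nat.card C := by
    intro hd
    have hz' : Nat.card ((zpowers z).subgroupOf C) = 2 ^ 1 := by
      rw [Nat.card_congr (subgroupOfEquivOfLe (zpowers_le.2 hzC)).toEquiv, hzc2]
    obtain ⟨K, hK, hle⟩ := Sylow.exists_subgroup_card_pow_succ hd hz'
    have hKc : Nat.card (K.map C.subtype) = 4 := by
      rw [← Nat.card_congr (K.equivMapOfInjective _ C.subtype_injective).toEquiv, hK]; norm_num
    have hKsub : K.map C.subtype ≤ centralizer ({z} : Set G) ⊓ C := by
      rintro _ ⟨x, hx, rfl⟩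
      refine mem_inf.2 ⟨mem_centralizer_singleton_iff.2 ?_, x.2⟩
      have hzK : (⟨z, hzC⟩ : C) ∈ K := hle (mem_zpowers z)
      have := IsPGroup.commutative_of_card_eq_prime_sq (p := 2) (G := K) (by rw [hK])
      exact congrArg (fun y : K => ((y : C) : G)) (this ⟨x, hx⟩ ⟨_, hzK⟩)
    have hd4 := card_dvd_of_le hKsub
    rw [hKc, h10] at hd4
    norm_num at hd4
  refine ⟨by simpa using h4, fun w hw hw2 hw1 => ?_⟩
  obtain ⟨c, hc, hcw⟩ := exists_conj_into (K := C) (zpowers_le.2 hzC) hzc2 h4 (zpowers_le.2 hw)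
    (IsPGroup.of_card (n := 1) (by rw [Nat.card_zpowers, orderOf_two_iff.2 ⟨hw2, hw1⟩, pow_one]))
  refine ⟨c, hc, ?_⟩
  obtain ⟨k, hk⟩ := mem_zpowers_iff.1 (hcw w (mem_zpowers w))
  have h2 : z ^ (2 : ℤ) = 1 := by rw [zpow_two, st.zz]
  rcases Int.even_or_odd' k with ⟨j, rfl | rfl⟩
  · rw [zpow_mul, h2, one_zpow] at hk
    exact absurd (conj_eq_one_iff.1 hk.symm) hw1
  · rw [zpow_add, zpow_mul, h2, one_zpow, one_mul, zpow_one] at hk
    exact hk.symm

/-- The number of involutions centralised by an element of order five of `H`. -/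
theorem five_count [Finite G] {f : G} (hf : f ∈ centralizer ({z} : Set G)) (h5 : orderOf f = 5) :
    Nat.card {u : G // IsConj z u ∧ u * f = f * u} * 10 = Nat.card (centralizer ({f} : Set G)) ∧
      Nat.card {u : G // IsConj z u} ≡ Nat.card {u : G // IsConj z u ∧ u * f = f * u} [MOD 5] ∧
      Nat.card {u : G // IsConj z u ∧ u * f = f * u} < Nat.card {u : G // IsConj z u} := by
  classical
  haveI := Fintype.ofFinite G
  haveI : Fact (Nat.Prime 5) := ⟨by norm_num⟩
  obtain ⟨h10, honly⟩ := st.cent_five hf h5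
  obtain ⟨-, hconj⟩ := st.five_cent hf h5
  set C := centralizer ({f} : Set G) with hC
  have hzC : z ∈ C := mem_centralizer_singleton_iff.2 (st.zc hf).symm
  refine ⟨?_, ?_, ?_⟩
  · have h := card_class_mul hzC
    rw [show C ⊓ centralizer ({z} : Set G) = centralizer ({z} : Set G) ⊓ C from inf_comm _ _, h10] at h
    rw [← h]
    congr 1
    refine Nat.card_congr (Equiv.subtypeEquivRight fun u => ⟨fun hu => ?_, ?_⟩)
    · obtain ⟨g, hg⟩ := isConj_iff.1 hu.1
      have hu2 : u * u = 1 := by
        rw [← hg, show g * z * g⁻¹ * (g * z * g⁻¹) = g * (z * z) * g⁻¹ by group, st.zz, mul_one, mul_inv_cancel]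
      have hu1 : u ≠ 1 := fun h' => st.z_ne (conj_eq_one_iff.1 (hg.trans h'))
      obtain ⟨c, hc, e⟩ := hconj u (mem_centralizer_singleton_iff.2 hu.2) hu2 hu1
      exact ⟨c⁻¹, inv_mem hc, by rw [← e]; group⟩
    · rintro ⟨h', hh', rfl⟩
      exact ⟨isConj_conj h' z, mem_centralizer_singleton_iff.1 (mul_mem (mul_mem hh' hzC) (inv_mem hh'))⟩
  · let σ : Equiv.Perm G := MulAut.toPerm G (MulAut.conj f)
    have hσ : σ ^ 5 = 1 := by rw [← map_pow, ← map_pow, ← h5, pow_orderOf_eq_one, map_one, map_one]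
    have hσx : ∀ x, σ x = f * x * f⁻¹ := fun x => rfl
    refine (card_modEq_fixed_of_invariant σ hσ (fun u => IsConj z u) fun x => ?_).trans
      (congrArg (· % 5) (Nat.card_congr (Equiv.subtypeEquivRight fun u => and_congr Iff.rfl ?_)))
    · rw [hσx]
      exact ⟨fun h => h.trans (isConj_conj f x).symm, fun h => h.trans (isConj_conj f x)⟩
    · rw [hσx]
      exact mul_inv_eq_iff_eq_mul.trans ⟨fun h => h.symm, fun h => h.symm⟩
  · obtain ⟨g, hg, hgz⟩ := st.hnwc
    have hu : IsConj z (g * z * g⁻¹) := isConj_conj g z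
    have hnot : ¬ (g * z * g⁻¹ * f = f * (g * z * g⁻¹)) := fun h => by
      rcases honly _ (st.hQH hg) h
        (by rw [show g * z * g⁻¹ * (g * z * g⁻¹) = g * (z * z) * g⁻¹ by group, st.zz, mul_one, mul_inv_cancel])
        with e | e
      · exact st.z_ne (conj_eq_one_iff.1 e)
      · exact hgz e
    rw [Nat.card_eq_fintype_card, Nat.card_eq_fintype_card, Fintype.card_subtype, Fintype.card_subtype]
    refine Finset.card_lt_card ?_
    rw [Finset.ssubset_iff_of_subset (fun x hx => Finset.mem_filter.2 ⟨Finset.mem_univ _, (Finset.mem_filter.1 hx).2.1⟩)]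
    exact ⟨_, Finset.mem_filter.2 ⟨Finset.mem_univ _, hu⟩, fun h => hnot (Finset.mem_filter.1 h).2.2⟩

end Setup

end CfsgLib.HJType
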