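import Mathlib
import Cfsg.Prelude.Def_TwoFusion
import Cfsg.Agent.Lib.HJType.Classes
import Cfsg.Agent.Lib.Invol.ZStarFinal
import Cfsg.Agent.Lib.Cores.Basic

/-!
Groups of Hall-Janko type: the Sylow 2-subgroup of the centralizer of a second involution and its central four-group.
-/

set_option autoImplicit false
set_option linter.style.haveILetI false
set_option linter.unusedSectionVars false

namespace CfsgLib.HJType

open Subgroup

variable {G : Type*} [Group G] {z : G} {Q : Subgroup G}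

/-- The intersection of the two centralizers. -/
def SS (z t : G) : Subgroup G := centralizer ({z} : Set G) ⊓ centralizer ({t} : Set G)

/-- The centralizer of `t` in `Q`. -/
def EE (Q : Subgroup G) (t : G) : Subgroup G := Q ⊓ centralizer ({t} : Set G)

namespace Pair

variable {t : G} (P : Pair z t Q)
include P

theorem card_S [Finite G] : Nat.card (SS z t) = 16 := (P.st.cent_invol P.ht P.htQ P.ht2).1

theorem card_E [Finite G] : Nat.card (EE Q t) = 4 := (P.st.cent_invol P.ht P.htQ P.ht2).2.1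

theorem E_le_S : EE Q t ≤ SS z t := fun _ hq => ⟨P.st.hQH hq.1, hq.2⟩

theorem E_sq [Finite G] {e : G} (he : e ∈ EE Q t) : e * e = 1 :=
  (P.st.cent_invol P.ht P.htQ P.ht2).2.2.1 e he.1 (mem_centralizer_singleton_iff.1 he.2)

theorem S_comm_E [Finite G] {s e : G} (hs : s ∈ SS z t) (he : e ∈ EE Q t) : s * e = e * s :=
  (P.st.cent_invol P.ht P.htQ P.ht2).2.2.2.1 s hs.1 (mem_centralizer_singleton_iff.1 hs.2) e he.1
    (mem_centralizer_singleton_iff.1 he.2)

theorem S_sq [Finite G] {s : G} (hs : s ∈ SS z t) : s * s ∈ Q :=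
  (P.st.cent_invol P.ht P.htQ P.ht2).2.2.2.2.1 s hs.1 (mem_centralizer_singleton_iff.1 hs.2)

theorem z_mem_E : z ∈ EE Q t := ⟨P.st.z_mem, mem_centralizer_singleton_iff.2 P.tz.symm⟩

theorem t_mem_S : t ∈ SS z t := ⟨P.ht, mem_centralizer_singleton_iff.2 rfl⟩

theorem E_zclass [Finite G] {e : G} (he : e ∈ EE Q t) (h1 : e ≠ 1) : IsConj z e :=
  P.st.q_conj he.1 (P.E_sq he) h1

/-- The centralizer in `C(t)` of a noncentral element of `E` is `S`. -/
theorem cent_E [Finite G] {w : G} (hw : w ∈ EE Q t) (h1 : w ≠ 1) :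
    centralizer ({t} : Set G) ⊓ centralizer ({w} : Set G) = SS z t := by
  obtain ⟨g, hg, e⟩ := P.conj_in_D (mem_centralizer_singleton_iff.1 hw.2) (P.E_zclass hw h1)
  have hcard : Nat.card ↥(centralizer ({t} : Set G) ⊓ centralizer ({w} : Set G)) = 16 := by
    rw [← P.card_S]
    refine Nat.card_congr (Equiv.subtypeEquiv (MulAut.conj g).toEquiv fun x => ?_)
    show _ ↔ g * x * g⁻¹ ∈ SS z t
    have hgt : g * t * g⁻¹ = t := mul_inv_eq_iff_eq_mul.2 (mem_centralizer_singleton_iff.1 hg)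
    rw [SS, mem_inf, mem_inf]
    constructor
    · intro hx
      refine ⟨?_, ?_⟩
      · rw [← e, mem_centralizer_conj]; exact hx.2
      · rw [← hgt, mem_centralizer_conj]; exact hx.1
    · rintro ⟨h2, h3⟩
      refine ⟨?_, ?_⟩
      · rw [← mem_centralizer_conj (g := g), hgt]; exact h3
      · rw [← mem_centralizer_conj (g := g), e]; exact h2
  refine (eq_of_le_of_card_ge (H := SS z t) (fun s hs => mem_inf.2 ⟨hs.2, mem_centralizer_singleton_iff.2 (P.S_comm_E hs hw)⟩) ?_).symm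
  rw [hcard, P.card_S]

theorem zclass_S [Finite G] {w : G} (hw : w ∈ SS z t) (hc : IsConj z w) : w ∈ EE Q t :=
  ⟨P.mem_Q_of_zclass hw.1 hc, hw.2⟩

/-- An element of `C(t)` mapping an element of `E` to `z` normalises `S`. -/
theorem conj_S [Finite G] {w g : G} (hw : w ∈ EE Q t) (h1 : w ≠ 1) (hg : g ∈ centralizer ({t} : Set G))
    (e : g * w * g⁻¹ = z) : g ∈ normalizer (SS z t : Set G) := by
  have hgt : g * t * g⁻¹ = t := mul_inv_eq_iff_eq_mul.2 (mem_centralizer_singleton_iff.1 hg)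
  refine mem_normalizer_iff.2 fun x => ?_
  have key : g * x * g⁻¹ ∈ SS z t ↔ x ∈ centralizer ({t} : Set G) ⊓ centralizer ({w} : Set G) := by
    rw [SS, mem_inf, mem_inf, ← mem_centralizer_conj (g := g) (y := w), e,
      ← mem_centralizer_conj (g := g) (x := x) (y := t), hgt]
    exact and_comm
  rw [key, P.cent_E hw h1]

/-- The normalizer of `S` in the centralizer of `t`. -/
theorem card_N [Finite G] :
    Nat.card ↥(centralizer ({t} : Set G) ⊓ normalizer (SS z t : Set G)) = 48 := by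
  classical
  haveI := Fintype.ofFinite G
  set N := centralizer ({t} : Set G) ⊓ normalizer (SS z t : Set G) with hN
  have hzN : z ∈ N := ⟨mem_centralizer_singleton_iff.2 P.tz.symm,
    le_normalizer (P.E_le_S P.z_mem_E)⟩
  have h := card_class_mul hzN
  have hstab : N ⊓ centralizer ({z} : Set G) = SS z t := by
    ext x
    exact ⟨fun hx => ⟨hx.2, hx.1.1⟩, fun hx => ⟨⟨hx.2, le_normalizer hx⟩, hx.1⟩⟩
  rw [hstab, P.card_S] at h
  have hcls : Nat.card {y : G // ∃ n ∈ N, n * z * n⁻¹ = y} = 3 := by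
    have h3 : ((Finset.univ.filter fun y => y ∈ EE Q t).erase 1).card = 3 := by
      rw [Finset.card_erase_of_mem (Finset.mem_filter.2 ⟨Finset.mem_univ _, one_mem _⟩), ← Fintype.card_subtype,
        ← Nat.card_eq_fintype_card, P.card_E]
    rw [← h3, Nat.card_eq_fintype_card, Fintype.card_subtype]
    congr 1
    ext y
    simp only [Finset.mem_filter, Finset.mem_univ, true_and, Finset.mem_erase]
    constructor
    · rintro ⟨n, hn, rfl⟩
      exact ⟨fun h' => P.st.z_ne (conj_eq_one_iff.1 h'), P.zclass_S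
        ((mem_normalizer_iff.1 hn.2 z).1 (P.E_le_S P.z_mem_E)) (isConj_conj n z)⟩
    · rintro ⟨h1, hy⟩
      obtain ⟨g, hg, e⟩ := P.conj_in_D (mem_centralizer_singleton_iff.1 hy.2) (P.E_zclass hy h1)
      exact ⟨g⁻¹, mem_inf.2 ⟨inv_mem hg, inv_mem (P.conj_S hy h1 hg e)⟩, by rw [← e]; group⟩
  rw [hcls] at h
  omega

/-- `S` is a Sylow 2-subgroup of the centralizer of `t`. -/
theorem not_dvd_D [Finite G] : ¬ 2 ^ (4 + 1) ∣ Nat.card (centralizer ({t} : Set G)) := by
  intro hd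
  haveI : Fact (Nat.Prime 2) := ⟨Nat.prime_two⟩
  set D := centralizer ({t} : Set G) with hD
  have hSD : SS z t ≤ D := inf_le_right
  have hS' : Nat.card ((SS z t).subgroupOf D) = 2 ^ 4 := by
    rw [Nat.card_congr (subgroupOfEquivOfLe hSD).toEquiv, P.card_S]; norm_num
  obtain ⟨K, hK, hle⟩ := Sylow.exists_subgroup_card_pow_succ hd hS'
  set K' := K.map D.subtype with hK'
  have hKc : Nat.card K' = 32 := by
    rw [← Nat.card_congr (K.equivMapOfInjective _ D.subtype_injective).toEquiv, hK]; norm_num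
  have hKD : K' ≤ D := map_subtype_le K
  have hSK : SS z t ≤ K' := fun x hx => ⟨⟨x, hSD hx⟩, hle hx, rfl⟩
  haveI hnorm : ((SS z t).subgroupOf K').Normal := by
    refine Subgroup.normal_of_index_eq_two ?_
    have h := card_mul_index ((SS z t).subgroupOf K')
    rw [hKc, Nat.card_congr (subgroupOfEquivOfLe hSK).toEquiv, P.card_S] at h
    omega
  have hKN : K' ≤ D ⊓ normalizer (SS z t : Set G) := fun k hk => ⟨hKD hk, mem_normalizer_iff.2 fun x => by
    constructor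
    · intro hx
      exact hnorm.conj_mem ⟨x, hSK hx⟩ hx ⟨k, hk⟩
    · intro hx
      have := hnorm.conj_mem ⟨k * x * k⁻¹, hSK hx⟩ hx ⟨k⁻¹, inv_mem hk⟩
      simpa [mem_subgroupOf, mul_assoc] using this⟩
  have := card_dvd_of_le hKN
  rw [hKc, P.card_N] at this
  norm_num at this

set_option maxHeartbeats 1000000 in
/-- An element of order three of the normalizer and its centralizer in `S`. -/
theorem exists_rho [Finite G] : ∃ ρ ∈ centralizer ({t} : Set G) ⊓ normalizer (SS z t : Set G), orderOf ρ = 3 ∧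
    Nat.card ↥(SS z t ⊓ centralizer ({ρ} : Set G)) = 4 ∧
    (∀ e ∈ EE Q t, e * ρ = ρ * e → e = 1) ∧
    ∀ e ∈ EE Q t, ρ * e * ρ⁻¹ ∈ EE Q t := by
  classical
  haveI := Fintype.ofFinite G
  haveI : Fact (Nat.Prime 3) := ⟨Nat.prime_three⟩
  set N := centralizer ({t} : Set G) ⊓ normalizer (SS z t : Set G) with hN
  obtain ⟨r, hr⟩ := exists_prime_orderOf_dvd_card' (G := N) 3 (by rw [P.card_N]; norm_num)
  set ρ : G := (r : G) with hρ
  have hρN : ρ ∈ N := r.2
  have hρ3 : orderOf ρ = 3 := by rw [hρ, orderOf_coe, hr]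
  have hp3 : ρ ^ 3 = 1 := by rw [← hρ3, pow_orderOf_eq_one]
  have hconjS : ∀ x, x ∈ SS z t ↔ ρ * x * ρ⁻¹ ∈ SS z t := mem_normalizer_iff.1 hρN.2
  have hρz : z * ρ ≠ ρ * z := by
    intro h
    have hmem : ρ ∈ SS z t := ⟨mem_centralizer_singleton_iff.2 h.symm, hρN.1⟩
    have := Subgroup.orderOf_dvd_natCard _ hmem
    rw [P.card_S, hρ3] at this
    norm_num at this
  have hclass : ∀ x, IsConj z x ↔ IsConj z (ρ * x * ρ⁻¹) := fun x =>
    ⟨fun h => h.trans (isConj_conj ρ x), fun h => h.trans (isConj_conj ρ x).symm⟩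
  have hρE : ∀ e ∈ EE Q t, ρ * e * ρ⁻¹ ∈ EE Q t := by
    intro e he
    by_cases h1 : e = 1
    · rw [h1, mul_one, mul_inv_cancel]; exact one_mem _
    exact P.zclass_S ((hconjS e).1 (P.E_le_S he)) ((hclass e).1 (P.E_zclass he h1))
  let σ : Equiv.Perm G := MulAut.toPerm G (MulAut.conj ρ)
  have hσ : σ ^ 3 = 1 := by rw [← map_pow, ← map_pow, hp3, map_one, map_one]
  have hσx : ∀ x, σ x = ρ * x * ρ⁻¹ := fun x => rfl
  have hcomm_iff : ∀ x, σ x = x ↔ x * ρ = ρ * x := fun x => by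
    rw [hσx]; exact mul_inv_eq_iff_eq_mul.trans ⟨fun h => h.symm, fun h => h.symm⟩
  -- no fixed points on `E`
  have hinvE : ∀ x, (σ x ∈ EE Q t ∧ σ x ≠ 1) ↔ (x ∈ EE Q t ∧ x ≠ 1) := fun x => by
    rw [hσx]
    refine and_congr ⟨fun h => ?_, hρE x⟩ (not_congr conj_eq_one_iff)
    have h2 := hρE _ (hρE _ h)
    rwa [show ρ * (ρ * (ρ * x * ρ⁻¹) * ρ⁻¹) * ρ⁻¹ = ρ ^ 3 * x * (ρ ^ 3)⁻¹ by simp only [pow_succ, pow_zero, one_mul, mul_inv_rev, mul_assoc], hp3, one_mul, inv_one,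
      mul_one] at h2
  have hnofix : ∀ e ∈ EE Q t, e * ρ = ρ * e → e = 1 := by
    intro e he hc
    by_contra h1
    have hm := card_modEq_fixed_of_invariant σ hσ (fun x => x ∈ EE Q t ∧ x ≠ 1) hinvE
    have hc3 : Nat.card {x // x ∈ EE Q t ∧ x ≠ 1} = 3 := by
      rw [Nat.card_eq_fintype_card, Fintype.card_subtype,
        show (Finset.univ.filter fun x => x ∈ EE Q t ∧ x ≠ 1) = (Finset.univ.filter fun x => x ∈ EE Q t).erase 1
          by ext x; simp [and_comm],
        Finset.card_erase_of_mem (Finset.mem_filter.2 ⟨Finset.mem_univ _, one_mem _⟩), ← Fintype.card_subtype,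
        ← Nat.card_eq_fintype_card, P.card_E]
    rw [hc3] at hm
    have hle : Nat.card {x // (x ∈ EE Q t ∧ x ≠ 1) ∧ σ x = x} ≤ 2 := by
      rw [Nat.card_eq_fintype_card, Fintype.card_subtype]
      refine le_trans (Finset.card_le_card (t := ((Finset.univ.filter fun x => x ∈ EE Q t).erase 1).erase z) ?_) ?_
      · intro x hx
        obtain ⟨⟨h2, h3⟩, h4⟩ := (Finset.mem_filter.1 hx).2
        refine Finset.mem_erase.2 ⟨?_, Finset.mem_erase.2 ⟨h3, Finset.mem_filter.2 ⟨Finset.mem_univ _, h2⟩⟩⟩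
        rintro rfl
        exact hρz ((hcomm_iff _).1 h4)
      · rw [Finset.card_erase_of_mem (Finset.mem_erase.2 ⟨P.st.z_ne,
          Finset.mem_filter.2 ⟨Finset.mem_univ _, P.z_mem_E⟩⟩),
          Finset.card_erase_of_mem (Finset.mem_filter.2 ⟨Finset.mem_univ _, one_mem _⟩), ← Fintype.card_subtype,
          ← Nat.card_eq_fintype_card, P.card_E]
    have hpos : 0 < Nat.card {x // (x ∈ EE Q t ∧ x ≠ 1) ∧ σ x = x} := by
      haveI : Nonempty {x // (x ∈ EE Q t ∧ x ≠ 1) ∧ σ x = x} := ⟨⟨e, ⟨he, h1⟩, (hcomm_iff e).2 hc⟩⟩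
      exact Nat.card_pos
    unfold Nat.ModEq at hm
    omega
  refine ⟨ρ, hρN, hρ3, ?_, hnofix, hρE⟩
  set V := SS z t ⊓ centralizer ({ρ} : Set G) with hV
  have hm := card_modEq_fixed_of_invariant σ hσ (fun x => x ∈ SS z t) (fun x => by rw [hσx]; exact (hconjS x).symm)
  rw [show Nat.card {x // x ∈ SS z t} = 16 from P.card_S] at hm
  have hVc : Nat.card {x // x ∈ SS z t ∧ σ x = x} = Nat.card V :=
    Nat.card_congr (Equiv.subtypeEquivRight fun x =>
      and_congr Iff.rfl ((hcomm_iff x).trans mem_centralizer_singleton_iff.symm))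
  rw [hVc] at hm
  obtain ⟨n, hn4, hn⟩ := (Nat.dvd_prime_pow Nat.prime_two).1
    (show Nat.card V ∣ 2 ^ 4 by rw [show 2 ^ 4 = 16 from rfl, ← P.card_S]; exact card_dvd_of_le inf_le_left)
  have h16 : Nat.card V ≠ 16 := by
    intro h
    have hVS : V = SS z t := eq_of_le_of_card_ge inf_le_left (by rw [h, P.card_S])
    exact hρz (mem_centralizer_singleton_iff.1 (hVS.symm ▸ P.E_le_S P.z_mem_E : z ∈ V).2)
  have h1 : Nat.card V ≠ 1 := by
    intro h
    have := (card_eq_one.1 h) ▸ (show t ∈ V from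
      ⟨P.t_mem_S, mem_centralizer_singleton_iff.2 (mem_centralizer_singleton_iff.1 hρN.1).symm⟩)
    exact P.t_ne (mem_bot.1 this)
  rw [hn] at hm h16 h1 ⊢
  unfold Nat.ModEq at hm
  clear * - hm h16 h1 hn4
  interval_cases n <;> omega

end Pair

/-- The central four-group of the centralizer of `t`. -/
structure FourData (z t : G) (Q V : Subgroup G) (ρ : G) : Prop where
  pr : Pair z t Q
  hρN : ρ ∈ centralizer ({t} : Set G) ⊓ normalizer (SS z t : Set G)
  hρ : orderOf ρ = 3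
  hρE : ∀ e ∈ EE Q t, e * ρ = ρ * e → e = 1
  hρE' : ∀ e ∈ EE Q t, ρ * e * ρ⁻¹ ∈ EE Q t
  hVS : V ≤ SS z t
  hVc : Nat.card V = 4
  htV : t ∈ V
  hVρ : ∀ v ∈ V, v * ρ = ρ * v
  hVQ : ∀ v ∈ V, v ∈ Q → v = 1
  hVsq : ∀ v ∈ V, v * v = 1
  hS : ∀ s ∈ SS z t, ∃ e ∈ EE Q t, ∃ v ∈ V, s = e * v

theorem Pair.exists_fourData [Finite G] {t : G} (P : Pair z t Q) : ∃ V ρ, FourData z t Q V ρ := by
  obtain ⟨ρ, hρN, hρ, hVc, hfix, hρE⟩ := P.exists_rho
  set V := SS z t ⊓ centralizer ({ρ} : Set G) with hV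
  have hVρ : ∀ v ∈ V, v * ρ = ρ * v := fun v hv => mem_centralizer_singleton_iff.1 hv.2
  have hVQ : ∀ v ∈ V, v ∈ Q → v = 1 := fun v hv hq => hfix v ⟨hq, hv.1.2⟩ (hVρ v hv)
  refine ⟨V, ρ, ⟨P, hρN, hρ, hfix, hρE, inf_le_left, hVc, ?_, hVρ, hVQ, ?_, ?_⟩⟩
  · exact ⟨P.t_mem_S, mem_centralizer_singleton_iff.2 (mem_centralizer_singleton_iff.1 hρN.1).symm⟩
  · exact fun v hv => hVQ _ (mul_mem hv hv) (P.S_sq hv.1)
  · have hinj : Function.Injective
        (fun p : EE Q t × V => (⟨(p.1 : G) * p.2, mul_mem (P.E_le_S p.1.2) p.2.2.1⟩ : SS z t)) := by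
      rintro ⟨e, v⟩ ⟨e', v'⟩ h
      have h' : (e : G) * v = e' * v' := congrArg Subtype.val h
      have h2 : (e' : G)⁻¹ * e = v' * (v : G)⁻¹ := by
        rw [inv_mul_eq_iff_eq_mul, ← mul_assoc, ← h', mul_inv_cancel_right]
      have h3 := hVQ _ (mul_mem v'.2 (inv_mem v.2)) (h2 ▸ mul_mem (inv_mem e'.2.1) e.2.1)
      rw [mul_inv_eq_one] at h3
      rw [h3] at h'
      exact Prod.ext (Subtype.ext (mul_right_cancel h')) (Subtype.ext h3.symm)
    have hb := (Nat.bijective_iff_injective_and_card _).2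
      ⟨hinj, by rw [Nat.card_prod, P.card_E, P.card_S, hVc]⟩
    intro s hs
    obtain ⟨⟨e, v⟩, h⟩ := hb.2 ⟨s, hs⟩
    exact ⟨e, e.2, v, v.2, (congrArg Subtype.val h).symm⟩

namespace FourData

variable {t : G} {V : Subgroup G} {ρ : G} (d : FourData z t Q V ρ)
include d

theorem V_comm {a b : G} (ha : a ∈ V) (hb : b ∈ V) : a * b = b * a := by
  calc a * b = (a * b)⁻¹ := (inv_eq_of_mul_eq_one_right (d.hVsq _ (mul_mem ha hb))).symm
    _ = b * a := by
      rw [mul_inv_rev, inv_eq_of_mul_eq_one_right (d.hVsq a ha), inv_eq_of_mul_eq_one_right (d.hVsq b hb)]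

theorem S_sq_one [Finite G] {s : G} (hs : s ∈ SS z t) : s * s = 1 := by
  obtain ⟨e, he, v, hv, rfl⟩ := d.hS s hs
  have hc := d.pr.S_comm_E (d.hVS hv) he
  calc e * v * (e * v) = e * (v * e) * v := by group
    _ = e * (e * v) * v := by rw [hc]
    _ = (e * e) * (v * v) := by group
    _ = 1 := by rw [d.pr.E_sq he, d.hVsq v hv, one_mul]

theorem S_comm [Finite G] {a b : G} (ha : a ∈ SS z t) (hb : b ∈ SS z t) : a * b = b * a := by
  calc a * b = (a * b)⁻¹ := (inv_eq_of_mul_eq_one_right (d.S_sq_one (mul_mem ha hb))).symm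
    _ = b * a := by
      rw [mul_inv_rev, inv_eq_of_mul_eq_one_right (d.S_sq_one ha), inv_eq_of_mul_eq_one_right (d.S_sq_one hb)]

/-- The normalizer of `S` centralises `V`. -/
theorem N_comm_V [Finite G] {n v : G} (hn : n ∈ centralizer ({t} : Set G) ⊓ normalizer (SS z t : Set G))
    (hv : v ∈ V) : n * v = v * n := by
  set N := centralizer ({t} : Set G) ⊓ normalizer (SS z t : Set G)
  set K := N ⊓ centralizer ({v} : Set G) with hK
  have hSK : SS z t ≤ K := fun s hs => ⟨⟨hs.2, le_normalizer hs⟩,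
    mem_centralizer_singleton_iff.2 (d.S_comm hs (d.hVS hv))⟩
  have hρK : ρ ∈ K := ⟨d.hρN, mem_centralizer_singleton_iff.2 (d.hVρ v hv).symm⟩
  have h16 := card_dvd_of_le hSK
  have h3 := Subgroup.orderOf_dvd_natCard K hρK
  rw [d.pr.card_S] at h16
  rw [d.hρ] at h3
  have hle : Nat.card N ≤ Nat.card K := by
    rw [d.pr.card_N]
    exact Nat.le_of_dvd Nat.card_pos (Nat.Coprime.mul_dvd_of_dvd_of_dvd (by norm_num : Nat.Coprime 16 3) h16 h3)
  have hKN : K = N := eq_of_le_of_card_ge inf_le_left hle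
  exact mem_centralizer_singleton_iff.1 (hKN.symm ▸ hn : n ∈ K).2

/-- The elements of `V` are isolated in the centralizer of `t`. -/
theorem fusion [Finite G] {v g : G} (hv : v ∈ V) (hg : g ∈ centralizer ({t} : Set G))
    (hgv : g * v * g⁻¹ ∈ SS z t) : g * v * g⁻¹ = v := by
  haveI : Fact (Nat.Prime 2) := ⟨Nat.prime_two⟩
  set D := centralizer ({t} : Set G) with hD
  set u := g * v * g⁻¹ with hu
  set K := D ⊓ centralizer ({u} : Set G) with hK
  set A := (SS z t).map (MulAut.conj g).toMonoidHom with hA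
  have hSK : SS z t ≤ K := fun s hs => ⟨hs.2, mem_centralizer_singleton_iff.2 (d.S_comm hs hgv)⟩
  have hAK : A ≤ K := by
    rintro _ ⟨s, hs, rfl⟩
    refine mem_inf.2 ⟨mul_mem (mul_mem hg hs.2) (inv_mem hg), ?_⟩
    show g * s * g⁻¹ ∈ centralizer ({u} : Set G)
    rw [hu, mem_centralizer_conj]
    exact mem_centralizer_singleton_iff.2 (d.S_comm hs (d.hVS hv))
  have hAc : Nat.card A = 2 ^ 4 := by
    rw [← Nat.card_congr ((SS z t).equivMapOfInjective _ (MulAut.conj g).injective).toEquiv, d.pr.card_S]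
    norm_num
  obtain ⟨c, hc, hcA⟩ := exists_conj_eq hSK (by rw [d.pr.card_S]; norm_num)
    (fun h => d.pr.not_dvd_D (h.trans (card_dvd_of_le inf_le_left))) hAK hAc
  have hcgN : c * g ∈ D ⊓ normalizer (SS z t : Set G) := by
    refine mem_inf.2 ⟨mul_mem hc.1 hg, mem_normalizer_iff.2 fun x => ?_⟩
    have hiff : c * g * x * (c * g)⁻¹ ∈ SS z t ↔ g * x * g⁻¹ ∈ A := by
      rw [show c * g * x * (c * g)⁻¹ = c * (g * x * g⁻¹) * c⁻¹ by group]
      exact hcA _
    rw [hiff, hA]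
    exact (mem_map_iff_mem (f := (MulAut.conj g).toMonoidHom) (MulAut.conj g).injective).symm
  have h1 := mul_inv_eq_iff_eq_mul.2 (d.N_comm_V hcgN hv)
  have h2 : c * u * c⁻¹ = u := mul_inv_eq_iff_eq_mul.2 (mem_centralizer_singleton_iff.1 hc.2)
  rw [← h2, hu]
  conv_rhs => rw [← h1]
  group

/-- `V` is central in the centralizer of `t`. -/
theorem V_central [Finite G] {v g : G} (hv : v ∈ V) (hg : g ∈ centralizer ({t} : Set G)) : g * v = v * g := by
  classical
  haveI : Fact (Nat.Prime 2) := ⟨Nat.prime_two⟩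
  by_cases hv1 : v = 1
  · simp [hv1]
  set D := centralizer ({t} : Set G) with hD
  have hvD : v ∈ D := (d.hVS hv).2
  have hO : Cfsg.oddCore D = ⊥ := by
    haveI hn : (Cfsg.oddCore D).Normal := inferInstance
    set N := (Cfsg.oddCore D).map D.subtype with hNdef
    have hNn : ∀ k ∈ D, ∀ x ∈ N, k * x * k⁻¹ ∈ N := by
      rintro k hk _ ⟨x, hx, rfl⟩
      exact ⟨⟨k, hk⟩ * x * ⟨k, hk⟩⁻¹, hn.conj_mem x hx _, rfl⟩
    have hfix : ∀ w ∈ EE Q t, w ≠ 1 → ∀ x ∈ N, w * x = x * w → x = 1 := by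
      rintro w hw hw1 _ ⟨x, hx, rfl⟩ hc
      have hxS : (x : G) ∈ SS z t := by
        rw [← d.pr.cent_E hw hw1]
        exact ⟨x.2, mem_centralizer_singleton_iff.2 hc.symm⟩
      have h1 := Subgroup.orderOf_dvd_natCard _ hxS
      rw [d.pr.card_S, orderOf_coe] at h1
      have h2 : orderOf x ∣ Nat.card (Cfsg.oddCore D) := Subgroup.orderOf_dvd_natCard _ hx
      have h3 : Nat.Coprime 16 (Nat.card (Cfsg.oddCore D)) :=
        Nat.Coprime.pow_left 4 (Nat.coprime_two_left.2 CfsgLib.Cores.odd_card_oddCore)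
      have h4 : orderOf x = 1 := Nat.dvd_one.1 (h3 ▸ Nat.dvd_gcd h1 h2)
      rw [orderOf_eq_one_iff.1 h4]
      rfl
    have hbot : N = ⊥ := by
      set w := ρ * z * ρ⁻¹ with hw
      have hwE : w ∈ EE Q t := d.hρE' z d.pr.z_mem_E
      have hw1 : w ≠ 1 := fun h => d.pr.st.z_ne (conj_eq_one_iff.1 h)
      have hzw : z * w ≠ 1 := fun h => by
        have : w = z := mul_left_cancel (h.trans d.pr.st.zz.symm)
        exact d.pr.st.z_ne (d.hρE z d.pr.z_mem_E (mul_inv_eq_iff_eq_mul.1 this).symm)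
      refine four_fpf d.pr.st.zz (d.pr.E_sq hwE) (d.pr.S_comm_E (d.pr.E_le_S d.pr.z_mem_E) hwE) ?_ ?_
        (hfix z d.pr.z_mem_E d.pr.st.z_ne) (hfix w hwE hw1) (hfix _ (mul_mem d.pr.z_mem_E hwE) hzw)
      · intro x hx
        have := hNn z d.pr.z_mem_E.2 x hx
        rwa [inv_eq_of_mul_eq_one_right d.pr.st.zz] at this
      · intro x hx
        have := hNn w hwE.2 x hx
        rwa [inv_eq_of_mul_eq_one_right (d.pr.E_sq hwE)] at this
    exact (map_eq_bot_iff_of_injective _ D.subtype_injective).1 hbot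
  have hiso : Cfsg.IsIsolatedInvolution (⟨v, hvD⟩ : D) := by
    refine ⟨by rw [← orderOf_coe]; exact orderOf_two_iff.2 ⟨d.hVsq v hv, hv1⟩, fun k hk => Subtype.ext ?_⟩
    show (k : G) * v * (k : G)⁻¹ = v
    have hk' : v * ((k : G) * v * (k : G)⁻¹) = (k : G) * v * (k : G)⁻¹ * v := congrArg Subtype.val hk
    set w := (k : G) * v * (k : G)⁻¹ with hw
    have hw2 : w * w = 1 := by
      rw [hw, show (k : G) * v * (k : G)⁻¹ * ((k : G) * v * (k : G)⁻¹) = (k : G) * (v * v) * (k : G)⁻¹ by group,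
        d.hVsq v hv, mul_one, mul_inv_cancel]
    set K := D ⊓ centralizer ({v} : Set G) with hK
    have hwK : w ∈ K := mem_inf.2 ⟨mul_mem (mul_mem k.2 hvD) (inv_mem k.2), mem_centralizer_singleton_iff.2 hk'.symm⟩
    obtain ⟨m, -, hm⟩ := (Nat.dvd_prime_pow Nat.prime_two).1
      (orderOf_dvd_of_pow_eq_one (show w ^ 2 ^ 1 = 1 by rw [pow_one, pow_two, hw2]))
    obtain ⟨c, hc, hcw⟩ := exists_conj_into (K := K) (B := SS z t) (p := 2) (n := 4)
      (fun s hs => ⟨hs.2, mem_centralizer_singleton_iff.2 (d.S_comm hs (d.hVS hv))⟩)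
      (by rw [d.pr.card_S]; norm_num) (fun h => d.pr.not_dvd_D (h.trans (card_dvd_of_le inf_le_left)))
      (zpowers_le.2 hwK) (IsPGroup.of_card (n := m) (by rw [Nat.card_zpowers, hm]))
    have h1 := hcw w (mem_zpowers w)
    rw [hw, show c * ((k : G) * v * (k : G)⁻¹) * c⁻¹ = c * k * v * (c * k)⁻¹ by group] at h1
    have h2 := d.fusion hv (mul_mem hc.1 k.2) h1
    have h3 : c * w * c⁻¹ = v := by
      rw [hw]
      exact (show c * ((k : G) * v * (k : G)⁻¹) * c⁻¹ = c * k * v * (c * k)⁻¹ by group).trans h2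
    have h4 : c * v * c⁻¹ = v := mul_inv_eq_iff_eq_mul.2 (mem_centralizer_singleton_iff.1 hc.2)
    exact mul_left_cancel (mul_right_cancel (h3.trans h4.symm))
  exact congrArg Subtype.val (mem_center_iff.1 (CfsgLib.Invol.zstar_center hiso hO) ⟨g, hg⟩)

end FourData

end CfsgLib.HJType
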