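import Mathlib
import Cfsg.Agent.Lib.HJType.CentT
import Cfsg.Agent.S3277

/-!
Groups of Hall-Janko type: the centralizer of a second involution modulo its central four-group.
-/

set_option autoImplicit false
set_option linter.style.haveILetI false
set_option linter.unusedSectionVars false

namespace CfsgLib.HJType

open Subgroup

variable {G : Type*} [Group G] {z : G} {Q : Subgroup G}

/-- The direct decomposition of the centralizer of `t`. -/
structure DData (z t : G) (Q V B : Subgroup G) : Prop where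
  pr : Pair z t Q
  hVD : V ≤ centralizer ({t} : Set G)
  hBD : B ≤ centralizer ({t} : Set G)
  hVc : Nat.card V = 4
  htV : t ∈ V
  hVsq : ∀ v ∈ V, v * v = 1
  hVt : ∀ v ∈ V, v ≠ 1 → IsConj t v
  hcomm : ∀ v ∈ V, ∀ b ∈ B, v * b = b * v
  hdec : ∀ d ∈ centralizer ({t} : Set G), ∃ v ∈ V, ∃ b ∈ B, d = v * b
  hinf : ∀ v ∈ V, v ∈ B → v = 1
  hB : Nonempty (↥B ≃* alternatingGroup (Fin 5))
  hzB : z ∈ B
  hBz : ∀ b ∈ B, b * b = 1 → b ≠ 1 → IsConj z b
  hout : ∀ w ∈ centralizer ({t} : Set G), w * w = 1 → w ∉ B → IsConj t w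

namespace FourData

variable {t : G} {V : Subgroup G} {ρ : G} (d : FourData z t Q V ρ)
include d

theorem VD : V ≤ centralizer ({t} : Set G) := fun _ hv => (d.hVS hv).2

theorem V_normal [Finite G] : (V.subgroupOf (centralizer ({t} : Set G))).Normal := ⟨fun x hx g => by
  rw [mem_subgroupOf] at hx ⊢
  rw [coe_mul, coe_mul, coe_inv, d.V_central hx g.2, mul_inv_cancel_right]
  exact hx⟩

theorem V_tclass [Finite G] {v : G} (hv : v ∈ V) (h1 : v ≠ 1) : IsConj t v :=
  d.pr.out_conj (d.hVS hv).1 (fun h => h1 (d.hVQ v hv h)) (d.hVsq v hv)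

/-- An involution of `S` outside `E` is conjugate to `t`. -/
theorem S_tclass [Finite G] {e v : G} (he : e ∈ EE Q t) (hv : v ∈ V) (h1 : v ≠ 1) : IsConj t (e * v) :=
  d.pr.out_conj (mul_mem (d.pr.st.hQH he.1) (d.hVS hv).1)
    (fun h => h1 (d.hVQ v hv (by
      have h' : e⁻¹ * (e * v) ∈ Q := mul_mem (inv_mem he.1) h
      simpa using h')))
    (d.S_sq_one (mul_mem (d.pr.E_le_S he) (d.hVS hv)))

set_option maxHeartbeats 1000000 in
/-- The centralizer of `t` has order 48 or is an extension of its four-group by `A₅`. -/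
theorem dichotomy [Finite G] : Nat.card (centralizer ({t} : Set G)) = 48 ∨
    ∃ φ : ↥(centralizer ({t} : Set G)) →* alternatingGroup (Fin 5),
      Function.Surjective φ ∧ ∀ x, φ x = 1 ↔ (x : G) ∈ V := by
  classical
  haveI : Fact (Nat.Prime 2) := ⟨Nat.prime_two⟩
  haveI := d.V_normal
  set D := centralizer ({t} : Set G) with hD
  set V' := V.subgroupOf D with hV'
  let π : D →* D ⧸ V' := QuotientGroup.mk' V'
  have hπs : Function.Surjective π := QuotientGroup.mk'_surjective V'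
  have hπ : ∀ x y : D, π x = π y ↔ (x : G)⁻¹ * y ∈ V := fun x y => by
    rw [QuotientGroup.mk'_apply, QuotientGroup.mk'_apply, QuotientGroup.eq, hV', mem_subgroupOf]
    rfl
  have hzD : z ∈ D := d.pr.z_mem_E.2
  set zd : D := ⟨z, hzD⟩ with hzd
  have hρD : ρ ∈ D := d.hρN.1
  set rd : D := ⟨ρ, hρD⟩ with hrd
  -- the centralizer of the image of `z`
  have hC : ∀ x : D, π x * π zd = π zd * π x → (x : G) ∈ SS z t := by
    intro x hx
    rw [← map_mul, ← map_mul, hπ] at hx
    have h1 : ((x : G) * z)⁻¹ * (z * x) ∈ V := hx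
    set g := (x : G)⁻¹ with hg
    have h2 : g * z * g⁻¹ = z * (((x : G) * z)⁻¹ * (z * x)) := by
      rw [hg, inv_inv]
      group
    set v := ((x : G) * z)⁻¹ * (z * x) with hv
    have hv1 : v = 1 := by
      by_contra h
      exact d.pr.not_both (isConj_conj g z) (h2 ▸ d.S_tclass d.pr.z_mem_E h1 h)
    refine ⟨mem_centralizer_singleton_iff.2 ?_, x.2⟩
    rw [hv1, mul_one, hg, inv_inv] at h2
    calc (x : G) * z = (x : G) * ((x : G)⁻¹ * z * x) := by rw [h2]
      _ = z * x := by group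
  have hC4 : Nat.card (centralizer ({π zd} : Set (D ⧸ V'))) = 4 := by
    rw [← d.pr.card_E]
    refine (Nat.card_eq_of_bijective (fun e : EE Q t =>
      (⟨π ⟨e, e.2.2⟩, mem_centralizer_singleton_iff.2 (by
        rw [← map_mul, ← map_mul]
        exact congrArg π (Subtype.ext (d.S_comm (d.pr.E_le_S e.2) (d.pr.E_le_S d.pr.z_mem_E))))⟩ :
        centralizer ({π zd} : Set (D ⧸ V')))) ⟨?_, ?_⟩).symm
    · intro e e' h
      have h' : (e : G)⁻¹ * e' ∈ V := (hπ _ _).1 (congrArg Subtype.val h)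
      exact Subtype.ext (inv_mul_eq_one.1 (d.hVQ _ h' (mul_mem (inv_mem e.2.1) e'.2.1)))
    · rintro ⟨c, hc⟩
      obtain ⟨x, rfl⟩ := hπs c
      obtain ⟨e, he, v, hv, hx⟩ := d.hS x (hC x (mem_centralizer_singleton_iff.1 hc))
      refine ⟨⟨e, he⟩, Subtype.ext ((hπ _ _).2 ?_)⟩
      show e⁻¹ * (x : G) ∈ V
      rw [hx, inv_mul_cancel_left]
      exact hv
  have hCe : ∀ c ∈ centralizer ({π zd} : Set (D ⧸ V')), c ^ 2 = 1 := by
    intro c hc
    obtain ⟨x, rfl⟩ := hπs c
    have hx := hC x (mem_centralizer_singleton_iff.1 hc)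
    rw [pow_two, ← map_mul, ← map_one π]
    exact congrArg π (Subtype.ext (d.S_sq_one hx))
  have hz0 : orderOf (π zd) = 2 := by
    refine orderOf_two_iff.2 ⟨?_, ?_⟩
    · rw [← map_mul, ← map_one π]
      exact congrArg π (Subtype.ext d.pr.st.zz)
    · intro h
      rw [← map_one π, hπ] at h
      exact d.pr.st.z_ne (inv_eq_one.1 (d.hVQ _ (by simpa using h) (inv_mem d.pr.st.z_mem)))
  -- the fusion of the image of `E`
  have hEconj : ∀ (e : G) (he : e ∈ EE Q t), e ≠ 1 → ∃ g : D, π g * π ⟨e, he.2⟩ * (π g)⁻¹ = π zd := by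
    intro e he h1
    obtain ⟨g, hg, hge⟩ := d.pr.conj_in_D (mem_centralizer_singleton_iff.1 he.2) (d.pr.E_zclass he h1)
    exact ⟨⟨g, hg⟩, by rw [← map_inv, ← map_mul, ← map_mul]; exact congrArg π (Subtype.ext hge)⟩
  have hρ0 : π rd * π zd ≠ π zd * π rd := by
    intro h
    have := Subgroup.orderOf_dvd_natCard _ (hC rd h)
    rw [d.pr.card_S, show orderOf (rd : G) = orderOf ρ from rfl, d.hρ] at this
    norm_num at this
  set w := ρ * z * ρ⁻¹ with hw
  have hwE : w ∈ EE Q t := d.hρE' z d.pr.z_mem_E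
  have hw1 : w ≠ 1 := fun h => d.pr.st.z_ne (conj_eq_one_iff.1 h)
  have hzw1 : z * w ≠ 1 := fun h => by
    have hwz : w = z := mul_left_cancel (h.trans d.pr.st.zz.symm)
    exact d.pr.st.z_ne (d.hρE z d.pr.z_mem_E (mul_inv_eq_iff_eq_mul.1 hwz).symm)
  have hnc : ¬ Cfsg.HasNormalPComplement 2 (D ⧸ V') := by
    rintro ⟨T, N, hN, hcompl⟩
    have h4d : 4 ∣ Nat.card T := by
      have h : 2 ^ 2 ∣ Nat.card (D ⧸ V') := by
        rw [show 2 ^ 2 = 4 from rfl, ← hC4]; exact card_subgroup_dvd_card _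
      simpa using T.pow_dvd_card_of_pow_dvd_card h
    have hodd : ¬ 2 ∣ Nat.card N := by
      intro h2
      have h8 : 2 ^ 3 ∣ Nat.card (D ⧸ V') := by
        rw [← hcompl.card_mul]
        exact (show 2 ^ 3 = 2 * 4 from rfl) ▸ mul_dvd_mul h2 h4d
      have hc := card_mul_index V'
      rw [Nat.card_congr (subgroupOfEquivOfLe d.VD).toEquiv, d.hVc, index_eq_card] at hc
      apply d.pr.not_dvd_D
      rw [← hD, ← hc, show 2 ^ (4 + 1) = 4 * 2 ^ 3 from rfl]
      exact Nat.mul_dvd_mul_left 4 h8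
    have hfix : ∀ (e : G) (he : e ∈ EE Q t), e ≠ 1 → ∀ x ∈ N, π ⟨e, he.2⟩ * x = x * π ⟨e, he.2⟩ → x = 1 := by
      intro e he h1 x hx hc
      obtain ⟨g, hg⟩ := hEconj e he h1
      have hm : π g * x * (π g)⁻¹ ∈ centralizer ({π zd} : Set (D ⧸ V')) := by
        rw [← hg, mem_centralizer_conj, mem_centralizer_singleton_iff]
        exact hc.symm
      have h4 := hCe _ hm
      have hx' : π g * x * (π g)⁻¹ ∈ N := hN.conj_mem x hx _
      have ho : orderOf (π g * x * (π g)⁻¹) ∣ 2 := orderOf_dvd_of_pow_eq_one h4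
      have ho' := Subgroup.orderOf_dvd_natCard N hx'
      rcases (Nat.dvd_prime Nat.prime_two).1 ho with h | h
      · exact conj_eq_one_iff.1 (orderOf_eq_one_iff.1 h)
      · exact absurd (h ▸ ho') hodd
    have hbot : N = ⊥ := by
      have e1 : π ⟨z * w, (mul_mem d.pr.z_mem_E hwE).2⟩ = π zd * π ⟨w, hwE.2⟩ := map_mul π zd ⟨w, hwE.2⟩
      have hsq : ∀ (e : G) (he : e ∈ EE Q t), π ⟨e, he.2⟩ * π ⟨e, he.2⟩ = 1 := fun e he => by
        rw [← map_mul, ← map_one π]; exact congrArg π (Subtype.ext (d.pr.E_sq he))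
      refine four_fpf (hsq z d.pr.z_mem_E) (hsq w hwE) ?_ ?_ ?_ (hfix z d.pr.z_mem_E d.pr.st.z_ne)
        (hfix w hwE hw1) ?_
      · rw [← map_mul, ← map_mul]
        exact congrArg π (Subtype.ext (d.pr.S_comm_E (d.pr.E_le_S d.pr.z_mem_E) hwE))
      · intro x hx
        have := hN.conj_mem x hx (π zd)
        rwa [inv_eq_of_mul_eq_one_right (hsq z d.pr.z_mem_E)] at this
      · intro x hx
        have := hN.conj_mem x hx (π ⟨w, hwE.2⟩)
        rwa [inv_eq_of_mul_eq_one_right (hsq w hwE)] at this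
      · intro x hx hc
        refine hfix _ (mul_mem d.pr.z_mem_E hwE) hzw1 x hx ?_
        rw [e1]
        exact hc
    have hTtop : Nat.card T = Nat.card (D ⧸ V') := by
      rw [← hcompl.card_mul, hbot, card_bot, one_mul]
    obtain ⟨m, hm⟩ := IsPGroup.iff_card.1 T.2
    have h3 : orderOf (π rd) ∣ 3 := (orderOf_map_dvd π rd).trans (by
      rw [← orderOf_coe, show (rd : G) = ρ from rfl, d.hρ])
    rcases (Nat.dvd_prime Nat.prime_three).1 h3 with h | h
    · rw [orderOf_eq_one_iff] at h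
      exact hρ0 (by rw [h, one_mul, mul_one])
    · have := orderOf_dvd_natCard (π rd)
      rw [h, ← hTtop, hm] at this
      exact absurd (Nat.prime_three.dvd_of_dvd_pow this) (by norm_num)
  by_cases hne : ∀ A : Subgroup (D ⧸ V'), A.Normal → Cfsg.IsElementaryAbelian 2 A → Nat.card A ≠ 2 ∧ Nat.card A ≠ 4
  · obtain ⟨e⟩ := Cfsg.Agent.S3277.result (π zd) hz0 hC4 hCe hnc hne
    refine Or.inr ⟨e.toMonoidHom.comp π, e.surjective.comp hπs, fun x => ?_⟩
    show e (π x) = 1 ↔ _
    rw [MulEquiv.map_eq_one_iff, QuotientGroup.mk'_apply, QuotientGroup.eq_one_iff, hV', mem_subgroupOf]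
  · left
    push Not at hne
    obtain ⟨A, hAn, hAe, hA⟩ := hne
    set C := centralizer ({π zd} : Set (D ⧸ V')) with hCdef
    have hAsyl : A ≤ C := by
      obtain ⟨c, -, hcA⟩ := exists_conj_into (K := (⊤ : Subgroup (D ⧸ V'))) (p := 2) (n := 2) (le_top : C ≤ ⊤)
        (by rw [hC4]; norm_num) (fun h => by
          rw [card_top] at h
          have hc := card_mul_index V'
          rw [Nat.card_congr (subgroupOfEquivOfLe d.VD).toEquiv, d.hVc, index_eq_card] at hc
          apply d.pr.not_dvd_D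
          rw [← hD, ← hc, show 2 ^ (4 + 1) = 4 * 2 ^ 3 from rfl]
          exact Nat.mul_dvd_mul_left 4 h) (le_top : A ≤ ⊤)
        (fun a => ⟨1, Subtype.ext (by rw [pow_one]; exact hAe.2 a a.2)⟩)
      intro a ha
      simpa [mul_assoc] using hcA _ (hAn.conj_mem a ha c⁻¹)
    have hA4 : Nat.card A = 4 := by
      by_contra h4
      have h2 : Nat.card A = 2 := by
        by_contra h2
        exact h4 (hA h2)
      haveI : Fact (Nat.Prime 2) := ⟨Nat.prime_two⟩
      obtain ⟨a, ha⟩ := exists_prime_orderOf_dvd_card' (G := A) 2 (by rw [h2])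
      have ha1 : (a : D ⧸ V') ≠ 1 := fun h => by
        rw [← orderOf_coe, h, orderOf_one] at ha; omega
      have hcen : ∀ g, g * (a : D ⧸ V') = a * g := by
        intro g
        have hg := hAn.conj_mem _ a.2 g
        by_contra hne'
        have hne2 : g * (a : D ⧸ V') * g⁻¹ ≠ a := fun h => hne' (mul_inv_eq_iff_eq_mul.1 h)
        have h3 : ({1, ⟨(a : D ⧸ V'), a.2⟩, ⟨_, hg⟩} : Finset A).card = 3 := by
          rw [Finset.card_insert_of_notMem, Finset.card_pair]
          · exact fun h => hne2 (congrArg Subtype.val h).symm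
          · simp only [Finset.mem_insert, Finset.mem_singleton, Subtype.ext_iff, OneMemClass.coe_one, not_or]
            exact ⟨ha1.symm, fun h => ha1 (conj_eq_one_iff.1 h.symm)⟩
        haveI := Fintype.ofFinite A
        have := Finset.card_le_univ ({1, ⟨(a : D ⧸ V'), a.2⟩, ⟨_, hg⟩} : Finset A)
        rw [h3, ← Nat.card_eq_fintype_card, h2] at this
        omega
      obtain ⟨x, hx⟩ := hπs (a : D ⧸ V')
      have haC := hAsyl a.2
      rw [← hx] at haC
      obtain ⟨e, he, v, hv, hxe⟩ := d.hS x (hC x (mem_centralizer_singleton_iff.1 haC))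
      have hxe' : π x = π ⟨e, he.2⟩ := (hπ _ _).2 (by
        show (x : G)⁻¹ * e ∈ V
        rw [hxe, mul_inv_rev, mul_assoc, inv_mul_cancel, mul_one]; exact inv_mem hv)
      have he1 : e ≠ 1 := by
        rintro rfl
        exact ha1 (by rw [← hx, hxe', ← map_one π]; rfl)
      obtain ⟨g, hg⟩ := hEconj e he he1
      rw [← hxe', hx, hcen, mul_inv_cancel_right] at hg
      exact hρ0 (hg ▸ hcen (π rd))
    have hAC : A = C := eq_of_le_of_card_ge hAsyl (by rw [hC4, hA4])
    have hNall : centralizer ({t} : Set G) ≤ centralizer ({t} : Set G) ⊓ normalizer (SS z t : Set G) := by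
      intro g hg
      refine mem_inf.2 ⟨hg, mem_normalizer_iff.2 fun x => ?_⟩
      have key : ∀ (g' : G), g' ∈ D → ∀ s ∈ SS z t, g' * s * g'⁻¹ ∈ SS z t := by
        intro g' hg' s hs
        have hm : π ⟨g', hg'⟩ * π ⟨s, hs.2⟩ * (π ⟨g', hg'⟩)⁻¹ ∈ A := by
          refine hAn.conj_mem _ ?_ _
          rw [hAC, hCdef, mem_centralizer_singleton_iff, ← map_mul, ← map_mul]
          exact congrArg π (Subtype.ext (d.S_comm hs (d.pr.E_le_S d.pr.z_mem_E)))
        rw [hAC, hCdef, mem_centralizer_singleton_iff, ← map_inv, ← map_mul, ← map_mul] at hm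
        exact hC _ hm
      refine ⟨key g hg x, fun hx => ?_⟩
      have := key g⁻¹ (inv_mem hg) _ hx
      simpa [mul_assoc] using this
    exact (congrArg (fun K : Subgroup G => Nat.card K) (le_antisymm hNall inf_le_left)).trans d.pr.card_N

end FourData

end CfsgLib.HJType
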