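import Mathlib
import Cfsg.Agent.Lib.HJType.Quot
import Cfsg.Agent.Lib.HJType.Five0
import Cfsg.Agent.Lib.HJType.AltFive
import Cfsg.Agent.S0213

/-!
Groups of Hall-Janko type: the order of the group and the structure of the second involution centralizer.
-/

set_option autoImplicit false
set_option linter.style.haveILetI false
set_option linter.unusedSectionVars false

namespace CfsgLib.HJType

open Subgroup

variable {G : Type*} [Group G] {z : G} {Q : Subgroup G}

theorem eq_one_or_self {w x : G} (hw : w * w = 1) (hx : x ∈ zpowers w) : x = 1 ∨ x = w := by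
  obtain ⟨k, rfl⟩ := mem_zpowers_iff.1 hx
  have h2 : w ^ (2 : ℤ) = 1 := by rw [zpow_two]; exact hw
  rcases Int.even_or_odd' k with ⟨j, rfl | rfl⟩
  · exact Or.inl (by rw [zpow_mul, h2, one_zpow])
  · exact Or.inr (by rw [zpow_add, zpow_mul, h2, one_zpow, one_mul, zpow_one])

theorem comm_of_mem_zpowers {u v w : G} (hu : u * u = 1) (hv : v * v = 1) (hw : w * w = 1)
    (h : w ∈ zpowers (u * v)) : u * w = w * u ∧ v * w = w * v := by
  obtain ⟨n, hn⟩ := mem_zpowers_iff.1 h
  have hi : w⁻¹ = w := inv_eq_of_mul_eq_one_right hw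
  have h1 : u * w * u⁻¹ = w⁻¹ := by
    rw [← hn, ← conj_zpow, show u * (u * v) * u⁻¹ = (u * v)⁻¹ by
      rw [← mul_assoc, hu, one_mul, _root_.mul_inv_rev, inv_eq_of_mul_eq_one_right hv], inv_zpow]
  have h2 : v * w * v⁻¹ = w⁻¹ := by
    rw [← hn, ← conj_zpow, show v * (u * v) * v⁻¹ = (u * v)⁻¹ by
      rw [_root_.mul_inv_rev, inv_eq_of_mul_eq_one_right hu, inv_eq_of_mul_eq_one_right hv, mul_assoc,
        mul_assoc u, hv, mul_one], inv_zpow]
  rw [hi] at h1 h2
  exact ⟨mul_inv_eq_iff_eq_mul.1 h1, mul_inv_eq_iff_eq_mul.1 h2⟩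

namespace Setup

variable (st : Setup z Q)
include st

/-- Two distinct involutions of `Q` conjugate under an involution of `H`: their product is `z` or a root of `z`. -/
theorem pair_prod [Finite G] {u u' : G} (hu : u ∈ Q) (hu2 : u * u = 1) (hu1 : u ≠ 1) (huz : u ≠ z)
    (hu' : u' ∈ Q) (hu'2 : u' * u' = 1) (hu'1 : u' ≠ 1) (hu'z : u' ≠ z) (hne : u' ≠ u) :
    u * u' = z ∨ u * u' * (u * u') = z := by
  obtain ⟨F⟩ := st.nonempty_frame
  obtain ⟨i, hi⟩ := F.hall u hu hu2 hu1 huz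
  obtain ⟨j, hj⟩ := F.hall u' hu' hu'2 hu'1 hu'z
  rcases st.comm_cases hu hu' with hc | ha
  · left
    have hij : i = j := by
      by_contra hij
      apply F.hnc i j hij
      have hci := st.qz' (st.hQH (F.hx i).1)
      have hcj := st.qz' (st.hQH (F.hx j).1)
      rcases hi with e | e <;> rcases hj with e' | e' <;> rw [e, e'] at hc
      · exact hc
      · rw [hci, mul_assoc] at hc
        exact mul_left_cancel hc
      · rw [hcj, mul_assoc] at hc
        exact mul_left_cancel hc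
      · rw [mul_assoc, hci, mul_assoc, hcj, st.zzc, st.zzc] at hc
        exact hc
    subst hij
    refine (st.inPair_mul_self F (show F.InPair i u from hi) (show F.InPair i u' from hj)).resolve_left fun h => hne ?_
    exact mul_left_cancel (h.trans hu2.symm)
  · right
    have ha' : u' * u = z * (u * u') := st.anti_symm ha
    calc u * u' * (u * u') = u * (u' * u) * u' := by group
      _ = u * (z * (u * u')) * u' := by rw [ha']
      _ = z * (u * u) * (u' * u') := by rw [st.qz' (st.hQH hu)]; group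
      _ = z := by rw [hu2, hu'2, mul_one, mul_one]

end Setup

namespace Pair

variable {t : G} (P : Pair z t Q)
include P

/-- The pairs of a conjugate of `z` and a conjugate of `t` with `z` in the group generated by the product. -/
theorem card_az [Finite G] :
    Nat.card {p : G × G // IsConj z p.1 ∧ IsConj t p.2 ∧ z ∈ zpowers (p.1 * p.2)} = 960 := by
  classical
  haveI := Fintype.ofFinite G
  set H := centralizer ({z} : Set G) with hH
  let I := {v : G // v ∈ H ∧ v ∉ Q ∧ v * v = 1}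
  let U : I → Type _ := fun v => {u : G // (u ∈ Q ∧ u * u = 1 ∧ u ≠ 1 ∧ u ≠ z) ∧ u * v.1 ≠ v.1 * u}
  have hU : ∀ v : I, Nat.card (U v) = 8 := fun v => (P.st.cent_invol v.2.1 v.2.2.1 v.2.2.2).2.2.2.2.2
  have hord : ∀ {a x : G}, a * a = 1 → a ≠ 1 → IsConj a x → x * x = 1 ∧ x ≠ 1 := by
    intro a x ha ha1 h
    obtain ⟨g, rfl⟩ := isConj_iff.1 h
    exact ⟨by rw [show g * a * g⁻¹ * (g * a * g⁻¹) = g * (a * a) * g⁻¹ by group, ha, mul_one, mul_inv_cancel],
      fun h' => ha1 (conj_eq_one_iff.1 h')⟩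
  let M : (Σ v : I, U v) → G × G := fun s => (s.2.1, s.1.1)
  have hMi : Function.Injective M := by
    rintro ⟨v, u⟩ ⟨v', u'⟩ e
    obtain rfl : v = v' := Subtype.ext (congrArg Prod.snd e :)
    obtain rfl : u = u' := Subtype.ext (congrArg Prod.fst e :)
    rfl
  have hMr : ∀ p : G × G, (IsConj z p.1 ∧ IsConj t p.2 ∧ z ∈ zpowers (p.1 * p.2)) ↔ p ∈ Set.range M := by
    intro p
    constructor
    · rintro ⟨h1, h2, h3⟩
      obtain ⟨hu2, hu1⟩ := hord P.st.zz P.st.z_ne h1
      obtain ⟨hv2, hv1⟩ := hord P.ht2 P.t_ne h2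
      obtain ⟨cu, cv⟩ := comm_of_mem_zpowers hu2 hv2 P.st.zz h3
      have huH : p.1 ∈ H := mem_centralizer_singleton_iff.2 cu
      have hvH : p.2 ∈ H := mem_centralizer_singleton_iff.2 cv
      have hvQ := P.not_mem_Q_of_tclass h2
      have huQ := P.mem_Q_of_zclass huH h1
      refine ⟨⟨⟨p.2, hvH, hvQ, hv2⟩, ⟨p.1, ⟨huQ, hu2, hu1, ?_⟩, ?_⟩⟩, rfl⟩
      · intro e
        rw [e] at h3
        have hzv : z * p.2 * (z * p.2) = 1 := by
          rw [mul_assoc z, ← mul_assoc p.2, cv, mul_assoc z, hv2, mul_one, P.st.zz]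
        rcases eq_one_or_self hzv h3 with h | h
        · exact P.st.z_ne h
        · exact hv1 (left_eq_mul.1 h)
      · intro e
        have huv : p.1 * p.2 * (p.1 * p.2) = 1 := by
          rw [mul_assoc p.1, ← mul_assoc p.2, ← e, mul_assoc p.1, hv2, mul_one, hu2]
        rcases eq_one_or_self huv h3 with h | h
        · exact P.st.z_ne h
        · refine hvQ ?_
          have : p.2 = p.1 * z := by rw [h, ← mul_assoc, hu2, one_mul]
          rw [this]
          exact mul_mem huQ P.st.z_mem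
    · rintro ⟨⟨⟨v, hvH, hvQ, hv2⟩, ⟨u, ⟨huQ, hu2, hu1, huz⟩, hmove⟩⟩, rfl⟩
      refine ⟨P.st.q_conj huQ hu2 hu1, P.out_conj hvH hvQ hv2, ?_⟩
      have hvi : v⁻¹ = v := inv_eq_of_mul_eq_one_right hv2
      set u' := v * u * v⁻¹ with hu'
      have hu'Q : u' ∈ Q := P.st.conj_mem hvH huQ
      have hu'2 : u' * u' = 1 := by
        rw [hu', show v * u * v⁻¹ * (v * u * v⁻¹) = v * (u * u) * v⁻¹ by group, hu2, mul_one, mul_inv_cancel]
      have hu'1 : u' ≠ 1 := fun h => hu1 (conj_eq_one_iff.1 h)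
      have hu'z : u' ≠ z := fun h => huz (by
        have e1 : v * u = z * v := mul_inv_eq_iff_eq_mul.1 h
        rw [← P.st.zc hvH] at e1
        exact mul_left_cancel e1)
      have hne : u' ≠ u := fun h => hmove (mul_inv_eq_iff_eq_mul.1 h).symm
      have hw : u * v * (u * v) = u * u' := by rw [hu', hvi]; group
      have hm := mem_zpowers (u * v)
      have hm2 : u * u' ∈ zpowers (u * v) := hw ▸ mul_mem hm hm
      show z ∈ zpowers (u * v)
      rcases P.st.pair_prod huQ hu2 hu1 huz hu'Q hu'2 hu'1 hu'z hne with h | h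
      · exact h ▸ hm2
      · exact h ▸ mul_mem hm2 hm2
  rw [Nat.card_congr (Equiv.subtypeEquivRight hMr)]
  show Nat.card (Set.range M) = 960
  rw [Nat.card_range_of_injective hMi, Nat.card_sigma, Finset.sum_congr rfl (fun v _ => hU v), Finset.sum_const,
    Finset.card_univ, ← Nat.card_eq_fintype_card,
    show Nat.card I = 120 from P.st.card_invol P.ht P.htQ P.ht2]
  norm_num

/-- The order formula. -/
theorem card_formula [Finite G] :
    Nat.card G = Nat.card (centralizer ({t} : Set G)) * 960 +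
      1920 * Nat.card {p : G × G // IsConj z p.1 ∧ IsConj t p.2 ∧ t ∈ zpowers (p.1 * p.2)} := by
  rw [Cfsg.Agent.S0213.result z t P.st.hz P.ht' P.htz (fun w hw => P.classes (orderOf_two_iff.1 hw).1
    (orderOf_two_iff.1 hw).2), P.card_az, P.st.hH]

end Pair

namespace FourData

variable {t : G} {V : Subgroup G} {ρ : G} (d : FourData z t Q V ρ)
include d

/-- The centralizer of `t` does not have order 48. -/
theorem card_ne_48 [Finite G] : Nat.card (centralizer ({t} : Set G)) ≠ 48 := by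
  classical
  haveI := Fintype.ofFinite G
  haveI : Fact (Nat.Prime 2) := ⟨Nat.prime_two⟩
  intro h48
  set D := centralizer ({t} : Set G) with hD
  have hDN : D ⊓ normalizer (SS z t : Set G) = D := eq_of_le_of_card_ge inf_le_left (by rw [h48, d.pr.card_N])
  have hinS : ∀ w ∈ D, w * w = 1 → w ∈ SS z t := by
    intro w hw hw2
    obtain ⟨m, -, hm⟩ := (Nat.dvd_prime_pow Nat.prime_two).1
      (orderOf_dvd_of_pow_eq_one (show w ^ 2 ^ 1 = 1 by rw [pow_one, pow_two, hw2]))
    obtain ⟨c, hc, hcw⟩ := exists_conj_into (K := D) (B := SS z t) inf_le_right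
      (by rw [d.pr.card_S]; norm_num : Nat.card (SS z t) = 2 ^ 4) d.pr.not_dvd_D (zpowers_le.2 hw)
      (IsPGroup.of_card (n := m) (by rw [Nat.card_zpowers, hm]))
    have hcN : c ∈ normalizer (SS z t : Set G) := (mem_inf.1 (hDN.symm ▸ hc : c ∈ D ⊓ _)).2
    exact (mem_normalizer_iff.1 hcN w).2 (hcw w (mem_zpowers w))
  have hat : Nat.card {p : G × G // IsConj z p.1 ∧ IsConj t p.2 ∧ t ∈ zpowers (p.1 * p.2)} = 3 := by
    have hE3 : Nat.card {a : G // a ∈ EE Q t ∧ a ≠ 1} = 3 := by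
      rw [Nat.card_eq_fintype_card, Fintype.card_subtype,
        show (Finset.univ.filter fun x => x ∈ EE Q t ∧ x ≠ 1) = (Finset.univ.filter fun x => x ∈ EE Q t).erase 1
          by ext x; simp [and_comm],
        Finset.card_erase_of_mem (Finset.mem_filter.2 ⟨Finset.mem_univ _, one_mem _⟩), ← Fintype.card_subtype,
        ← Nat.card_eq_fintype_card, d.pr.card_E]
    rw [← hE3]
    refine Nat.card_congr
      { toFun := fun p => ⟨p.1.1, ?_⟩
        invFun := fun a => ⟨(a.1, a.1 * t), d.pr.E_zclass a.2.1 a.2.2, d.S_tclass a.2.1 d.htV d.pr.t_ne, ?_⟩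
        left_inv := fun p => ?_
        right_inv := fun _ => rfl }
    · obtain ⟨h1, h2, h3⟩ := p.2
      obtain ⟨g, hg⟩ := isConj_iff.1 h1
      have hu2 : p.1.1 * p.1.1 = 1 := by
        rw [← hg, show g * z * g⁻¹ * (g * z * g⁻¹) = g * (z * z) * g⁻¹ by group, d.pr.st.zz, mul_one, mul_inv_cancel]
      have hu1 : p.1.1 ≠ 1 := fun h => d.pr.st.z_ne (conj_eq_one_iff.1 (hg.trans h))
      obtain ⟨g', hg'⟩ := isConj_iff.1 h2
      have hv2 : p.1.2 * p.1.2 = 1 := by
        rw [← hg', show g' * t * g'⁻¹ * (g' * t * g'⁻¹) = g' * (t * t) * g'⁻¹ by group, d.pr.ht2, mul_one,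
          mul_inv_cancel]
      have cu := (comm_of_mem_zpowers hu2 hv2 d.pr.ht2 h3).1
      exact ⟨d.pr.zclass_S (hinS _ (mem_centralizer_singleton_iff.2 cu) hu2) h1, hu1⟩
    · show t ∈ zpowers (a.1 * (a.1 * t))
      rw [← mul_assoc, d.pr.E_sq a.2.1, one_mul]
      exact mem_zpowers t
    · obtain ⟨⟨u, v⟩, h1, h2, h3⟩ := p
      refine Subtype.ext (Prod.ext rfl ?_)
      show u * t = v
      simp only at h1 h2 h3
      obtain ⟨g, hg⟩ := isConj_iff.1 h1
      have hu2 : u * u = 1 := by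
        rw [← hg, show g * z * g⁻¹ * (g * z * g⁻¹) = g * (z * z) * g⁻¹ by group, d.pr.st.zz, mul_one, mul_inv_cancel]
      obtain ⟨g', hg'⟩ := isConj_iff.1 h2
      have hv2 : v * v = 1 := by
        rw [← hg', show g' * t * g'⁻¹ * (g' * t * g'⁻¹) = g' * (t * t) * g'⁻¹ by group, d.pr.ht2, mul_one,
          mul_inv_cancel]
      obtain ⟨cu, cv⟩ := comm_of_mem_zpowers hu2 hv2 d.pr.ht2 h3
      have huv : u * v * (u * v) = 1 :=
        d.S_sq_one (mul_mem (hinS u (mem_centralizer_singleton_iff.2 cu) hu2)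
          (hinS v (mem_centralizer_singleton_iff.2 cv) hv2))
      rcases eq_one_or_self huv h3 with h | h
      · exact absurd h d.pr.t_ne
      · rw [h, ← mul_assoc, hu2, one_mul]
  have hG := d.pr.card_formula
  rw [← hD, h48, hat] at hG
  have hzc : Nat.card {u : G // IsConj z u} = 27 := by
    have h := CfsgLib.Invol.card_conjugates_mul z
    rw [d.pr.st.hH, hG] at h
    omega
  obtain ⟨f, hf, hf5⟩ := d.pr.st.exists_five
  obtain ⟨h1, h2, h3⟩ := d.pr.st.five_count hf hf5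
  obtain ⟨h4, -⟩ := d.pr.st.five_cent hf hf5
  rw [hzc] at h2 h3
  have hdvd : Nat.card {u : G // IsConj z u ∧ u * f = f * u} * 10 ∣ 48 * 960 + 1920 * 3 := by
    rw [h1, ← hG]; exact card_subgroup_dvd_card _
  rw [← h1] at h4
  generalize Nat.card {u : G // IsConj z u ∧ u * f = f * u} = M at h2 h3 h4 hdvd
  unfold Nat.ModEq at h2
  clear * - h2 h3 h4 hdvd
  interval_cases M <;> omega

/-- The decomposition of the centralizer of `t`. -/
theorem exists_dData [Finite G] : ∃ B, DData z t Q V B := by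
  classical
  haveI : Fact (Nat.Prime 2) := ⟨Nat.prime_two⟩
  set D := centralizer ({t} : Set G) with hD
  obtain ⟨φ, hφs, hφk⟩ : ∃ φ : ↥D →* alternatingGroup (Fin 5), Function.Surjective φ ∧ ∀ x, φ x = 1 ↔ (x : G) ∈ V :=
    d.dichotomy.resolve_left d.card_ne_48
  set S' := (SS z t).subgroupOf D with hS'
  letI : CommGroup S' := { (inferInstance : Group S') with
    mul_comm := fun a b => Subtype.ext (Subtype.ext (d.S_comm a.2 b.2)) }
  haveI : S'.FiniteIndex := inferInstance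
  have hidx : ¬ 2 ∣ S'.index := by
    intro h
    apply d.pr.not_dvd_D
    have hSc : Nat.card S' = 16 := by
      have hle : SS z t ≤ D := inf_le_right
      rw [← d.pr.card_S]
      exact Nat.card_congr (subgroupOfEquivOfLe hle).toEquiv
    rw [← hD, ← card_mul_index S', hSc, show 2 ^ (4 + 1) = 16 * 2 from rfl]
    exact Nat.mul_dvd_mul_left 16 h
  have hVcom : ∀ x : D, x ∈ commutator D → (x : G) ∈ V → x = 1 := by
    intro x hx hxV
    have hxS : x ∈ S' := d.hVS hxV
    have hc : ∀ y : D, y * x = x * y := fun y => Subtype.ext (d.V_central hxV y.2)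
    have key : ∀ (k : ℕ) (g₀ : D), g₀⁻¹ * x ^ k * g₀ ∈ S' → g₀⁻¹ * x ^ k * g₀ = x ^ k := fun k g₀ _ => by
      rw [mul_assoc, ← ((show Commute g₀ x from hc g₀).pow_right k).eq, inv_mul_cancel_left]
    have h1 : MonoidHom.transfer (MonoidHom.id S') x = 1 := by
      have := Abelianization.commutator_subset_ker (MonoidHom.transfer (MonoidHom.id S')) hx
      exact this
    rw [MonoidHom.transfer_eq_pow _ x key] at h1
    have h2 : x ^ S'.index = 1 := congrArg Subtype.val h1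
    have h3 : x ^ 2 = 1 := Subtype.ext (by rw [Subgroup.coe_pow, pow_two, d.hVsq _ hxV]; rfl)
    have := Nat.eq_one_of_dvd_one ((Nat.coprime_two_right.2 (Nat.odd_iff.2 (by omega : S'.index % 2 = 1))) ▸
      Nat.dvd_gcd (orderOf_dvd_of_pow_eq_one h2) (orderOf_dvd_of_pow_eq_one h3))
    exact orderOf_eq_one_iff.1 this
  set B' := commutator D with hB'
  have hψi : Function.Injective (φ.comp B'.subtype) := by
    rw [injective_iff_map_eq_one]
    intro x hx
    exact Subtype.ext (hVcom x x.2 ((hφk x).1 hx))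
  have hψs : Function.Surjective (φ.comp B'.subtype) := by
    intro a
    have ha : a ∈ B'.map φ := by
      rw [hB', _root_.commutator_def, map_commutator, map_top_of_surjective φ hφs, ← _root_.commutator_def, a5_commutator]
      exact mem_top a
    obtain ⟨x, hx, rfl⟩ := ha
    exact ⟨⟨x, hx⟩, rfl⟩
  set B := B'.map D.subtype with hB
  have hVB : ∀ v ∈ V, v ∈ B → v = 1 := by
    rintro v hv ⟨x, hx, rfl⟩
    exact congrArg Subtype.val (hVcom x hx hv)
  have hEB : ∀ e ∈ EE Q t, e ∈ B := by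
    let f : EE Q t → EE Q t := fun e => ⟨ρ * (e : G) * ρ⁻¹ * (e : G)⁻¹, mul_mem (d.hρE' _ e.2) (inv_mem e.2)⟩
    have hf : Function.Injective f := by
      intro a b h
      have h' : ρ * (a : G) * ρ⁻¹ * (a : G)⁻¹ = ρ * (b : G) * ρ⁻¹ * (b : G)⁻¹ := congrArg Subtype.val h
      have hcm : ∀ p ∈ EE Q t, ∀ q ∈ EE Q t, p * q = q * p := fun p hp q hq =>
        d.S_comm (d.pr.E_le_S hp) (d.pr.E_le_S hq)
      have hc : ρ * ((b : G)⁻¹ * a) * ρ⁻¹ = (b : G)⁻¹ * a := by
        have e1 : ρ * (a : G) * ρ⁻¹ = ρ * (b : G) * ρ⁻¹ * ((b : G)⁻¹ * a) := by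
          rw [← mul_assoc, ← h', inv_mul_cancel_right]
        calc ρ * ((b : G)⁻¹ * a) * ρ⁻¹ = (ρ * (b : G) * ρ⁻¹)⁻¹ * (ρ * (a : G) * ρ⁻¹) := by group
          _ = _ := by rw [e1, inv_mul_cancel_left]
      have := d.hρE _ (mul_mem (inv_mem b.2) a.2) (mul_inv_eq_iff_eq_mul.1 hc).symm
      exact Subtype.ext (inv_mul_eq_one.1 this).symm
    intro e he
    obtain ⟨a, ha⟩ := Finite.surjective_of_injective hf ⟨e, he⟩
    refine ⟨⟨ρ, d.hρN.1⟩ * ⟨a, a.2.2⟩ * ⟨ρ, d.hρN.1⟩⁻¹ * ⟨a, a.2.2⟩⁻¹, ?_, congrArg Subtype.val ha⟩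
    rw [hB']
    exact commutator_mem_commutator (mem_top _) (mem_top _)
  have hconj : ∀ w ∈ D, w * w = 1 → ∃ c ∈ D, ∃ e ∈ EE Q t, ∃ v ∈ V, c * w * c⁻¹ = e * v := by
    intro w hw hw2
    obtain ⟨m, -, hm⟩ := (Nat.dvd_prime_pow Nat.prime_two).1
      (orderOf_dvd_of_pow_eq_one (show w ^ 2 ^ 1 = 1 by rw [pow_one, pow_two, hw2]))
    obtain ⟨c, hc, hcw⟩ := exists_conj_into (K := D) (B := SS z t) inf_le_right
      (by rw [d.pr.card_S]; norm_num : Nat.card (SS z t) = 2 ^ 4) d.pr.not_dvd_D (zpowers_le.2 hw)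
      (IsPGroup.of_card (n := m) (by rw [Nat.card_zpowers, hm]))
    exact ⟨c, hc, d.hS _ (hcw w (mem_zpowers w))⟩
  have hBn : ∀ c ∈ D, ∀ b ∈ B, c * b * c⁻¹ ∈ B := by
    rintro c hc _ ⟨x, hx, rfl⟩
    exact ⟨⟨c, hc⟩ * x * ⟨c, hc⟩⁻¹, (inferInstance : (commutator D).Normal).conj_mem x hx _, rfl⟩
  refine ⟨B, ⟨d.pr, d.VD, map_subtype_le _, d.hVc, d.htV, d.hVsq, fun v hv h1 => d.V_tclass hv h1, ?_, ?_, hVB, ?_,
    hEB z d.pr.z_mem_E, ?_, ?_⟩⟩
  · rintro v hv _ ⟨x, -, rfl⟩
    exact (d.V_central hv x.2).symm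
  · intro y hy
    obtain ⟨x, hx⟩ := hψs (φ ⟨y, hy⟩)
    have hm : ((⟨y, hy⟩ * (x : D)⁻¹ : D) : G) ∈ V := by
      rw [← hφk, map_mul, map_inv, show φ (x : D) = φ ⟨y, hy⟩ from hx, mul_inv_cancel]
    exact ⟨_, hm, _, ⟨x, x.2, rfl⟩, by simp⟩
  · exact ⟨((B'.equivMapOfInjective _ D.subtype_injective).symm).trans (MulEquiv.ofBijective _ ⟨hψi, hψs⟩)⟩
  · rintro b hb hb2 hb1
    obtain ⟨c, hc, e, he, v, hv, hev⟩ := hconj b (map_subtype_le _ hb) hb2
    have hvB : v ∈ B := by
      have := mul_mem (inv_mem (hEB e he)) (hev ▸ hBn c hc b hb : e * v ∈ B)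
      simpa using this
    rw [hVB v hv hvB, mul_one] at hev
    have he1 : e ≠ 1 := fun h => hb1 (conj_eq_one_iff.1 (hev.trans h))
    exact (d.pr.E_zclass he he1).trans (hev ▸ isConj_conj c b).symm
  · intro w hw hw2 hwB
    obtain ⟨c, hc, e, he, v, hv, hev⟩ := hconj w hw hw2
    have hv1 : v ≠ 1 := by
      rintro rfl
      apply hwB
      rw [mul_one] at hev
      have := hBn c⁻¹ (inv_mem hc) e (hEB e he)
      rw [← hev] at this
      simpa [mul_assoc] using this
    exact (d.S_tclass he hv hv1).trans (hev ▸ isConj_conj c w).symm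

end FourData

namespace DData

variable {t : G} {V B : Subgroup G} (d : DData z t Q V B)
include d

theorem uniq {a b a' b' : G} (ha : a ∈ V) (hb : b ∈ B) (ha' : a' ∈ V) (hb' : b' ∈ B) (e : a * b = a' * b') :
    a = a' ∧ b = b' := by
  have h1 : a'⁻¹ * a = b' * b⁻¹ := by rw [inv_mul_eq_iff_eq_mul, ← mul_assoc, ← e, mul_inv_cancel_right]
  have h2 := d.hinf _ (mul_mem (inv_mem ha') ha) (h1 ▸ mul_mem hb' (inv_mem hb))
  rw [inv_mul_eq_one] at h2
  subst h2
  exact ⟨rfl, mul_left_cancel e⟩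

theorem card_D [Finite G] : Nat.card (centralizer ({t} : Set G)) = 240 := by
  obtain ⟨eB⟩ := d.hB
  let f : V × B → centralizer ({t} : Set G) := fun p => ⟨p.1 * p.2, mul_mem (d.hVD p.1.2) (d.hBD p.2.2)⟩
  have hf : Function.Bijective f := ⟨fun p p' e => by
      obtain ⟨e1, e2⟩ := d.uniq p.1.2 p.2.2 p'.1.2 p'.2.2 (congrArg Subtype.val e)
      exact Prod.ext (Subtype.ext e1) (Subtype.ext e2),
    fun h => by
      obtain ⟨a, ha, c, hc, e⟩ := d.hdec h h.2
      exact ⟨(⟨a, ha⟩, ⟨c, hc⟩), Subtype.ext e.symm⟩⟩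
  rw [← Nat.card_eq_of_bijective f hf, Nat.card_prod, d.hVc, Nat.card_congr eB.toEquiv, a5_card]

theorem zclass_mem_B [Finite G] {w : G} (hw : w ∈ centralizer ({t} : Set G)) (hc : IsConj z w) : w ∈ B := by
  by_contra hwB
  obtain ⟨g, hg⟩ := isConj_iff.1 hc
  refine d.pr.not_both hc (d.hout w hw ?_ hwB)
  rw [← hg, show g * z * g⁻¹ * (g * z * g⁻¹) = g * (z * z) * g⁻¹ by group, d.pr.st.zz, mul_one, mul_inv_cancel]

/-- The pairs of a conjugate of `z` and a conjugate of `t` with `t` in the group generated by the product. -/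
theorem card_at [Finite G] :
    Nat.card {p : G × G // IsConj z p.1 ∧ IsConj t p.2 ∧ t ∈ zpowers (p.1 * p.2)} = 195 := by
  classical
  haveI := Fintype.ofFinite G
  obtain ⟨eB⟩ := d.hB
  rw [← a5_pairs]
  let A := alternatingGroup (Fin 5)
  have htB : t ∉ B := fun h => d.pr.t_ne (d.hinf t d.htV h)
  have htc : ∀ c ∈ B, c * t = t * c := fun c hc => mem_centralizer_singleton_iff.1 (d.hBD hc)
  have hP : ∀ x : {p : A × A // p.1 * p.1 = 1 ∧ p.1 ≠ 1 ∧ p.2 * p.2 = 1 ∧ (p.1 * p.2) ^ 15 = 1},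
      IsConj z ((eB.symm x.1.1 : B) : G) ∧ IsConj t (t * ((eB.symm x.1.2 : B) : G)) ∧
        t ∈ zpowers (((eB.symm x.1.1 : B) : G) * (t * ((eB.symm x.1.2 : B) : G))) := by
    rintro ⟨⟨a, c⟩, ha, ha1, hc, hac⟩
    set a' : G := ((eB.symm a : B) : G)
    set c' : G := ((eB.symm c : B) : G)
    have haB : a' ∈ B := (eB.symm a).2
    have hcB : c' ∈ B := (eB.symm c).2
    have ha2 : a' * a' = 1 := by rw [← Subgroup.coe_mul, ← map_mul, ha, map_one, Subgroup.coe_one]
    have ha1' : a' ≠ 1 := fun h => ha1 (eB.symm.injective ((Subtype.ext h).trans (map_one _).symm))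
    have hc2 : c' * c' = 1 := by rw [← Subgroup.coe_mul, ← map_mul, hc, map_one, Subgroup.coe_one]
    have hac' : (a' * c') ^ 15 = 1 := by
      rw [← Subgroup.coe_mul, ← map_mul, ← Subgroup.coe_pow, ← map_pow, hac, map_one, Subgroup.coe_one]
    have hv2 : t * c' * (t * c') = 1 := by
      rw [mul_assoc t, ← mul_assoc c', htc c' hcB, mul_assoc t, hc2, mul_one, d.pr.ht2]
    refine ⟨d.hBz a' haB ha2 ha1', d.hout (t * c') (mul_mem (d.hVD d.htV) (d.hBD hcB)) hv2 ?_, ?_⟩
    · intro h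
      exact htB (by simpa using mul_mem h (inv_mem hcB))
    · have e : a' * (t * c') = t * (a' * c') := by rw [← mul_assoc, htc a' haB, mul_assoc]
      rw [e]
      have ht15 : t ^ 15 = t := by
        rw [show 15 = 2 * 7 + 1 by norm_num, pow_succ, pow_mul, sq, d.pr.ht2, one_pow, one_mul]
      have := npow_mem_zpowers (t * (a' * c')) 15
      rwa [(show Commute t (a' * c') from (htc _ (mul_mem haB hcB)).symm).mul_pow, hac', mul_one, ht15] at this
  refine (Nat.card_eq_of_bijective (fun x => (⟨(((eB.symm x.1.1 : B) : G), t * ((eB.symm x.1.2 : B) : G)), hP x⟩ :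
    {p : G × G // IsConj z p.1 ∧ IsConj t p.2 ∧ t ∈ zpowers (p.1 * p.2)})) ⟨?_, ?_⟩).symm
  · intro x y e
    have e1 := congrArg (fun p => p.1.1) e
    have e2 := congrArg (fun p => p.1.2) e
    exact Subtype.ext (Prod.ext (eB.symm.injective (Subtype.ext e1))
      (eB.symm.injective (Subtype.ext (mul_left_cancel e2))))
  · rintro ⟨⟨u, v⟩, h1, h2, h3⟩
    simp only at h1 h2 h3
    obtain ⟨g, hg⟩ := isConj_iff.1 h1
    have hu2 : u * u = 1 := by
      rw [← hg, show g * z * g⁻¹ * (g * z * g⁻¹) = g * (z * z) * g⁻¹ by group, d.pr.st.zz, mul_one, mul_inv_cancel]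
    have hu1 : u ≠ 1 := fun h => d.pr.st.z_ne (conj_eq_one_iff.1 (hg.trans h))
    obtain ⟨g', hg'⟩ := isConj_iff.1 h2
    have hv2 : v * v = 1 := by
      rw [← hg', show g' * t * g'⁻¹ * (g' * t * g'⁻¹) = g' * (t * t) * g'⁻¹ by group, d.pr.ht2, mul_one,
        mul_inv_cancel]
    obtain ⟨cu, cv⟩ := comm_of_mem_zpowers hu2 hv2 d.pr.ht2 h3
    have huB := d.zclass_mem_B (mem_centralizer_singleton_iff.2 cu) h1
    obtain ⟨a, haV, c, hcB, rfl⟩ := d.hdec v (mem_centralizer_singleton_iff.2 cv)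
    have haa : a * a = 1 := d.hVsq a haV
    have hac := d.hcomm a haV c hcB
    have hcc : c * c = 1 := by
      rw [mul_assoc a, ← mul_assoc c, ← hac, mul_assoc a, ← mul_assoc, haa, one_mul] at hv2
      exact hv2
    obtain ⟨n, hn⟩ := (mem_powers_iff_mem_zpowers (x := u * (a * c))).2 h3
    change (u * (a * c)) ^ n = t at hn
    have e : u * (a * c) = a * (u * c) := by rw [← mul_assoc, ← d.hcomm a haV u huB, mul_assoc]
    rw [e, (show Commute a (u * c) from d.hcomm a haV _ (mul_mem huB hcB)).mul_pow] at hn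
    obtain ⟨h4, h5⟩ := d.uniq (pow_mem haV n) (pow_mem (mul_mem huB hcB) n) d.htV (one_mem _)
      (by rw [hn, mul_one])
    rcases Nat.even_or_odd' n with ⟨m, rfl | rfl⟩
    · rw [pow_mul, sq, haa, one_pow] at h4
      exact absurd h4.symm d.pr.t_ne
    · rw [pow_succ, pow_mul, sq, haa, one_pow, one_mul] at h4
      subst h4
      have ho : orderOf (eB ⟨u * c, mul_mem huB hcB⟩) ∣ 15 := by
        have hd : orderOf (eB ⟨u * c, mul_mem huB hcB⟩) ∣ 2 * m + 1 := by
          refine orderOf_dvd_of_pow_eq_one ?_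
          rw [← map_pow, show (⟨u * c, mul_mem huB hcB⟩ : B) ^ (2 * m + 1) = 1 from Subtype.ext (by
            rw [Subgroup.coe_pow, Subgroup.coe_one]; exact h5), map_one]
        have h60 : orderOf (eB ⟨u * c, mul_mem huB hcB⟩) ∣ 4 * 15 := by
          rw [show 4 * 15 = Nat.card A from a5_card.symm]; exact orderOf_dvd_natCard _
        refine Nat.Coprime.dvd_of_dvd_mul_left ?_ h60
        rw [show (4 : ℕ) = 2 ^ 2 by norm_num]
        refine Nat.Coprime.pow_right 2 (Nat.Coprime.coprime_dvd_left hd ?_)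
        simp
      refine ⟨⟨(eB ⟨u, huB⟩, eB ⟨c, hcB⟩), ?_, ?_, ?_, ?_⟩, ?_⟩
      · rw [← map_mul, show (⟨u, huB⟩ : B) * ⟨u, huB⟩ = 1 from Subtype.ext hu2, map_one]
      · intro e'
        exact hu1 (congrArg Subtype.val (eB.injective (e'.trans (map_one eB).symm)))
      · rw [← map_mul, show (⟨c, hcB⟩ : B) * ⟨c, hcB⟩ = 1 from Subtype.ext hcc, map_one]
      · rw [← map_mul]
        exact orderOf_dvd_iff_pow_eq_one.1 ho
      · simp

theorem card_G [Finite G] : Nat.card G = 604800 := by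
  rw [d.pr.card_formula, d.card_D, d.card_at]

end DData

theorem Pair.exists_dData [Finite G] {t : G} (P : Pair z t Q) : ∃ V B, DData z t Q V B := by
  obtain ⟨V, ρ, d⟩ := P.exists_fourData
  obtain ⟨B, hB⟩ := d.exists_dData
  exact ⟨V, B, hB⟩

end CfsgLib.HJType
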