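import Mathlib
import Cfsg.Agent.Lib.HJType.Hyp
import Cfsg.Agent.Lib.HJType.Order

/-!
Groups of Hall-Janko type: two centralizers of commuting central involutions generate.
-/

set_option autoImplicit false
set_option linter.style.haveILetI false
set_option linter.unusedSectionVars false

namespace CfsgLib.HJType

open Subgroup

variable {G : Type*} [Group G] [Finite G] {z : G} {Q : Subgroup G}

theorem conj_invol {u k : G} (hu : u * u = 1) : k * u * k⁻¹ * (k * u * k⁻¹) = 1 := by
  rw [show k * u * k⁻¹ * (k * u * k⁻¹) = k * (u * u) * k⁻¹ by group, hu, mul_one, mul_inv_cancel]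

/-- Commuting noncentral involutions of `Q` form a pair. -/
theorem Setup.comm_pair (st : Setup z Q) {u w : G} (hu : u ∈ Q) (hu2 : u * u = 1) (hu1 : u ≠ 1) (huz : u ≠ z)
    (hw : w ∈ Q) (hw2 : w * w = 1) (hw1 : w ≠ 1) (hwz : w ≠ z) (hc : u * w = w * u) : w = u ∨ w = z * u := by
  obtain ⟨F⟩ := st.nonempty_frame
  obtain ⟨i, hi⟩ := F.hall u hu hu2 hu1 huz
  obtain ⟨j, hj⟩ := F.hall w hw hw2 hw1 hwz
  have hij : i = j := by
    by_contra hij
    refine F.hnc i j hij ?_
    have hxi : F.x i * z = z * F.x i := st.qz (F.hx i).1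
    have hxj : F.x j * z = z * F.x j := st.qz (F.hx j).1
    have c0 : Commute u w := hc
    have cz : ∀ a ∈ Q, Commute z a := fun a ha => (st.qz ha).symm
    have c1 : Commute (F.x i) w := by
      rcases hi with e | e
      · rwa [← e]
      · rw [show F.x i = z * u by rw [e, st.zzc]]
        exact (cz w hw).mul_left c0
    rcases hj with e | e
    · rw [← e]; exact c1
    · rw [show F.x j = z * w by rw [e, st.zzc]]
      exact ((cz _ (F.hx i).1).symm.mul_right c1).eq
  subst hij
  rcases hi with e | e <;> rcases hj with e' | e' <;> simp [e, e', st.zzc]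

/-- Two centralizers of commuting central involutions generate. -/
theorem gen_two [IsSimpleGroup G] (st : Setup z Q) (hcl : ∃ x y : G, orderOf x = 2 ∧ orderOf y = 2 ∧ ¬ IsConj x y)
    {H : Subgroup G} {t : G} (htQ : t ∈ Q) (ht2 : t * t = 1) (ht1 : t ≠ 1) (htz : t ≠ z)
    (hzH : centralizer ({z} : Set G) ≤ H) (htH : centralizer ({t} : Set G) ≤ H) : H = ⊤ := by
  classical
  obtain ⟨t₀, P⟩ := st.exists_pair hcl
  obtain ⟨F⟩ := st.nonempty_frame
  have hzz := st.zz
  -- involutions of the class commuting with a conjugate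
  have hin : ∀ k a : G, IsConj z a → a * (k * z * k⁻¹) = k * z * k⁻¹ * a → k⁻¹ * a * k ∈ Q := by
    intro k a ha h
    refine P.mem_Q_of_zclass (mem_centralizer_singleton_iff.2 ?_) (ha.trans (isConj_iff.2 ⟨k⁻¹, by group⟩))
    calc k⁻¹ * a * k * z = k⁻¹ * (a * (k * z * k⁻¹)) * k := by group
      _ = z * (k⁻¹ * a * k) := by rw [h]; group
  let x : Fin 5 × Bool → G := fun q => if q.2 then z * F.x q.1 else F.x q.1
  have hx : ∀ q, x q ∈ Q ∧ x q * x q = 1 ∧ x q ≠ 1 ∧ x q ≠ z := by
    rintro ⟨i, c⟩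
    obtain ⟨a1, a2, a3, a4⟩ := F.hx i
    cases c
    · exact ⟨a1, a2, a3, a4⟩
    · show z * F.x i ∈ Q ∧ _ ∧ _ ∧ _
      refine ⟨mul_mem st.z_mem a1, ?_, fun h => a4 ?_, fun h => a3 (mul_eq_left.1 h)⟩
      · show z * F.x i * (z * F.x i) = 1
        rw [mul_assoc, st.qz' (st.hQH a1), a2, st.zzc]
      · rw [← st.zzc (F.x i), show z * F.x i = 1 from h, mul_one]
  have xinj : Function.Injective x := by
    rintro ⟨i, c⟩ ⟨j, d⟩ h
    have hij : i = j := by
      refine F.huniq i j ?_
      cases c <;> cases d <;> simp only [x] at h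
      · exact .inl h.symm
      · exact .inr (by rw [show F.x i = z * F.x j from h, st.zzc])
      · exact .inr h.symm
      · exact .inl (mul_left_cancel h).symm
    subst hij
    cases c <;> cases d <;> simp only [x] at h
    · rfl
    · exact absurd (right_eq_mul.1 h) st.z_ne
    · exact absurd (mul_eq_right.1 h) st.z_ne
    · rfl
  have hmap : ∀ u, u ∈ Q → u * u = 1 → u ≠ 1 → u ≠ z → ∃ m ∈ H, m * z * m⁻¹ = u := by
    intro u hu hu2 hu1 huz
    obtain ⟨k, hk⟩ := isConj_iff.1 (st.q_conj htQ ht2 ht1)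
    have hzt : z * t = t * z := (st.qz htQ).symm
    have hztQ : z * t ∈ Q := mul_mem st.z_mem htQ
    have hzt2 : z * t * (z * t) = 1 := by rw [mul_assoc, st.qz' (st.hQH htQ), ht2, st.zzc]
    have hzt1 : z * t ≠ 1 := fun h => htz (by rw [← st.zzc t, h, mul_one])
    have hztz : z * t ≠ z := fun h => ht1 (mul_eq_left.1 h)
    have c1 : k⁻¹ * z * k ∈ Q := hin k z (IsConj.refl z) (by rw [hk]; exact hzt)
    have c2 : k⁻¹ * (z * t) * k ∈ Q := hin k _ (st.q_conj hztQ hzt2 hzt1) (by
      rw [hk, mul_assoc, ht2, mul_one, ← mul_assoc, ← hzt, mul_assoc, ht2, mul_one])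
    have hne : ∀ {a b : G}, a ≠ b → k⁻¹ * a * k ≠ k⁻¹ * b * k := fun h e =>
      h (mul_left_cancel (mul_right_cancel e))
    have h1 : k⁻¹ * (1 : G) * k = 1 := by group
    have h2 : k⁻¹ * t * k = z := by rw [← hk]; group
    have e2 : ∀ {a : G}, a * a = 1 → k⁻¹ * a * k * (k⁻¹ * a * k) = 1 := fun {a} h => by
      have := conj_invol (k := k⁻¹) h
      rwa [inv_inv] at this
    have n1 : ∀ {a : G}, a ≠ 1 → k⁻¹ * a * k ≠ 1 := fun h e => hne h (e.trans h1.symm)
    have n2 : ∀ {a : G}, a ≠ t → k⁻¹ * a * k ≠ z := fun h e => hne h (e.trans h2.symm)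
    obtain ⟨h, hh, he⟩ := st.pair_conj c1 (e2 hzz) (n1 st.z_ne) (n2 htz.symm) c2 (e2 hzt2)
      (n1 hzt1) (n2 fun e => st.z_ne (mul_eq_right.1 e))
    obtain ⟨c, hc, hce⟩ := st.pair_conj hztQ hzt2 hzt1 hztz hu hu2 hu1 huz
    refine ⟨c * (k * h * k⁻¹), mul_mem (hzH hc) (htH ?_), ?_⟩
    · rw [← hk]; exact mem_centralizer_conj.2 hh
    · rw [← hce]
      calc c * (k * h * k⁻¹) * z * (c * (k * h * k⁻¹))⁻¹ = c * (k * (h * (k⁻¹ * z * k) * h⁻¹) * k⁻¹) * c⁻¹ := by
            group
        _ = c * (z * t) * c⁻¹ := by rw [he]; group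
  choose m hmH hm using fun q => hmap (x q) (hx q).1 (hx q).2.1 (hx q).2.2.1 (hx q).2.2.2
  let f : (Fin 5 × Bool) × (Fin 5 × Bool) → G := fun r => m r.1 * x r.2 * (m r.1)⁻¹
  have hfcl : ∀ r, IsConj z (f r) ∧ f r * x r.1 = x r.1 * f r := by
    intro r
    refine ⟨(st.q_conj (hx r.2).1 (hx r.2).2.1 (hx r.2).2.2.1).trans (isConj_conj _ _), ?_⟩
    rw [← hm r.1]
    exact (Commute.conj_iff (m r.1)).2 (st.qz (hx r.2).1)
  let bad : Finset ((Fin 5 × Bool) × (Fin 5 × Bool)) := Finset.univ.filter fun r => f r ∈ Q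
  have hbad : bad.card ≤ 20 := by
    have hsub : bad.image (fun r => (r.1, f r)) ⊆ (Finset.univ : Finset (Fin 5 × Bool)).biUnion fun a =>
        {(a, z), (a, z * x a)} := by
      intro y hy
      obtain ⟨r, hr, rfl⟩ := Finset.mem_image.1 hy
      have hr : f r ∈ Q := (Finset.mem_filter.1 hr).2
      refine Finset.mem_biUnion.2 ⟨r.1, Finset.mem_univ _, ?_⟩
      rw [Finset.mem_insert, Finset.mem_singleton]
      by_cases hz' : f r = z
      · exact .inl (by rw [hz'])
      obtain ⟨a1, a2, a3, a4⟩ := hx r.1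
      rcases st.comm_pair a1 a2 a3 a4 hr (conj_invol (hx r.2).2.1)
        (fun h => (hx r.2).2.2.1 (conj_eq_one_iff.1 h)) hz' (hfcl r).2.symm with e | e
      · exact absurd (mul_left_cancel (mul_right_cancel (e.trans (hm r.1).symm))) (hx r.2).2.2.2
      · exact .inr (by rw [e])
    have hinj : Set.InjOn (fun r => (r.1, f r)) (bad : Set ((Fin 5 × Bool) × (Fin 5 × Bool))) := by
      rintro ⟨a, b⟩ - ⟨a', b'⟩ - e
      simp only [Prod.mk.injEq, f] at e
      obtain ⟨rfl, e⟩ := e
      rw [xinj (mul_left_cancel (mul_right_cancel e))]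
    rw [← Finset.card_image_of_injOn hinj]
    refine (Finset.card_le_card hsub).trans (Finset.card_biUnion_le.trans ?_)
    refine (Finset.sum_le_sum fun a _ => Finset.card_le_two).trans ?_
    simp
  let good := (Finset.univ : Finset ((Fin 5 × Bool) × (Fin 5 × Bool))).filter fun r => ¬ f r ∈ Q
  have hgood : 80 ≤ good.card := by
    have := Finset.card_filter_add_card_filter_not (s := (Finset.univ : Finset ((Fin 5 × Bool) × (Fin 5 × Bool))))
      (fun r => f r ∈ Q)
    have h100 : (Finset.univ : Finset ((Fin 5 × Bool) × (Fin 5 × Bool))).card = 100 := by simp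
    rw [h100] at this
    have hb : (Finset.univ.filter fun r => f r ∈ Q).card ≤ 20 := hbad
    show 80 ≤ (Finset.univ.filter fun r => ¬ f r ∈ Q).card
    omega
  have finj : Set.InjOn f (good : Set ((Fin 5 × Bool) × (Fin 5 × Bool))) := by
    intro r hr r' _ e
    have hw : f r ∉ Q := (Finset.mem_filter.1 hr).2
    obtain ⟨k, hk⟩ := isConj_iff.1 (hfcl r).1
    obtain ⟨a1, a2, a3, a4⟩ := hx r.1
    obtain ⟨b1, b2, b3, b4⟩ := hx r'.1
    have ca := hin k (x r.1) (st.q_conj a1 a2 a3) (by rw [hk]; exact (hfcl r).2.symm)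
    have cb := hin k (x r'.1) (st.q_conj b1 b2 b3) (by rw [hk, e]; exact (hfcl r').2.symm)
    have hab : x r.1 = x r'.1 := by
      rcases st.comm_cases a1 b1 with h | h
      · rcases st.comm_pair a1 a2 a3 a4 b1 b2 b3 b4 h with h' | h'
        · exact h'.symm
        · exfalso
          have hkz : k⁻¹ * z * k ∈ Q := by
            have := mul_mem cb (inv_mem ca)
            rwa [show k⁻¹ * x r'.1 * k * (k⁻¹ * x r.1 * k)⁻¹ = k⁻¹ * (x r'.1 * (x r.1)⁻¹) * k by group, h',
              mul_inv_cancel_right] at this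
          refine hw (P.mem_Q_of_zclass (mem_centralizer_singleton_iff.2 ?_) (hfcl r).1)
          rw [← hk]
          calc k * z * k⁻¹ * z = k * (z * (k⁻¹ * z * k)) * k⁻¹ := by group
            _ = z * (k * z * k⁻¹) := by rw [← st.qz hkz]; group
      · exfalso
        rcases st.comm_cases ca cb with h' | h'
        · have h'' : x r.1 * x r'.1 = x r'.1 * x r.1 := by
            calc x r.1 * x r'.1 = k * (k⁻¹ * x r.1 * k * (k⁻¹ * x r'.1 * k)) * k⁻¹ := by group
              _ = x r'.1 * x r.1 := by rw [h']; group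
          unfold Anti at h
          rw [h''] at h
          exact st.z_ne (mul_eq_right.1 h.symm)
        · unfold Anti at h h'
          refine hw ?_
          have hz' : z * (x r'.1 * x r.1) = k * z * k⁻¹ * (x r'.1 * x r.1) := by
            rw [← h]
            calc x r.1 * x r'.1 = k * (k⁻¹ * x r.1 * k * (k⁻¹ * x r'.1 * k)) * k⁻¹ := by group
              _ = k * z * k⁻¹ * (x r'.1 * x r.1) := by rw [h']; group
          rw [← hk, ← mul_right_cancel hz']
          exact st.z_mem
    have h1 : r.1 = r'.1 := xinj hab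
    simp only [f, h1] at e
    exact Prod.ext h1 (xinj (mul_left_cancel (mul_right_cancel e)))
  -- the orbit
  have horb : ∀ r, ∃ g ∈ H, g * z * g⁻¹ = f r := fun r =>
    ⟨m r.1 * m r.2, mul_mem (hmH _) (hmH _), by simp only [f, ← hm r.2]; group⟩
  choose g hg hge using horb
  have hcard : 153600 ≤ Nat.card H := by
    have hinj : Function.Injective (fun q : good × (centralizer ({z} : Set G)) =>
        (⟨g q.1.1 * (q.2 : G), mul_mem (hg _) (hzH q.2.2)⟩ : H)) := by
      rintro ⟨⟨r, hr⟩, ⟨c, hc⟩⟩ ⟨⟨r', hr'⟩, ⟨c', hc'⟩⟩ e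
      have e : g r * c = g r' * c' := congrArg Subtype.val e
      have hf : f r = f r' := by
        have hcz : ∀ {c}, c ∈ centralizer ({z} : Set G) → c * z * c⁻¹ = z := fun hc => by
          rw [mem_centralizer_singleton_iff.1 hc, mul_inv_cancel_right]
        rw [← hge r, ← hge r']
        calc g r * z * (g r)⁻¹ = g r * (c * z * c⁻¹) * (g r)⁻¹ := by rw [hcz hc]
          _ = g r * c * z * (g r * c)⁻¹ := by group
          _ = g r' * (c' * z * c'⁻¹) * (g r')⁻¹ := by rw [e]; group
          _ = g r' * z * (g r')⁻¹ := by rw [hcz hc']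
      cases finj hr hr' hf
      cases mul_left_cancel e
      rfl
    have := Nat.card_le_card_of_injective _ hinj
    rw [Nat.card_prod, st.hH, Nat.card_eq_fintype_card, Fintype.card_coe] at this
    omega
  by_contra hne
  obtain ⟨V, B, dd⟩ := P.exists_dData
  have hG := dd.card_G
  have hidx : H.index ≤ 3 := by
    have := card_mul_index H
    rw [hG] at this
    nlinarith
  have hker : H.normalCore = ⊥ := by
    rcases (inferInstance : H.normalCore.Normal).eq_bot_or_eq_top with h | h
    · exact h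
    · exact absurd (top_le_iff.1 (h ▸ H.normalCore_le)) hne
  have hdvd : H.normalCore.index ∣ H.index.factorial := by
    haveI : Fintype (G ⧸ H) := Fintype.ofFinite _
    rw [H.normalCore_eq_ker, index_ker, index_eq_card, ← Nat.card_perm]
    exact card_subgroup_dvd_card _
  rw [hker, index_bot, hG] at hdvd
  have := (Nat.le_of_dvd (Nat.factorial_pos _) hdvd).trans (Nat.factorial_le hidx)
  norm_num [Nat.factorial] at this

end CfsgLib.HJType
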