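import Mathlib
import Cfsg.Agent.Lib.HJType.AltFive

/-!
Groups of Hall-Janko type: automorphisms of the alternating group of degree five and small centralizers.
-/

set_option autoImplicit false
set_option synthInstance.maxSize 512
set_option synthInstance.maxHeartbeats 200000

namespace CfsgLib.HJType

theorem a5_center_trivial : ∀ a : alternatingGroup (Fin 5), (∀ b, a * b = b * a) → a = 1 := by decide +kernel

theorem a5_two_invol : ∀ a : alternatingGroup (Fin 5), ∃ b, b * b = 1 ∧ (b * a) * (b * a) = 1 := by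
  decide +kernel

theorem a5_cent_five : ∀ b : alternatingGroup (Fin 5), b ^ 5 = 1 → b ≠ 1 →
    Fintype.card {c : alternatingGroup (Fin 5) // c * b = b * c} = 5 := by decide +kernel

theorem a5_cent_three : ∀ b : alternatingGroup (Fin 5), b ^ 3 = 1 → b ≠ 1 →
    Fintype.card {c : alternatingGroup (Fin 5) // c * b = b * c} = 3 := by decide +kernel

theorem a5_gen_pairs : Fintype.card {p : alternatingGroup (Fin 5) × alternatingGroup (Fin 5) //
    p.1 * p.1 = 1 ∧ p.1 ≠ 1 ∧ p.2 ^ 3 = 1 ∧ p.2 ≠ 1 ∧ (p.1 * p.2) ^ 5 = 1} = 120 := by decide +kernel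

theorem a5_gen : ∃ a b : alternatingGroup (Fin 5),
    a * a = 1 ∧ a ≠ 1 ∧ b ^ 3 = 1 ∧ b ≠ 1 ∧ (a * b) ^ 5 = 1 ∧ a * b ≠ 1 := by decide +kernel

/-- The automorphism group of `A₅` has order at most 120. -/
theorem a5_aut_le : Nat.card (MulAut (alternatingGroup (Fin 5))) ≤ 120 := by
  classical
  haveI := a5_simple
  obtain ⟨a, b, ha, ha1, hb, hb1, hab, hab1⟩ := a5_gen
  rw [← a5_gen_pairs, ← Nat.card_eq_fintype_card]
  refine Nat.card_le_card_of_injective (fun φ => ⟨(φ a, φ b), by rw [← map_mul, ha, map_one],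
    fun h => ha1 (φ.injective (h.trans (map_one φ).symm)), by rw [← map_pow, hb, map_one],
    fun h => hb1 (φ.injective (h.trans (map_one φ).symm)), by rw [← map_mul, ← map_pow, hab, map_one]⟩) ?_
  intro φ ψ h
  have h' := congrArg Subtype.val h
  have h1 : φ a = ψ a := congrArg Prod.fst h'
  have h2 : φ b = ψ b := congrArg Prod.snd h'
  set L := MonoidHom.eqLocus φ.toMonoidHom ψ.toMonoidHom
  have haL : a ∈ L := h1
  have hbL : b ∈ L := h2
  haveI : Fact (Nat.Prime 2) := ⟨Nat.prime_two⟩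
  haveI : Fact (Nat.Prime 3) := ⟨Nat.prime_three⟩
  haveI : Fact (Nat.Prime 5) := ⟨by norm_num⟩
  have d2 : 2 ∣ Nat.card L := (dvd_of_eq (orderOf_eq_prime (by rw [pow_two, ha]) ha1).symm).trans
    (L.orderOf_dvd_natCard haL)
  have d3 : 3 ∣ Nat.card L := (dvd_of_eq (orderOf_eq_prime hb hb1).symm).trans (L.orderOf_dvd_natCard hbL)
  have d5 : 5 ∣ Nat.card L := (dvd_of_eq (orderOf_eq_prime hab hab1).symm).trans
    (L.orderOf_dvd_natCard (mul_mem haL hbL))
  have d30 : 30 ∣ Nat.card L :=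
    Nat.Coprime.mul_dvd_of_dvd_of_dvd (by norm_num : Nat.Coprime 6 5)
      (Nat.Coprime.mul_dvd_of_dvd_of_dvd (by norm_num : Nat.Coprime 2 3) d2 d3) d5
  have hm := Subgroup.card_mul_index L
  rw [a5_card] at hm
  obtain ⟨m, hm'⟩ := d30
  have htop : L = ⊤ := by
    by_contra hne
    have hi : L.index = 2 := by
      have hne1 : L.index ≠ 1 := fun h => hne (Subgroup.index_eq_one.1 h)
      rw [hm'] at hm
      have hle : m * L.index = 2 := by nlinarith
      have : L.index ∣ 2 := ⟨m, by rw [mul_comm]; exact hle.symm⟩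
      exact ((Nat.dvd_prime Nat.prime_two).1 this).resolve_left hne1
    have hn := Subgroup.normal_of_index_eq_two hi
    rcases hn.eq_bot_or_eq_top with h | h
    · rw [h, Subgroup.mem_bot] at haL; exact ha1 haL
    · exact hne h
  exact MulEquiv.ext fun x => (htop ▸ Subgroup.mem_top x : x ∈ L)

end CfsgLib.HJType
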