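import Mathlib
import Cfsg.Agent.Lib.HJType.Order
import Cfsg.Agent.Lib.HJType.AltFiveAut
import Cfsg.Agent.Lib.Cores.Basic
import Cfsg.Agent.Lib.LargeExtra.SubExtra

/-!
Groups of Hall-Janko type: the normalizer of the central four-group of a second involution centralizer.
-/

set_option autoImplicit false
set_option linter.style.haveILetI false
set_option linter.unusedSectionVars false

namespace CfsgLib.HJType

open Subgroup

variable {G : Type*} [Group G] {z : G} {Q : Subgroup G}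

/-- The setting transported by an inner automorphism. -/
theorem Setup.conj (st : Setup z Q) (g : G) : Setup (g * z * g⁻¹) (Q.map (MulAut.conj g).toMonoidHom) := by
  have hc : ∀ x, x ∈ centralizer ({g * z * g⁻¹} : Set G) ↔ g⁻¹ * x * g ∈ centralizer ({z} : Set G) := fun x => by
    rw [← mem_centralizer_conj (g := g) (x := g⁻¹ * x * g), show g * (g⁻¹ * x * g) * g⁻¹ = x by group]
  have hQ : ∀ x, x ∈ Q.map (MulAut.conj g).toMonoidHom ↔ g⁻¹ * x * g ∈ Q := fun x => by
    constructor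
    · rintro ⟨q, hq, rfl⟩
      show g⁻¹ * (g * q * g⁻¹) * g ∈ Q
      rwa [show g⁻¹ * (g * q * g⁻¹) * g = q by group]
    · intro h
      exact ⟨_, h, show g * (g⁻¹ * x * g) * g⁻¹ = x by group⟩
  have eQ := Q.equivMapOfInjective (MulAut.conj g).toMonoidHom (MulAut.conj g).injective
  refine ⟨?_, fun x hx => (hc x).2 (st.hQH ((hQ x).1 hx)), ?_,
    CfsgLib.LargeExtra.isExtraspecial_of_mulEquiv eQ st.hE, ?_, ?_, ?_, ?_⟩
  · rw [← st.hz]; exact (MulAut.conj g).orderOf_eq z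
  · intro x hx
    refine mem_normalizer_iff.2 fun q => ?_
    rw [hQ, hQ, show g⁻¹ * (x * q * x⁻¹) * g = g⁻¹ * x * g * (g⁻¹ * q * g) * (g⁻¹ * x * g)⁻¹ by group]
    exact mem_normalizer_iff.1 (st.hnorm ((hc x).1 hx)) _
  · rw [← Nat.card_congr eQ.toEquiv, st.h32]
  · rw [← st.hH]
    refine Nat.card_congr (Equiv.subtypeEquiv (MulAut.conj g).toEquiv fun x => ?_).symm
    show _ ↔ g * x * g⁻¹ ∈ _
    rw [mem_centralizer_conj]
  · intro x hx hcomm
    rw [hQ]
    refine st.hself _ ((hc x).1 hx) fun q hq => ?_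
    have h := hcomm (g * q * g⁻¹) ((hQ _).2 (by rwa [show g⁻¹ * (g * q * g⁻¹) * g = q by group]))
    calc g⁻¹ * x * g * q = g⁻¹ * (x * (g * q * g⁻¹)) * g := by group
      _ = g⁻¹ * ((g * q * g⁻¹) * x) * g := by rw [h]
      _ = q * (g⁻¹ * x * g) := by group
  · obtain ⟨h, hh, hne⟩ := st.hnwc
    refine ⟨g * h * g⁻¹, ?_, fun e => hne ?_⟩
    · rw [hQ]
      rwa [show g⁻¹ * (g * h * g⁻¹ * (g * z * g⁻¹) * (g * h * g⁻¹)⁻¹) * g = h * z * h⁻¹ by group]
    · calc h * z * h⁻¹ = g⁻¹ * (g * h * g⁻¹ * (g * z * g⁻¹) * (g * h * g⁻¹)⁻¹) * g := by group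
        _ = z := by rw [e]; group

/-- An involution not conjugate to `z` is the second involution of some conjugate setting. -/
theorem Setup.pair_of_not_conj [Finite G] (st : Setup z Q) {t : G} (ht : t * t = 1) (ht1 : t ≠ 1)
    (htz : ¬ IsConj t z) : ∃ z' Q', Pair z' t Q' ∧ IsConj z z' := by
  obtain ⟨g, hg⟩ := st.conj_into_H ht
  refine ⟨g⁻¹ * z * g⁻¹⁻¹, Q.map (MulAut.conj g⁻¹).toMonoidHom, ⟨st.conj g⁻¹, ?_, ?_, ht, ?_⟩, isConj_conj _ _⟩
  · have h := (mem_centralizer_conj (g := g⁻¹) (x := g * t * g⁻¹) (y := z)).2 hg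
    rwa [show g⁻¹ * (g * t * g⁻¹) * g⁻¹⁻¹ = t by group] at h
  · rintro ⟨q, hq, hqe⟩
    have hqt : g⁻¹ * q * g⁻¹⁻¹ = t := hqe
    refine htz ((IsConj.symm ?_).trans (st.q_conj hq ?_ ?_).symm)
    · exact isConj_iff.2 ⟨g⁻¹, hqt⟩
    · calc q * q = g * (g⁻¹ * q * g⁻¹⁻¹ * (g⁻¹ * q * g⁻¹⁻¹)) * g⁻¹ := by group
        _ = 1 := by rw [hqt, ht, mul_one, mul_inv_cancel]
    · rintro rfl
      exact ht1 (by rw [← hqt]; group)
  · exact fun h => htz ((isConj_conj g⁻¹ z).trans h).symm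

/-- The normalizer of `V` as the product of `K = C_N(B)` and `B`. -/
structure NData (z t : G) (Q V B K : Subgroup G) : Prop where
  dd : DData z t Q V B
  hKN : K ≤ normalizer (V : Set G)
  hKB : ∀ k ∈ K, ∀ b ∈ B, k * b = b * k
  hVK : V ≤ K
  hK : Nat.card K = 12
  hBN : B ≤ normalizer (V : Set G)
  hN : ∀ n ∈ normalizer (V : Set G), ∃ k ∈ K, ∃ b ∈ B, n = k * b
  hKinf : ∀ k ∈ K, k ∈ B → k = 1
  htrans : ∀ v ∈ V, v ≠ 1 → ∃ k ∈ K, k * t * k⁻¹ = v

namespace DData

variable {t : G} {V B : Subgroup G} (d : DData z t Q V B)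
include d

theorem V_comm {a b : G} (ha : a ∈ V) (hb : b ∈ V) : a * b = b * a := by
  calc a * b = (a * b)⁻¹ := (inv_eq_of_mul_eq_one_right (d.hVsq _ (mul_mem ha hb))).symm
    _ = b * a := by
      rw [mul_inv_rev, inv_eq_of_mul_eq_one_right (d.hVsq a ha), inv_eq_of_mul_eq_one_right (d.hVsq b hb)]

theorem D_comm_V {x v : G} (hx : x ∈ centralizer ({t} : Set G)) (hv : v ∈ V) : x * v = v * x := by
  obtain ⟨a, ha, b, hb, rfl⟩ := d.hdec x hx
  rw [mul_assoc, ← d.hcomm v hv b hb, ← mul_assoc, d.V_comm ha hv, mul_assoc]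

/-- The centralizer of every involution of `V` is that of `t`. -/
theorem cent_V [Finite G] {v : G} (hv : v ∈ V) (h1 : v ≠ 1) :
    centralizer ({v} : Set G) = centralizer ({t} : Set G) :=
  (eq_of_le_of_card_ge (fun _ hx => mem_centralizer_singleton_iff.2 (d.D_comm_V hx hv))
    (CfsgLib.Invol.card_centralizer_of_isConj (d.hVt v hv h1)).le).symm

theorem B_center {b : G} (hb : b ∈ B) (hc : ∀ c ∈ B, b * c = c * b) : b = 1 := by
  obtain ⟨eB⟩ := d.hB
  have h := a5_center_trivial (eB ⟨b, hb⟩) fun x => by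
    rw [← eB.apply_symm_apply x, ← map_mul, ← map_mul]
    exact congrArg eB (Subtype.ext (hc _ (eB.symm x).2))
  exact congrArg Subtype.val (eB.injective (h.trans (map_one eB).symm))

theorem mem_V_of_comm {x : G} (hx : x ∈ centralizer ({t} : Set G)) (hc : ∀ c ∈ B, x * c = c * x) : x ∈ V := by
  obtain ⟨a, ha, b, hb, rfl⟩ := d.hdec x hx
  suffices b = 1 by rw [this, mul_one]; exact ha
  refine d.B_center hb fun c hc' => ?_
  have h := hc c hc'
  rw [← mul_assoc, ← d.hcomm a ha c hc', mul_assoc a, mul_assoc a] at h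
  exact mul_left_cancel h

theorem mem_norm_of_conj [Finite G] {g : G} (hg : g * t * g⁻¹ ∈ V) : g ∈ normalizer (V : Set G) := by
  set v := g * t * g⁻¹ with hv
  have hv1 : v ≠ 1 := fun h => d.pr.t_ne (conj_eq_one_iff.1 h)
  have hD : ∀ x, x ∈ centralizer ({t} : Set G) ↔ g * x * g⁻¹ ∈ centralizer ({t} : Set G) := fun x => by
    conv_rhs => rw [← d.cent_V hg hv1, hv, mem_centralizer_conj]
  refine mem_normalizer_iff.2 fun x => ⟨fun hx => ?_, fun hx => ?_⟩
  · refine d.mem_V_of_comm ((hD x).1 (d.hVD hx)) fun c hc => ?_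
    have hc' : g⁻¹ * c * g ∈ centralizer ({t} : Set G) := by
      rw [hD, show g * (g⁻¹ * c * g) * g⁻¹ = c by group]; exact d.hBD hc
    calc g * x * g⁻¹ * c = g * (x * (g⁻¹ * c * g)) * g⁻¹ := by group
      _ = g * ((g⁻¹ * c * g) * x) * g⁻¹ := by rw [d.D_comm_V hc' hx]
      _ = c * (g * x * g⁻¹) := by group
  · refine d.mem_V_of_comm ((hD x).2 (d.hVD hx)) fun c hc => ?_
    have h := d.D_comm_V ((hD c).1 (d.hBD hc)) hx
    calc x * c = g⁻¹ * ((g * x * g⁻¹) * (g * c * g⁻¹)) * g := by group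
      _ = g⁻¹ * ((g * c * g⁻¹) * (g * x * g⁻¹)) * g := by rw [h]
      _ = c * x := by group

theorem D_le_norm [Finite G] : centralizer ({t} : Set G) ≤ normalizer (V : Set G) := fun g hg => by
  refine d.mem_norm_of_conj ?_
  rw [mul_inv_eq_iff_eq_mul.2 (mem_centralizer_singleton_iff.1 hg)]
  exact d.htV

theorem card_norm [Finite G] : Nat.card (normalizer (V : Set G)) = 720 := by
  classical
  haveI := Fintype.ofFinite G
  set N := normalizer (V : Set G) with hN
  have hDN := d.D_le_norm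
  have h := card_class_mul (hDN (mem_centralizer_singleton_iff.2 rfl) : t ∈ N)
  have hst : N ⊓ centralizer ({t} : Set G) = centralizer ({t} : Set G) := inf_eq_right.2 hDN
  rw [hst, d.card_D] at h
  have hcls : Nat.card {y : G // ∃ n ∈ N, n * t * n⁻¹ = y} = 3 := by
    have h3 : ((Finset.univ.filter fun y => y ∈ V).erase 1).card = 3 := by
      rw [Finset.card_erase_of_mem (Finset.mem_filter.2 ⟨Finset.mem_univ _, one_mem _⟩), ← Fintype.card_subtype,
        ← Nat.card_eq_fintype_card, d.hVc]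
    rw [← h3, Nat.card_eq_fintype_card, Fintype.card_subtype]
    congr 1
    ext y
    simp only [Finset.mem_filter, Finset.mem_univ, true_and, Finset.mem_erase]
    constructor
    · rintro ⟨n, hn, rfl⟩
      exact ⟨fun h' => d.pr.t_ne (conj_eq_one_iff.1 h'), (mem_normalizer_iff.1 hn t).1 d.htV⟩
    · rintro ⟨h1, hy⟩
      obtain ⟨g, hg⟩ := isConj_iff.1 (d.hVt y hy h1)
      exact ⟨g, d.mem_norm_of_conj (hg ▸ hy), hg⟩
  rw [hcls] at h
  exact h.symm

theorem norm_B [Finite G] {n b : G} (hn : n ∈ normalizer (V : Set G)) (hb : b ∈ B) : n * b * n⁻¹ ∈ B := by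
  obtain ⟨eB⟩ := d.hB
  have hv : n * t * n⁻¹ ∈ V := (mem_normalizer_iff.1 hn t).1 d.htV
  have hv1 : n * t * n⁻¹ ≠ 1 := fun h => d.pr.t_ne (conj_eq_one_iff.1 h)
  have key : ∀ u ∈ B, u * u = 1 → n * u * n⁻¹ ∈ B := by
    intro u hu hu2
    by_cases hu1 : u = 1
    · rw [hu1, mul_one, mul_inv_cancel]; exact one_mem B
    refine d.zclass_mem_B ?_ ((d.hBz u hu hu2 hu1).trans (isConj_conj n u))
    rw [← d.cent_V hv hv1, mem_centralizer_conj]
    exact d.hBD hu
  obtain ⟨c, hc, hc'⟩ := a5_two_invol (eB ⟨b, hb⟩)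
  set u := eB.symm c with hu
  have hu2 : (u : G) * u = 1 := by
    rw [hu, ← coe_mul, ← map_mul, hc, map_one, coe_one]
  have hub : (u : G) * b * ((u : G) * b) = 1 := by
    have e : u * ⟨b, hb⟩ * (u * ⟨b, hb⟩) = 1 := eB.injective (by
      rw [map_mul, map_mul, hu, eB.apply_symm_apply, map_one, hc'])
    exact congrArg Subtype.val e
  have h := mul_mem (key u u.2 hu2) (key _ (mul_mem u.2 hb) hub)
  rwa [show n * (u : G) * n⁻¹ * (n * ((u : G) * b) * n⁻¹) = n * ((u : G) * u) * b * n⁻¹ by group, hu2,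
    mul_one] at h

set_option maxHeartbeats 800000 in
theorem exists_nData [Finite G] : ∃ K, NData z t Q V B K := by
  classical
  haveI := Fintype.ofFinite G
  obtain ⟨eB⟩ := d.hB
  set N := normalizer (V : Set G) with hN
  have hBN : B ≤ N := fun b hb => d.D_le_norm (d.hBD hb)
  have hNB : N ≤ normalizer (B : Set G) := fun n hn => mem_normalizer_iff.2 fun x =>
    ⟨d.norm_B hn, fun hx => by
      have := d.norm_B (inv_mem hn) hx
      rwa [show n⁻¹ * (n * x * n⁻¹) * n⁻¹⁻¹ = x by group] at this⟩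
  let θ : ↥N →* MulAut ↥B := (normalizerMonoidHom B).comp (Subgroup.inclusion hNB)
  have hθ : ∀ (n : N) (b : B), ((θ n b : B) : G) = (n : G) * b * (n : G)⁻¹ := fun _ _ => rfl
  have hkerθ : ∀ n : N, θ n = 1 ↔ ∀ b ∈ B, (n : G) * b = b * n := by
    intro n
    constructor
    · intro h b hb
      have e := hθ n ⟨b, hb⟩
      rw [h] at e
      exact (mul_inv_eq_iff_eq_mul.1 e.symm)
    · intro h
      refine MulEquiv.ext fun b => Subtype.ext ?_
      rw [hθ, h b b.2, mul_inv_cancel_right]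
      rfl
  set K := θ.ker.map N.subtype with hKdef
  have hKmem : ∀ x, x ∈ K ↔ x ∈ N ∧ ∀ b ∈ B, x * b = b * x := by
    intro x
    constructor
    · rintro ⟨n, hn, rfl⟩
      exact ⟨n.2, (hkerθ n).1 hn⟩
    · rintro ⟨hx, hc⟩
      exact ⟨⟨x, hx⟩, (hkerθ ⟨x, hx⟩).2 hc, rfl⟩
  have hKc : Nat.card K = Nat.card θ.ker :=
    (Nat.card_congr (θ.ker.equivMapOfInjective _ N.subtype_injective).toEquiv).symm
  have hVK : V ≤ K := fun v hv => (hKmem v).2 ⟨le_normalizer hv, d.hcomm v hv⟩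
  have hst : K ⊓ centralizer ({t} : Set G) = V :=
    le_antisymm (fun x hx => d.mem_V_of_comm hx.2 ((hKmem x).1 hx.1).2) fun v hv => ⟨hVK hv, d.hVD hv⟩
  have hcl := card_class_mul (hVK d.htV)
  rw [hst, d.hVc] at hcl
  set V3 := (Finset.univ.filter fun y => y ∈ V).erase 1 with hV3
  have h3 : V3.card = 3 := by
    rw [hV3, Finset.card_erase_of_mem (Finset.mem_filter.2 ⟨Finset.mem_univ _, one_mem _⟩), ← Fintype.card_subtype,
      ← Nat.card_eq_fintype_card, d.hVc]
  set O := Finset.univ.filter (fun y => ∃ k ∈ K, k * t * k⁻¹ = y) with hO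
  have hOc : Nat.card {y : G // ∃ k ∈ K, k * t * k⁻¹ = y} = O.card := by
    rw [Nat.card_eq_fintype_card, Fintype.card_subtype]
  rw [hOc] at hcl
  have hOV : O ⊆ V3 := by
    intro y hy
    obtain ⟨k, hk, rfl⟩ := (Finset.mem_filter.1 hy).2
    exact Finset.mem_erase.2 ⟨fun h' => d.pr.t_ne (conj_eq_one_iff.1 h'), Finset.mem_filter.2
      ⟨Finset.mem_univ _, (mem_normalizer_iff.1 ((hKmem k).1 hk).1 t).1 d.htV⟩⟩
  have hm := card_mul_index θ.ker
  rw [index_ker, d.card_norm, ← hKc, ← hcl] at hm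
  have hrange120 : Nat.card θ.range ≤ 120 := by
    refine le_trans (card_le_card_group θ.range) (le_trans ?_ a5_aut_le)
    exact (Nat.card_congr (MulAut.congr eB).toEquiv).le
  have h60 : 60 ∣ Nat.card θ.range := by
    let β : ↥B →* ↥θ.range := (θ.rangeRestrict).comp (Subgroup.inclusion hBN)
    have hβ : Function.Injective β := by
      rw [injective_iff_map_eq_one]
      intro b hb
      exact Subtype.ext (d.B_center b.2 ((hkerθ (Subgroup.inclusion hBN b)).1 (congrArg Subtype.val hb)))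
    rw [← a5_card, ← Nat.card_congr eB.toEquiv]
    exact card_dvd_of_injective β hβ
  have hOle : O.card ≤ 3 := h3 ▸ Finset.card_le_card hOV
  obtain ⟨r, hr⟩ := h60
  rw [hr] at hm hrange120
  have hO3 : O.card = 3 := by
    have hr2 : r ≤ 2 := by omega
    interval_cases r <;> omega
  have hK : Nat.card K = 12 := by rw [← hcl, hO3]
  have hOeq : O = V3 := Finset.eq_of_subset_of_card_le hOV (by rw [h3, hO3])
  have hinf : ∀ k ∈ K, k ∈ B → k = 1 := fun k hk hkB => d.B_center hkB ((hKmem k).1 hk).2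
  refine ⟨K, ⟨d, fun k hk => ((hKmem k).1 hk).1, fun k hk => ((hKmem k).1 hk).2, hVK, hK, hBN, ?_, hinf, ?_⟩⟩
  · have hinj : Function.Injective
        (fun p : K × B => (⟨(p.1 : G) * p.2, mul_mem ((hKmem p.1).1 p.1.2).1 (hBN p.2.2)⟩ : N)) := by
      rintro ⟨a, b⟩ ⟨a', b'⟩ h
      have h' : (a : G) * b = a' * b' := congrArg Subtype.val h
      have h2 : (a' : G)⁻¹ * a = b' * (b : G)⁻¹ := by
        rw [inv_mul_eq_iff_eq_mul, ← mul_assoc, ← h', mul_inv_cancel_right]
      have h4 := hinf _ (mul_mem (inv_mem a'.2) a.2) (h2 ▸ mul_mem b'.2 (inv_mem b.2))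
      rw [inv_mul_eq_one] at h4
      rw [h4] at h'
      exact Prod.ext (Subtype.ext h4.symm) (Subtype.ext (mul_left_cancel h'))
    have hb := (Nat.bijective_iff_injective_and_card _).2 ⟨hinj, by
      rw [Nat.card_prod, hK, Nat.card_congr eB.toEquiv, a5_card, d.card_norm]⟩
    intro n hn
    obtain ⟨⟨a, b⟩, h⟩ := hb.2 ⟨n, hn⟩
    exact ⟨a, a.2, b, b.2, (congrArg Subtype.val h).symm⟩
  · intro v hv h1
    have : v ∈ O := hOeq ▸ Finset.mem_erase.2 ⟨h1, Finset.mem_filter.2 ⟨Finset.mem_univ _, hv⟩⟩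
    exact (Finset.mem_filter.1 this).2

/-- `V` is the largest normal 2-subgroup of the centralizer of `t`. -/
theorem pCore_eq [Finite G] :
    (Cfsg.pCore 2 ↥(centralizer ({t} : Set G))).map (centralizer ({t} : Set G)).subtype = V := by
  haveI : Fact (Nat.Prime 2) := ⟨Nat.prime_two⟩
  obtain ⟨eB⟩ := d.hB
  set D := centralizer ({t} : Set G) with hD
  haveI := CfsgLib.Cores.pCore_characteristic (G := ↥D) 2
  haveI hPn : (Cfsg.pCore 2 ↥D).Normal := inferInstance
  have hP : IsPGroup 2 ↥(Cfsg.pCore 2 ↥D) := CfsgLib.Cores.isPGroup_pCore 2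
  haveI : (V.subgroupOf D).Normal := ⟨fun x hx g => by
    rw [mem_subgroupOf] at hx ⊢
    rw [coe_mul, coe_mul, coe_inv, d.D_comm_V g.2 hx, mul_inv_cancel_right]
    exact hx⟩
  have hVp : V.subgroupOf D ≤ Cfsg.pCore 2 ↥D :=
    CfsgLib.Cores.le_pCore (IsPGroup.of_card (n := 2) (by
      rw [Nat.card_congr (subgroupOfEquivOfLe d.hVD).toEquiv, d.hVc]; norm_num))
  refine le_antisymm ?_ fun v hv => ⟨⟨v, d.hVD hv⟩, hVp hv, rfl⟩
  rintro _ ⟨⟨x, hx⟩, hxP, rfl⟩
  obtain ⟨a, ha, b, hb, rfl⟩ := d.hdec x hx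
  show a * b ∈ V
  suffices b = 1 by rw [this, mul_one]; exact ha
  set M := (Cfsg.pCore 2 ↥D).comap (Subgroup.inclusion d.hBD) with hM
  haveI hMn : M.Normal := hPn.comap _
  have hbM : (⟨b, hb⟩ : B) ∈ M := by
    have := mul_mem (hVp (show (⟨a⁻¹, d.hVD (inv_mem ha)⟩ : D) ∈ V.subgroupOf D from inv_mem ha)) hxP
    show (⟨b, d.hBD hb⟩ : D) ∈ Cfsg.pCore 2 ↥D
    convert this using 1
    exact Subtype.ext (by simp)
  haveI := a5_simple
  haveI := hMn.map eB.toMonoidHom eB.surjective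
  have hM2 : IsPGroup 2 M := hP.comap_of_injective _ (Subgroup.inclusion_injective d.hBD)
  rcases (‹(M.map eB.toMonoidHom).Normal›).eq_bot_or_eq_top with h | h
  · have := h ▸ mem_map_of_mem eB.toMonoidHom hbM
    exact congrArg Subtype.val (eB.injective ((mem_bot.1 this).trans (map_one eB).symm))
  · exfalso
    obtain ⟨m, hm⟩ := IsPGroup.iff_card.1 (hM2.map eB.toMonoidHom)
    rw [h, card_top, a5_card] at hm
    have h5 : 5 ∣ 2 ^ m := hm ▸ (by norm_num)
    exact absurd ((by norm_num : Nat.Prime 5).dvd_of_dvd_pow h5) (by norm_num)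

end DData

namespace NData

variable {t : G} {V B K : Subgroup G} (n : NData z t Q V B K)
include n

theorem K_mem_D [Finite G] {k : G} (hk : k ∈ K) (hc : k * t = t * k) : k ∈ V :=
  n.dd.mem_V_of_comm (mem_centralizer_singleton_iff.2 hc) (n.hKB k hk)

/-- The elements of 2-power order of `K` lie in `V`. -/
theorem K_two [Finite G] {k : G} (hk : k ∈ K) {m : ℕ} (hm : k ^ 2 ^ m = 1) : k ∈ V := by
  haveI : (V.subgroupOf K).Normal := normal_subgroupOf_iff n.hVK |>.2 fun v g hv hg =>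
    (mem_normalizer_iff.1 (n.hKN hg) v).1 hv
  have hi : (V.subgroupOf K).index = 3 := by
    have h := card_mul_index (V.subgroupOf K)
    rw [Nat.card_congr (subgroupOfEquivOfLe n.hVK).toEquiv, n.dd.hVc, n.hK] at h
    omega
  have h3 := (V.subgroupOf K).pow_index_mem (⟨k, hk⟩ : K)
  rw [hi, mem_subgroupOf, Subgroup.coe_pow] at h3
  obtain ⟨j, hj⟩ := exists_pow_eq_self_of_coprime (x := k) (n := 3)
    (Nat.Coprime.coprime_dvd_right (orderOf_dvd_of_pow_eq_one hm) (Nat.Coprime.pow_right m (by norm_num)))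
  rw [← hj]
  exact pow_mem h3 j

theorem exists_sigma [Finite G] : ∃ σ ∈ K, orderOf σ = 3 := by
  haveI : Fact (Nat.Prime 3) := ⟨Nat.prime_three⟩
  obtain ⟨s, hs⟩ := exists_prime_orderOf_dvd_card' (G := K) 3 (by rw [n.hK]; norm_num)
  exact ⟨s, s.2, by rw [orderOf_coe, hs]⟩

theorem iso_K [Finite G] : Nonempty (↥K ≃* alternatingGroup (Fin 4)) := by
  classical
  obtain ⟨σ, hσ, hσ3⟩ := n.exists_sigma
  set S := zpowers (⟨σ, hσ⟩ : K) with hS
  have hSc : Nat.card S = 3 := by rw [hS, Nat.card_zpowers, ← orderOf_coe]; exact hσ3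
  have hidx : S.index = 4 := by
    have h := card_mul_index S
    rw [hSc, n.hK] at h
    omega
  let φ := MulAction.toPermHom ↥K (↥K ⧸ S)
  have hφ : Function.Injective φ := by
    rw [← MonoidHom.ker_eq_bot_iff, ← normalCore_eq_ker, eq_bot_iff]
    intro x hx
    have hxS := S.normalCore_le hx
    rw [mem_bot]
    by_contra hx1
    set tK : K := ⟨t, n.hVK n.dd.htV⟩ with htK
    have hdiv : orderOf x = 3 := by
      have h := Subgroup.orderOf_dvd_natCard S hxS
      rw [hSc] at h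
      exact ((Nat.dvd_prime Nat.prime_three).1 h).resolve_left fun h' => hx1 (orderOf_eq_one_iff.1 h')
    have hc1 : tK * x * tK⁻¹ * x⁻¹ ∈ S :=
      mul_mem (S.normalCore_le (S.normalCore_normal.conj_mem x hx tK)) (inv_mem hxS)
    have hc2 : ((tK * x * tK⁻¹ * x⁻¹ : K) : G) ∈ V := by
      rw [coe_mul, coe_mul, coe_mul, coe_inv, coe_inv, mul_assoc, mul_assoc, ← mul_assoc (x : G)]
      exact mul_mem n.dd.htV ((mem_normalizer_iff.1 (n.hKN x.2) _).1 (inv_mem n.dd.htV))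
    have h1 := Subgroup.orderOf_dvd_natCard S hc1
    have h2 := Subgroup.orderOf_dvd_natCard V hc2
    rw [hSc] at h1
    rw [n.dd.hVc, orderOf_coe] at h2
    have h : tK * x * tK⁻¹ * x⁻¹ = 1 := orderOf_eq_one_iff.1
      (Nat.eq_one_of_dvd_one ((by norm_num : Nat.gcd 3 4 = 1) ▸ Nat.dvd_gcd h1 h2))
    rw [mul_inv_eq_one, mul_inv_eq_iff_eq_mul] at h
    have hxV := n.K_mem_D x.2 (congrArg Subtype.val h).symm
    have := Subgroup.orderOf_dvd_natCard V hxV
    rw [n.dd.hVc, orderOf_coe, hdiv] at this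
    norm_num at this
  let e : (↥K ⧸ S) ≃ Fin 4 := (Finite.equivFin _).trans (finCongr ((index_eq_card S).symm.trans hidx))
  let ψ : ↥K →* Equiv.Perm (Fin 4) := e.permCongrHom.toMonoidHom.comp φ
  have hψ : Function.Injective ψ := e.permCongrHom.injective.comp hφ
  have hi2 : ψ.range.index = 2 := by
    have h := card_mul_index ψ.range
    rw [← Nat.card_congr (MonoidHom.ofInjective hψ).toEquiv, n.hK, Nat.card_perm, Nat.card_fin] at h
    norm_num [Nat.factorial] at h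
    omega
  exact ⟨(MonoidHom.ofInjective hψ).trans
    (MulEquiv.subgroupCongr (Equiv.Perm.eq_alternatingGroup_of_index_eq_two hi2))⟩

theorem iso_N [Finite G] :
    Nonempty (↥(normalizer (V : Set G)) ≃* alternatingGroup (Fin 4) × alternatingGroup (Fin 5)) := by
  obtain ⟨eK⟩ := n.iso_K
  obtain ⟨eB⟩ := n.dd.hB
  let f : K × B →* ↥(normalizer (V : Set G)) :=
    { toFun := fun p => ⟨(p.1 : G) * p.2, mul_mem (n.hKN p.1.2) (n.hBN p.2.2)⟩
      map_one' := Subtype.ext (by simp)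
      map_mul' := fun p q => Subtype.ext (by
        show (p.1 : G) * q.1 * ((p.2 : G) * q.2) = (p.1 : G) * p.2 * ((q.1 : G) * q.2)
        rw [mul_assoc, mul_assoc, ← mul_assoc (q.1 : G), n.hKB _ q.1.2 _ p.2.2, mul_assoc]) }
  have hf : Function.Bijective f := by
    refine ⟨(injective_iff_map_eq_one f).2 fun p hp => ?_, fun x => ?_⟩
    · have h : (p.1 : G) * p.2 = 1 := congrArg Subtype.val hp
      have h1 := n.hKinf _ p.1.2 (eq_inv_of_mul_eq_one_left h ▸ inv_mem p.2.2)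
      rw [h1, one_mul] at h
      exact Prod.ext (Subtype.ext h1) (Subtype.ext h)
    · obtain ⟨k, hk, b, hb, e⟩ := n.hN x x.2
      exact ⟨(⟨k, hk⟩, ⟨b, hb⟩), Subtype.ext e.symm⟩
  exact ⟨(MulEquiv.ofBijective f hf).symm.trans (eK.prodCongr eB)⟩

theorem iso_D [Finite G] : Nonempty (↥(centralizer ({t} : Set G)) ≃*
    (Multiplicative (ZMod 2) × Multiplicative (ZMod 2)) × alternatingGroup (Fin 5)) := by
  obtain ⟨eB⟩ := n.dd.hB
  haveI : Nontrivial ↥V := Finite.one_lt_card_iff_nontrivial.1 (by rw [n.dd.hVc]; norm_num)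
  haveI : IsKleinFour ↥V :=
    { card_four := n.dd.hVc
      exponent_two := (Monoid.exponent_eq_prime_iff Nat.prime_two).2 fun x hx =>
        orderOf_two_iff.2 ⟨Subtype.ext (n.dd.hVsq x x.2), hx⟩ }
  have h22 : ∀ x : Multiplicative (ZMod 2) × Multiplicative (ZMod 2), x * x = 1 := by decide
  haveI : IsKleinFour (Multiplicative (ZMod 2) × Multiplicative (ZMod 2)) :=
    { card_four := by simp
      exponent_two := (Monoid.exponent_eq_prime_iff Nat.prime_two).2 fun x hx =>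
        orderOf_two_iff.2 ⟨h22 x, hx⟩ }
  obtain ⟨eV⟩ := (IsKleinFour.nonempty_mulEquiv :
    Nonempty (↥V ≃* Multiplicative (ZMod 2) × Multiplicative (ZMod 2)))
  let f : V × B →* ↥(centralizer ({t} : Set G)) :=
    { toFun := fun p => ⟨(p.1 : G) * p.2, mul_mem (n.dd.hVD p.1.2) (n.dd.hBD p.2.2)⟩
      map_one' := Subtype.ext (by simp)
      map_mul' := fun p q => Subtype.ext (by
        show (p.1 : G) * q.1 * ((p.2 : G) * q.2) = (p.1 : G) * p.2 * ((q.1 : G) * q.2)
        rw [mul_assoc, mul_assoc, ← mul_assoc (q.1 : G), n.dd.hcomm _ q.1.2 _ p.2.2, mul_assoc]) }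
  have hf : Function.Bijective f := by
    refine ⟨(injective_iff_map_eq_one f).2 fun p hp => ?_, fun x => ?_⟩
    · have h : (p.1 : G) * p.2 = 1 := congrArg Subtype.val hp
      obtain ⟨e1, e2⟩ := n.dd.uniq p.1.2 p.2.2 (one_mem V) (one_mem B) (h.trans (one_mul 1).symm)
      exact Prod.ext (Subtype.ext e1) (Subtype.ext e2)
    · obtain ⟨k, hk, b, hb, e⟩ := n.dd.hdec x x.2
      exact ⟨(⟨k, hk⟩, ⟨b, hb⟩), Subtype.ext e.symm⟩
  exact ⟨(MulEquiv.ofBijective f hf).symm.trans (eV.prodCongr eB)⟩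

end NData

theorem Pair.exists_nData [Finite G] {t : G} (P : Pair z t Q) : ∃ V B K, NData z t Q V B K := by
  obtain ⟨V, B, d⟩ := P.exists_dData
  obtain ⟨K, hK⟩ := d.exists_nData
  exact ⟨V, B, K, hK⟩

end CfsgLib.HJType
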