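import Mathlib
import Cfsg.Agent.Lib.HJType.Normalizer

/-!
Groups of Hall-Janko type: centralizers of elements of order three and five of the component of the centralizer
of a second involution.
-/

set_option autoImplicit false
set_option linter.style.haveILetI false
set_option linter.unusedSectionVars false

namespace CfsgLib.HJType

open Subgroup

variable {G : Type*} [Group G] {z : G} {Q : Subgroup G}

theorem Pair.no_mixed [Finite G] {t : G} (P : Pair z t Q) {p : ℕ} (hp : p = 3 ∨ p = 5) {x u v : G}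
    (hx : orderOf x = p) (hu : IsConj z u) (hv : IsConj t v) (hux : u * x = x * u) (hvx : v * x = x * v) : False := by
  obtain ⟨V, B, d⟩ := P.exists_dData
  have huo : orderOf u = 2 := (CfsgLib.Invol.orderOf_eq_of_isConj hu).symm.trans P.st.hz
  have hvo : orderOf v = 2 := (CfsgLib.Invol.orderOf_eq_of_isConj hv).symm.trans P.ht'
  obtain ⟨y, hy, hyu, hyv, hyz⟩ :=
    CfsgLib.Invol.exists_common_involution huo hvo fun h => P.not_both (hu.trans h) hv
  have hxy : Commute x y := by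
    obtain ⟨k, hk⟩ := mem_zpowers_iff.1 hyz
    rw [← hk]
    exact (Commute.mul_right (show Commute x u from hux.symm) (show Commute x v from hvx.symm)).zpow_right k
  obtain ⟨hy2, hy1⟩ := orderOf_two_iff.1 hy
  rcases P.classes hy2 hy1 with h | h <;> obtain ⟨g, hg⟩ := isConj_iff.1 h.symm
  · have hxH : g * x * g⁻¹ ∈ centralizer ({z} : Set G) := by
      rw [← hg, mem_centralizer_conj, mem_centralizer_singleton_iff]; exact hxy.eq
    have hvH : g * v * g⁻¹ ∈ centralizer ({z} : Set G) := by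
      rw [← hg, mem_centralizer_conj, mem_centralizer_singleton_iff]; exact hyv.eq.symm
    have hc : g * v * g⁻¹ * (g * x * g⁻¹) = g * x * g⁻¹ * (g * v * g⁻¹) :=
      ((Commute.conj_iff g).2 (show Commute v x from hvx)).eq
    have hv2 : g * v * g⁻¹ * (g * v * g⁻¹) = 1 := by
      rw [show g * v * g⁻¹ * (g * v * g⁻¹) = g * (v * v) * g⁻¹ by group, (orderOf_two_iff.1 hvo).1, mul_one,
        mul_inv_cancel]
    have ho : orderOf (g * x * g⁻¹) = p := ((MulAut.conj g).orderOf_eq x).trans hx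
    refine P.not_mem_Q_of_tclass (hv.trans (isConj_conj g v)) ?_
    rcases hp with rfl | rfl
    · exact (P.st.cent_three hxH ho).2.1 _ hvH hc hv2
    · rcases (P.st.cent_five hxH ho).2 _ hvH hc hv2 with e | e
      · rw [e]; exact one_mem Q
      · rw [e]; exact P.st.z_mem
  · have hxD : g * x * g⁻¹ ∈ centralizer ({t} : Set G) := by
      rw [← hg, mem_centralizer_conj, mem_centralizer_singleton_iff]; exact hxy.eq
    have huD : g * u * g⁻¹ ∈ centralizer ({t} : Set G) := by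
      rw [← hg, mem_centralizer_conj, mem_centralizer_singleton_iff]; exact hyu.eq.symm
    have huB := d.zclass_mem_B huD (hu.trans (isConj_conj g u))
    have ho : orderOf (g * x * g⁻¹) = p := ((MulAut.conj g).orderOf_eq x).trans hx
    obtain ⟨a, ha, b, hb, hab⟩ := d.hdec _ hxD
    have hodd : Odd p := by rcases hp with rfl | rfl <;> decide
    have hpow : (a * b) ^ p = 1 := by rw [← hab, ← ho, pow_orderOf_eq_one]
    rw [(show Commute a b from d.hcomm a ha b hb).mul_pow] at hpow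
    obtain ⟨e1, e2⟩ := d.uniq (pow_mem ha p) (pow_mem hb p) (one_mem V) (one_mem B) (hpow.trans (one_mul 1).symm)
    obtain ⟨m, rfl⟩ := hodd
    rw [pow_succ, pow_mul, pow_two, d.hVsq a ha, one_pow, one_mul] at e1
    rw [e1, one_mul] at hab
    obtain ⟨eB⟩ := d.hB
    have hsq := a5_invol_cent (eB ⟨_, huB⟩) (eB ⟨b, hb⟩)
      (by rw [← map_mul, ← map_one eB]; exact congrArg eB (Subtype.ext (by
        show g * u * g⁻¹ * (g * u * g⁻¹) = 1
        rw [show g * u * g⁻¹ * (g * u * g⁻¹) = g * (u * u) * g⁻¹ by group, (orderOf_two_iff.1 huo).1, mul_one,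
          mul_inv_cancel])))
      (fun e => (orderOf_two_iff.1 huo).2 (conj_eq_one_iff.1 (congrArg Subtype.val
        (eB.injective (e.trans (map_one eB).symm)))))
      (by rw [← map_mul, ← map_mul]; exact congrArg eB (Subtype.ext (by
        show b * (g * u * g⁻¹) = g * u * g⁻¹ * b
        rw [← hab]; exact ((Commute.conj_iff g).2 (show Commute x u from hux.symm)).eq)))
    rw [← map_mul, ← map_one eB] at hsq
    have hb2 : b * b = 1 := congrArg Subtype.val (eB.injective hsq)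
    have hdvd := orderOf_dvd_of_pow_eq_one (show b ^ 2 = 1 by rw [pow_two, hb2])
    rw [← hab, ho] at hdvd
    have := Nat.le_of_dvd (by norm_num) hdvd
    omega

namespace NData

variable {t : G} {V B K : Subgroup G} (n : NData z t Q V B K)
include n

/-- An element of `B` of order three or five centralises only its powers in `B`. -/
theorem cent_in_B [Finite G] {p : ℕ} (hp : p = 3 ∨ p = 5) {b c : G} (hb : b ∈ B) (hbo : orderOf b = p)
    (hc : c ∈ B) (hcb : c * b = b * c) : c ∈ zpowers b := by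
  classical
  obtain ⟨eB⟩ := n.dd.hB
  set β := eB ⟨b, hb⟩ with hβ
  have hβo : orderOf β = p := by rw [hβ, MulEquiv.orderOf_eq, ← orderOf_coe]; exact hbo
  have hβ1 : β ≠ 1 := fun h => by rw [h, orderOf_one] at hβo; omega
  have hβp : β ^ p = 1 := by rw [← hβo, pow_orderOf_eq_one]
  have hcard : Nat.card ↥(centralizer ({β} : Set (alternatingGroup (Fin 5)))) = p := by
    rw [Nat.card_congr (Equiv.subtypeEquivRight fun x => mem_centralizer_singleton_iff), Nat.card_eq_fintype_card]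
    rcases hp with rfl | rfl
    · exact a5_cent_three β hβp hβ1
    · exact a5_cent_five β hβp hβ1
  have hle : zpowers β ≤ centralizer ({β} : Set (alternatingGroup (Fin 5))) :=
    zpowers_le.2 (mem_centralizer_singleton_iff.2 rfl)
  have heq := eq_of_le_of_card_ge hle (by rw [hcard, Nat.card_zpowers, hβo])
  have hm : eB ⟨c, hc⟩ ∈ zpowers β := by
    rw [heq, mem_centralizer_singleton_iff, hβ, ← map_mul, ← map_mul]
    exact congrArg eB (Subtype.ext hcb)
  obtain ⟨k, hk⟩ := mem_zpowers_iff.1 hm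
  rw [hβ, ← map_zpow] at hk
  exact ⟨k, congrArg Subtype.val (eB.injective hk)⟩

/-- The centralizer of `b` in the normalizer of `V`. -/
theorem cent_N [Finite G] {p : ℕ} (hp : p = 3 ∨ p = 5) {b : G} (hb : b ∈ B) (hbo : orderOf b = p) :
    Nat.card ↥(centralizer ({b} : Set G) ⊓ normalizer (V : Set G)) = 12 * p ∧
      ∀ x ∈ centralizer ({b} : Set G) ⊓ normalizer (V : Set G), ∃ k ∈ K, ∃ c ∈ zpowers b, x = k * c := by
  set C := centralizer ({b} : Set G) ⊓ normalizer (V : Set G) with hC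
  have hmem : ∀ x ∈ C, ∃ k ∈ K, ∃ c ∈ zpowers b, x = k * c := by
    intro x hx
    obtain ⟨k, hk, c, hc, rfl⟩ := n.hN x hx.2
    refine ⟨k, hk, c, n.cent_in_B hp hb hbo hc ?_, rfl⟩
    have h := mem_centralizer_singleton_iff.1 hx.1
    rw [← mul_assoc, ← n.hKB k hk b hb, mul_assoc k, mul_assoc k] at h
    exact mul_left_cancel h
  refine ⟨?_, hmem⟩
  have hle : ∀ (k : K) (c : zpowers b), (k : G) * c ∈ C := fun k c => mem_inf.2
    ⟨mul_mem (mem_centralizer_singleton_iff.2 (n.hKB k k.2 b hb))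
      ((zpowers_le.2 (mem_centralizer_singleton_iff.2 rfl) : zpowers b ≤ centralizer ({b} : Set G)) c.2),
      mul_mem (n.hKN k.2) (n.hBN (zpowers_le.2 hb c.2))⟩
  have hf : Function.Bijective (fun q : K × zpowers b => (⟨(q.1 : G) * q.2, hle q.1 q.2⟩ : C)) := by
    refine ⟨?_, fun x => ?_⟩
    · rintro ⟨k, c⟩ ⟨k', c'⟩ h
      have h' : (k : G) * c = k' * c' := congrArg Subtype.val h
      have h2 : (k' : G)⁻¹ * k = c' * (c : G)⁻¹ := by
        rw [inv_mul_eq_iff_eq_mul, ← mul_assoc, ← h', mul_inv_cancel_right]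
      have h4 := n.hKinf _ (mul_mem (inv_mem k'.2) k.2)
        (h2 ▸ mul_mem (zpowers_le.2 hb c'.2) (inv_mem (zpowers_le.2 hb c.2)))
      rw [inv_mul_eq_one] at h4
      rw [h4] at h'
      exact Prod.ext (Subtype.ext h4.symm) (Subtype.ext (mul_left_cancel h'))
    · obtain ⟨k, hk, c, hc, e⟩ := hmem x x.2
      exact ⟨(⟨k, hk⟩, ⟨c, hc⟩), Subtype.ext e.symm⟩
  rw [← Nat.card_eq_of_bijective _ hf, Nat.card_prod, n.hK, Nat.card_zpowers, hbo]

theorem b_comm_t {b : G} (hb : b ∈ B) : t * b = b * t := n.dd.hcomm t n.dd.htV b hb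

theorem not_dvd_cent [Finite G] {p : ℕ} (hp : p = 3 ∨ p = 5) {b : G} (hb : b ∈ B) (hbo : orderOf b = p) :
    ¬ 2 ^ (2 + 1) ∣ Nat.card (centralizer ({b} : Set G)) := by
  intro hd
  haveI : Fact (Nat.Prime 2) := ⟨Nat.prime_two⟩
  set C := centralizer ({b} : Set G) with hC
  have hVC : V ≤ C := fun v hv => mem_centralizer_singleton_iff.2 (n.dd.hcomm v hv b hb)
  have hV' : Nat.card (V.subgroupOf C) = 2 ^ 2 := by
    rw [Nat.card_congr (subgroupOfEquivOfLe hVC).toEquiv, n.dd.hVc]; norm_num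
  obtain ⟨L, hL, hle⟩ := Sylow.exists_subgroup_card_pow_succ hd hV'
  have hLc : Nat.card (L.map C.subtype) = 8 := by
    rw [← Nat.card_congr (L.equivMapOfInjective _ C.subtype_injective).toEquiv, hL]; norm_num
  have hVL : V ≤ L.map C.subtype := fun v hv => ⟨⟨v, hVC hv⟩, hle hv, rfl⟩
  haveI hnorm : (V.subgroupOf (L.map C.subtype)).Normal := by
    refine Subgroup.normal_of_index_eq_two ?_
    have h := card_mul_index (V.subgroupOf (L.map C.subtype))
    rw [Nat.card_congr (subgroupOfEquivOfLe hVL).toEquiv, n.dd.hVc, hLc] at h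
    omega
  have hsub : L.map C.subtype ≤ C ⊓ normalizer (V : Set G) := fun x hx => mem_inf.2 ⟨map_subtype_le L hx,
    n.dd.mem_norm_of_conj (hnorm.conj_mem ⟨t, hVL n.dd.htV⟩ n.dd.htV ⟨x, hx⟩)⟩
  have h := card_dvd_of_le hsub
  rw [hLc, (n.cent_N hp hb hbo).1] at h
  rcases hp with rfl | rfl <;> norm_num at h

/-- The involutions of the centralizer of `b` are conjugate in it to `t`. -/
theorem cent_b_invol [Finite G] {p : ℕ} (hp : p = 3 ∨ p = 5) {b : G} (hb : b ∈ B) (hbo : orderOf b = p) {w : G}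
    (hw : w * b = b * w) (hw2 : w * w = 1) (hw1 : w ≠ 1) :
    ∃ c ∈ centralizer ({b} : Set G), c * w * c⁻¹ = t := by
  haveI : Fact (Nat.Prime 2) := ⟨Nat.prime_two⟩
  obtain ⟨c, hc, hcw⟩ := exists_conj_into (K := centralizer ({b} : Set G)) (B := V) (p := 2) (n := 2)
    (fun v hv => mem_centralizer_singleton_iff.2 (n.dd.hcomm v hv b hb)) (by rw [n.dd.hVc]; norm_num)
    (n.not_dvd_cent hp hb hbo) (zpowers_le.2 (mem_centralizer_singleton_iff.2 hw))
    (IsPGroup.of_card (n := 1) (by rw [Nat.card_zpowers, orderOf_two_iff.2 ⟨hw2, hw1⟩, pow_one]))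
  obtain ⟨k, hk, hke⟩ := n.htrans _ (hcw w (mem_zpowers w)) fun h => hw1 (conj_eq_one_iff.1 h)
  refine ⟨k⁻¹ * c, mul_mem (inv_mem (mem_centralizer_singleton_iff.2 (n.hKB k hk b hb))) hc, ?_⟩
  calc k⁻¹ * c * w * (k⁻¹ * c)⁻¹ = k⁻¹ * (c * w * c⁻¹) * k := by group
    _ = k⁻¹ * (k * t * k⁻¹) * k := by rw [hke]
    _ = t := by group

set_option maxHeartbeats 1000000 in
/-- The centralizer of `b` normalises `V` or is an extension of `⟨b⟩` by `A₅`. -/
theorem cent_dich [Finite G] {p : ℕ} (hp : p = 3 ∨ p = 5) {b : G} (hb : b ∈ B) (hbo : orderOf b = p) :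
    centralizer ({b} : Set G) ≤ normalizer (V : Set G) ∨
      ∃ φ : ↥(centralizer ({b} : Set G)) →* alternatingGroup (Fin 5),
        Function.Surjective φ ∧ (∀ x, φ x = 1 ↔ (x : G) ∈ zpowers b) ∧
        Nat.card (centralizer ({b} : Set G)) = 60 * p := by
  classical
  haveI : Fact (Nat.Prime 2) := ⟨Nat.prime_two⟩
  set C := centralizer ({b} : Set G) with hC
  have hbC : b ∈ C := mem_centralizer_singleton_iff.2 rfl
  have hVC : V ≤ C := fun v hv => mem_centralizer_singleton_iff.2 (n.dd.hcomm v hv b hb)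
  have hzC : zpowers b ≤ C := zpowers_le.2 hbC
  set Z' := (zpowers b).subgroupOf C with hZ'
  haveI : Z'.Normal := ⟨fun x hx g => by
    rw [hZ', mem_subgroupOf] at hx ⊢
    obtain ⟨k, hk⟩ := mem_zpowers_iff.1 hx
    rw [coe_mul, coe_mul, coe_inv, ← hk,
      ((show Commute (g : G) b from mem_centralizer_singleton_iff.1 g.2).zpow_right k).eq, mul_inv_cancel_right]
    exact zpow_mem (mem_zpowers b) k⟩
  have hZc : Nat.card Z' = p := by
    rw [hZ', Nat.card_congr (subgroupOfEquivOfLe hzC).toEquiv, Nat.card_zpowers, hbo]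
  let π : C →* C ⧸ Z' := QuotientGroup.mk' Z'
  have hπs : Function.Surjective π := QuotientGroup.mk'_surjective Z'
  have hπ : ∀ x y : C, π x = π y ↔ (x : G)⁻¹ * y ∈ zpowers b := fun x y => by
    rw [QuotientGroup.mk'_apply, QuotientGroup.mk'_apply, QuotientGroup.eq, hZ', mem_subgroupOf]
    rfl
  have hπ1 : ∀ x : C, π x = 1 ↔ (x : G) ∈ zpowers b := fun x => by
    rw [QuotientGroup.mk'_apply, QuotientGroup.eq_one_iff, hZ', mem_subgroupOf]
  -- square roots of one modulo the powers of `b`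
  have hodd2 : ∀ w ∈ zpowers b, w * w = 1 → w = 1 := by
    intro w hw hw2
    have h1 : orderOf w ∣ p := by
      have := Subgroup.orderOf_dvd_natCard _ hw
      rwa [Nat.card_zpowers, hbo] at this
    have h2 : orderOf w ∣ 2 := orderOf_dvd_of_pow_eq_one (by rw [pow_two, hw2])
    have hg : Nat.gcd p 2 = 1 := by rcases hp with rfl | rfl <;> rfl
    exact orderOf_eq_one_iff.1 (Nat.eq_one_of_dvd_one (hg ▸ Nat.dvd_gcd h1 h2))
  have hsplit : ∀ v ∈ V, ∀ c ∈ zpowers b, v * c * (v * c) = 1 → c = 1 := by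
    intro v hv c hc h
    have hcv := n.dd.hcomm v hv c (zpowers_le.2 hb hc)
    rw [mul_assoc v, ← mul_assoc c, ← hcv, mul_assoc v, ← mul_assoc, n.dd.hVsq v hv, one_mul] at h
    exact hodd2 c hc h
  set td : C := ⟨t, hVC n.dd.htV⟩ with htd
  have hCt : ∀ x : C, π x * π td = π td * π x → (x : G) * t = t * x := by
    intro x hx
    rw [← map_mul, ← map_mul, hπ] at hx
    set c := ((x : G) * t)⁻¹ * (t * x) with hc
    have hx' : c ∈ zpowers b := hx
    have h2 : (x : G)⁻¹ * t * x = t * c := by rw [hc]; group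
    have h3 : t * c * (t * c) = 1 := by
      rw [← h2, show (x : G)⁻¹ * t * x * ((x : G)⁻¹ * t * x) = (x : G)⁻¹ * (t * t) * x by group, n.dd.pr.ht2,
        mul_one, inv_mul_cancel]
    rw [hsplit t n.dd.htV c hx' h3, mul_one] at h2
    calc (x : G) * t = (x : G) * ((x : G)⁻¹ * t * x) := by rw [h2]
      _ = t * x := by group
  have hdecC : ∀ x : C, (x : G) * t = t * x → ∃ v ∈ V, ∃ c ∈ zpowers b, (x : G) = v * c := by
    intro x hx
    obtain ⟨v, hv, c, hc, e⟩ := n.dd.hdec x (mem_centralizer_singleton_iff.2 hx)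
    refine ⟨v, hv, c, n.cent_in_B hp hb hbo hc ?_, e⟩
    have h := mem_centralizer_singleton_iff.1 x.2
    rw [e, ← mul_assoc, ← n.dd.hcomm v hv b hb, mul_assoc v, mul_assoc v] at h
    exact mul_left_cancel h
  have hC4 : Nat.card (centralizer ({π td} : Set (C ⧸ Z'))) = 4 := by
    rw [← n.dd.hVc]
    refine (Nat.card_eq_of_bijective (fun v : V => (⟨π ⟨v, hVC v.2⟩, mem_centralizer_singleton_iff.2 (by
      rw [← map_mul, ← map_mul]
      exact congrArg π (Subtype.ext (n.dd.V_comm v.2 n.dd.htV)))⟩ : centralizer ({π td} : Set (C ⧸ Z'))))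
      ⟨?_, ?_⟩).symm
    · intro v v' h
      have h' : (v : G)⁻¹ * v' ∈ zpowers b := (hπ _ _).1 (congrArg Subtype.val h)
      exact Subtype.ext (inv_mul_eq_one.1 (hodd2 _ h' (n.dd.hVsq _ (mul_mem (inv_mem v.2) v'.2))))
    · rintro ⟨y, hy⟩
      obtain ⟨x, rfl⟩ := hπs y
      obtain ⟨v, hv, c, hc, hx⟩ := hdecC x (hCt x (mem_centralizer_singleton_iff.1 hy))
      refine ⟨⟨v, hv⟩, Subtype.ext ((hπ _ _).2 ?_)⟩
      show v⁻¹ * (x : G) ∈ zpowers b
      rw [hx, inv_mul_cancel_left]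
      exact hc
  have hCe : ∀ c ∈ centralizer ({π td} : Set (C ⧸ Z')), c ^ 2 = 1 := by
    intro y hy
    obtain ⟨x, rfl⟩ := hπs y
    obtain ⟨v, hv, c, hc, hx⟩ := hdecC x (hCt x (mem_centralizer_singleton_iff.1 hy))
    rw [pow_two, ← map_mul, hπ1, coe_mul, hx, mul_assoc v, ← mul_assoc c,
      ← n.dd.hcomm v hv c (zpowers_le.2 hb hc), mul_assoc v, ← mul_assoc, n.dd.hVsq v hv, one_mul]
    exact mul_mem hc hc
  have ht0 : orderOf (π td) = 2 := by
    refine orderOf_two_iff.2 ⟨?_, ?_⟩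
    · rw [← map_mul, ← map_one π]
      exact congrArg π (Subtype.ext n.dd.pr.ht2)
    · intro h
      exact n.dd.pr.t_ne (hodd2 t ((hπ1 td).1 h) n.dd.pr.ht2)
  obtain ⟨σ, hσK, hσ⟩ := n.exists_sigma
  have hσC : σ ∈ C := mem_centralizer_singleton_iff.2 (n.hKB σ hσK b hb)
  set sd : C := ⟨σ, hσC⟩ with hsd
  have hσ0 : π sd * π td ≠ π td * π sd := by
    intro h
    have := Subgroup.orderOf_dvd_natCard V (n.K_mem_D hσK (hCt sd h))
    rw [n.dd.hVc, hσ] at this
    norm_num at this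
  have hVconj : ∀ (v : G) (hv : v ∈ V), v ≠ 1 → ∃ g : C, π g * π ⟨v, hVC hv⟩ * (π g)⁻¹ = π td := by
    intro v hv h1
    obtain ⟨k, hk, hke⟩ := n.htrans v hv h1
    refine ⟨⟨k⁻¹, inv_mem (mem_centralizer_singleton_iff.2 (n.hKB k hk b hb))⟩, ?_⟩
    rw [← map_inv, ← map_mul, ← map_mul]
    exact congrArg π (Subtype.ext (show k⁻¹ * v * k⁻¹⁻¹ = t by rw [← hke]; group))
  have h4d : ∀ T : Sylow 2 (C ⧸ Z'), 4 ∣ Nat.card T := fun T => by
    have h : 2 ^ 2 ∣ Nat.card (C ⧸ Z') := by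
      rw [show 2 ^ 2 = 4 from rfl, ← hC4]; exact card_subgroup_dvd_card _
    simpa using T.pow_dvd_card_of_pow_dvd_card h
  have hq8 : ¬ 2 ^ 3 ∣ Nat.card (C ⧸ Z') := by
    intro h
    have hc := card_mul_index Z'
    rw [hZc, index_eq_card] at hc
    exact n.not_dvd_cent hp hb hbo (hc ▸ h.trans (dvd_mul_left _ _))
  have hnc : ¬ Cfsg.HasNormalPComplement 2 (C ⧸ Z') := by
    rintro ⟨T, N, hN, hcompl⟩
    have hodd : ¬ 2 ∣ Nat.card N := fun h2 => hq8 (by
      rw [← hcompl.card_mul]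
      exact (show 2 ^ 3 = 2 * 4 from rfl) ▸ mul_dvd_mul h2 (h4d T))
    have hfix : ∀ (v : G) (hv : v ∈ V), v ≠ 1 → ∀ x ∈ N, π ⟨v, hVC hv⟩ * x = x * π ⟨v, hVC hv⟩ → x = 1 := by
      intro v hv h1 x hx hc
      obtain ⟨g, hg⟩ := hVconj v hv h1
      have hm : π g * x * (π g)⁻¹ ∈ centralizer ({π td} : Set (C ⧸ Z')) := by
        rw [← hg, mem_centralizer_conj, mem_centralizer_singleton_iff]
        exact hc.symm
      have ho : orderOf (π g * x * (π g)⁻¹) ∣ 2 := orderOf_dvd_of_pow_eq_one (hCe _ hm)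
      have ho' := Subgroup.orderOf_dvd_natCard N (hN.conj_mem x hx (π g))
      rcases (Nat.dvd_prime Nat.prime_two).1 ho with h | h
      · exact conj_eq_one_iff.1 (orderOf_eq_one_iff.1 h)
      · exact absurd (h ▸ ho') hodd
    set v := σ * t * σ⁻¹ with hv
    have hvV : v ∈ V := (mem_normalizer_iff.1 (n.hKN hσK) t).1 n.dd.htV
    have hv1 : v ≠ 1 := fun h => n.dd.pr.t_ne (conj_eq_one_iff.1 h)
    have htv1 : t * v ≠ 1 := fun h => by
      have e : v = t := mul_left_cancel (h.trans n.dd.pr.ht2.symm)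
      refine hσ0 ?_
      rw [← map_mul, ← map_mul]
      exact congrArg π (Subtype.ext (mul_inv_eq_iff_eq_mul.1 e))
    have hsq : ∀ (u : G) (hu : u ∈ V), π ⟨u, hVC hu⟩ * π ⟨u, hVC hu⟩ = 1 := fun u hu => by
      rw [← map_mul, ← map_one π]; exact congrArg π (Subtype.ext (n.dd.hVsq u hu))
    have e1 : π ⟨t * v, hVC (mul_mem n.dd.htV hvV)⟩ = π td * π ⟨v, hVC hvV⟩ := map_mul π td ⟨v, hVC hvV⟩
    have hbot : N = ⊥ := by
      refine four_fpf (hsq t n.dd.htV) (hsq v hvV) ?_ ?_ ?_ (hfix t n.dd.htV n.dd.pr.t_ne) (hfix v hvV hv1) ?_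
      · rw [← map_mul, ← map_mul]
        exact congrArg π (Subtype.ext (n.dd.V_comm n.dd.htV hvV))
      · intro x hx
        have := hN.conj_mem x hx (π td)
        rwa [inv_eq_of_mul_eq_one_right (hsq t n.dd.htV)] at this
      · intro x hx
        have := hN.conj_mem x hx (π ⟨v, hVC hvV⟩)
        rwa [inv_eq_of_mul_eq_one_right (hsq v hvV)] at this
      · intro x hx hc
        refine hfix _ (mul_mem n.dd.htV hvV) htv1 x hx ?_
        rw [e1]
        exact hc
    have hTtop : Nat.card T = Nat.card (C ⧸ Z') := by rw [← hcompl.card_mul, hbot, card_bot, one_mul]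
    obtain ⟨m, hm⟩ := IsPGroup.iff_card.1 T.2
    have h3 : orderOf (π sd) ∣ 3 := (orderOf_map_dvd π sd).trans (by rw [← orderOf_coe]; exact hσ.dvd)
    rcases (Nat.dvd_prime Nat.prime_three).1 h3 with h | h
    · rw [orderOf_eq_one_iff] at h
      exact hσ0 (by rw [h, one_mul, mul_one])
    · have := orderOf_dvd_natCard (π sd)
      rw [h, ← hTtop, hm] at this
      exact absurd (Nat.prime_three.dvd_of_dvd_pow this) (by norm_num)
  by_cases hne : ∀ A : Subgroup (C ⧸ Z'), A.Normal → Cfsg.IsElementaryAbelian 2 A → Nat.card A ≠ 2 ∧ Nat.card A ≠ 4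
  · obtain ⟨e⟩ := Cfsg.Agent.S3277.result (π td) ht0 hC4 hCe hnc hne
    refine Or.inr ⟨e.toMonoidHom.comp π, e.surjective.comp hπs, fun x => ?_, ?_⟩
    · show e (π x) = 1 ↔ _
      rw [MulEquiv.map_eq_one_iff, hπ1]
    · have hc := card_mul_index Z'
      rw [hZc, index_eq_card, Nat.card_congr e.toEquiv, a5_card] at hc
      rw [← hc, mul_comm]
  · left
    push Not at hne
    obtain ⟨A, hAn, hAe, hA⟩ := hne
    set CT := centralizer ({π td} : Set (C ⧸ Z')) with hCT
    have hAsyl : A ≤ CT := by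
      obtain ⟨c, -, hcA⟩ := exists_conj_into (K := (⊤ : Subgroup (C ⧸ Z'))) (p := 2) (n := 2) (le_top : CT ≤ ⊤)
        (by rw [hC4]; norm_num) (fun h => hq8 (by rwa [card_top] at h)) (le_top : A ≤ ⊤)
        (fun a => ⟨1, Subtype.ext (by rw [pow_one]; exact hAe.2 a a.2)⟩)
      intro a ha
      simpa [mul_assoc] using hcA _ (hAn.conj_mem a ha c⁻¹)
    have hA4 : Nat.card A = 4 := by
      by_contra h4
      have h2 : Nat.card A = 2 := by
        by_contra h2
        exact h4 (hA h2)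
      obtain ⟨a, ha⟩ := exists_prime_orderOf_dvd_card' (G := A) 2 (by rw [h2])
      have ha1 : (a : C ⧸ Z') ≠ 1 := fun h => by
        rw [← orderOf_coe, h, orderOf_one] at ha; omega
      have hcen : ∀ g, g * (a : C ⧸ Z') = a * g := by
        intro g
        have hg := hAn.conj_mem _ a.2 g
        by_contra hne'
        have hne2 : g * (a : C ⧸ Z') * g⁻¹ ≠ a := fun h => hne' (mul_inv_eq_iff_eq_mul.1 h)
        have h3 : ({1, ⟨(a : C ⧸ Z'), a.2⟩, ⟨_, hg⟩} : Finset A).card = 3 := by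
          rw [Finset.card_insert_of_notMem, Finset.card_pair]
          · exact fun h => hne2 (congrArg Subtype.val h).symm
          · simp only [Finset.mem_insert, Finset.mem_singleton, Subtype.ext_iff, OneMemClass.coe_one, not_or]
            exact ⟨ha1.symm, fun h => ha1 (conj_eq_one_iff.1 h.symm)⟩
        haveI := Fintype.ofFinite A
        have := Finset.card_le_univ ({1, ⟨(a : C ⧸ Z'), a.2⟩, ⟨_, hg⟩} : Finset A)
        rw [h3, ← Nat.card_eq_fintype_card, h2] at this
        omega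
      obtain ⟨x, hx⟩ := hπs (a : C ⧸ Z')
      have haC := hAsyl a.2
      rw [← hx] at haC
      obtain ⟨v, hv, c, hc, hxe⟩ := hdecC x (hCt x (mem_centralizer_singleton_iff.1 haC))
      have hxe' : π x = π ⟨v, hVC hv⟩ := by
        rw [eq_comm, hπ]
        show v⁻¹ * (x : G) ∈ zpowers b
        rw [hxe, inv_mul_cancel_left]; exact hc
      have hv1 : v ≠ 1 := by
        rintro rfl
        exact ha1 (by rw [← hx, hxe', ← map_one π]; rfl)
      obtain ⟨g, hg⟩ := hVconj v hv hv1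
      rw [← hxe', hx, hcen, mul_inv_cancel_right] at hg
      exact hσ0 (hg ▸ hcen (π sd))
    have hAC : A = CT := eq_of_le_of_card_ge hAsyl (by rw [hC4, hA4])
    intro g hg
    have hm : π ⟨g, hg⟩ * π td * (π ⟨g, hg⟩)⁻¹ ∈ CT := by
      rw [← hAC]
      exact hAn.conj_mem _ (by rw [hAC, hCT, mem_centralizer_singleton_iff]) _
    rw [hCT, mem_centralizer_singleton_iff, ← map_inv, ← map_mul, ← map_mul] at hm
    obtain ⟨v, hv, c, hc, e⟩ := hdecC _ (hCt (⟨g, hg⟩ * td * ⟨g, hg⟩⁻¹) hm)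
    have e' : g * t * g⁻¹ = v * c := e
    have hc1 := hsplit v hv c hc (by
      rw [← e', show g * t * g⁻¹ * (g * t * g⁻¹) = g * (t * t) * g⁻¹ by group, n.dd.pr.ht2, mul_one, mul_inv_cancel])
    refine n.dd.mem_norm_of_conj ?_
    rw [e', hc1, mul_one]
    exact hv

end NData

end CfsgLib.HJType
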