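import Mathlib
import Cfsg.Prelude.Def_Transfer
import Cfsg.Agent.Lib.LocalEven.IsolatedSylow.Final

/-!
A nonabelian group of order `p ^ 3` is extraspecial.
-/

set_option autoImplicit false
set_option linter.style.haveILetI false

namespace CfsgLib.HJType

open Subgroup
open scoped commutatorElement

theorem isExtraspecial_of_nonabelian_cube {p : ℕ} [hp : Fact p.Prime] {Q : Type*} [Group Q] [Finite Q]
    (hc : Nat.card Q = p ^ 3) (hnab : ∃ a b : Q, a * b ≠ b * a) : Cfsg.IsExtraspecial p Q := by
  have hQ : IsPGroup p Q := IsPGroup.of_card hc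
  have := hQ.isNilpotent
  have hnab : ¬ ∀ a b : Q, a * b = b * a := fun h => by
    obtain ⟨a, b, hab⟩ := hnab
    exact hab (h a b)
  obtain ⟨j, hj, hjc⟩ := (Nat.dvd_prime_pow hp.out).1 (hc ▸ (center Q).card_subgroup_dvd_card)
  have hindex : (center Q).index = p ^ (3 - j) := by
    have h := (center Q).card_mul_index
    rw [hjc, hc, show p ^ 3 = p ^ j * p ^ (3 - j) by rw [← pow_add]; congr 1; omega] at h
    exact Nat.eq_of_mul_eq_mul_left (pow_pos hp.out.pos _) h
  have hncyc : ¬ IsCyclic (Q ⧸ center Q) := fun _ => hnab fun a b =>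
    commutative_of_cyclic_center_quotient (QuotientGroup.mk' (center Q)) (by rw [QuotientGroup.ker_mk']) a b
  have hj1 : j = 1 := by
    rcases Nat.lt_or_ge j 2 with h | h
    · rcases Nat.eq_zero_or_pos j with rfl | h0
      · have : Nontrivial Q := Finite.one_lt_card_iff_nontrivial.1 (hc ▸ Nat.one_lt_pow (by norm_num) hp.out.one_lt)
        exact absurd (Subgroup.eq_bot_of_card_eq _ (by rw [hjc, pow_zero])) (Group.IsNilpotent.center_ne_bot (G := Q))
      · omega
    · exfalso
      refine hncyc ?_
      rcases Nat.eq_or_lt_of_le (show 3 - j ≤ 1 by omega) with e | e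
      · exact isCyclic_of_prime_card (p := p) (by rw [← index_eq_card, hindex, e, pow_one])
      · haveI : Subsingleton (Q ⧸ center Q) := Finite.card_le_one_iff_subsingleton.1
          (by rw [← index_eq_card, hindex, show 3 - j = 0 by omega, pow_zero])
        infer_instance
  subst hj1
  rw [pow_one] at hjc
  have hQc : Nat.card (Q ⧸ center Q) = p ^ 2 := by rw [← index_eq_card, hindex]
  have hpow : ∀ a : Q, a ^ p ∈ center Q := by
    intro a
    rw [← QuotientGroup.eq_one_iff, QuotientGroup.mk_pow, ← orderOf_dvd_iff_pow_eq_one]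
    obtain ⟨k, hk2, hk⟩ := (Nat.dvd_prime_pow hp.out).1 (hQc ▸ orderOf_dvd_natCard (a : Q ⧸ center Q))
    rw [hk]
    by_contra h
    have hk' : k = 2 := by
      interval_cases k <;> simp_all
    exact hncyc (isCyclic_of_orderOf_eq_card (a : Q ⧸ center Q) (by rw [hk, hk', hQc]))
  have hder : _root_.commutator Q ≤ center Q := by
    rw [_root_.commutator_def, Subgroup.commutator_le]
    intro a _ b _
    refine (QuotientGroup.eq_one_iff _).1 ?_
    show QuotientGroup.mk' (center Q) ⁅a, b⁆ = 1
    rw [map_commutatorElement, commutatorElement_eq_one_iff_mul_comm]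
    exact (IsPGroup.isMulCommutative_of_card_eq_prime_sq hQc).is_comm.comm _ _
  have hder' : _root_.commutator Q = center Q := by
    refine hder.eq_or_lt.resolve_right fun hlt => hnab fun a b => ?_
    have hpr : Nat.card ↥(_root_.commutator Q) = 1 := by
      rcases (Nat.dvd_prime hp.out).1 (hjc ▸ card_dvd_of_le hder) with h | h
      · exact h
      · exact absurd (eq_of_le_of_card_ge hder (by rw [hjc, h])) hlt.ne
    have h1 : ⁅a, b⁆ ∈ _root_.commutator Q := by
      rw [_root_.commutator_def]; exact commutator_mem_commutator (mem_top a) (mem_top b)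
    rw [Subgroup.eq_bot_of_card_eq _ hpr, mem_bot] at h1
    exact commutatorElement_eq_one_iff_mul_comm.1 h1
  refine ⟨⟨hQ, le_antisymm ?_ ?_, hder'⟩, hjc⟩
  · exact CfsgLib.Transfer.frattini_le_of_commutator_pow (center Q) (p := p) (fun a b => hder (by
      rw [_root_.commutator_def]; exact commutator_mem_commutator (mem_top a) (mem_top b))) hpow
  · exact hder'.ge.trans (CfsgLib.PGroup.commutator_le_frattini hQ)

end CfsgLib.HJType
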