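import Mathlib
import Cfsg.Agent.Lib.HJType.CentB

/-!
Groups of Hall-Janko type: elements of order five conjugate into the component of the second involution centralizer.
-/

set_option autoImplicit false
set_option linter.style.haveILetI false
set_option linter.unusedSectionVars false

namespace CfsgLib.HJType

open Subgroup

variable {G : Type*} [Group G] {z : G} {Q : Subgroup G}

/-- The Sylow subgroups of a group whose order is exactly divisible by `p ^ k`. -/
theorem card_sylow_of_exact [Finite G] {p k : ℕ} [Fact p.Prime] (h1 : p ^ k ∣ Nat.card G)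
    (h2 : ¬ p ^ (k + 1) ∣ Nat.card G) (P : Sylow p G) : Nat.card P = p ^ k := by
  obtain ⟨m, hm⟩ := IsPGroup.iff_card.1 P.2
  have ha := P.pow_dvd_card_of_pow_dvd_card h1
  rw [hm] at ha ⊢
  have h3 : m ≤ k := by
    by_contra h
    exact h2 ((pow_dvd_pow p (by omega : k + 1 ≤ m)).trans (hm ▸ card_subgroup_dvd_card _))
  have h4 : k ≤ m := (Nat.pow_dvd_pow_iff_le_right (Fact.out : p.Prime).one_lt).1 ha
  rw [le_antisymm h3 h4]

theorem zpowers_eq_of_prime [Finite G] {p : ℕ} [Fact p.Prime] {x w : G} (hx : orderOf x = p) (hw : w ∈ zpowers x)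
    (hw1 : w ≠ 1) : zpowers w = zpowers x := by
  refine eq_of_le_of_card_ge (zpowers_le.2 hw) ?_
  have h := Subgroup.orderOf_dvd_natCard _ hw
  rw [Nat.card_zpowers, hx] at h
  rw [Nat.card_zpowers, Nat.card_zpowers, hx,
    ((Nat.dvd_prime (Fact.out : p.Prime)).1 h).resolve_left fun h' => hw1 (orderOf_eq_one_iff.1 h')]

namespace NData

variable {t : G} {V B K : Subgroup G} (n : NData z t Q V B K)
include n

theorem card_G [Finite G] : Nat.card G = 604800 := n.dd.card_G

theorem five_B [Finite G] {b : G} (hb : b ∈ B) (hbo : orderOf b = 5) :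
    Nat.card (centralizer ({b} : Set G)) = 300 ∧
      (∃ φ : ↥(centralizer ({b} : Set G)) →* alternatingGroup (Fin 5),
        Function.Surjective φ ∧ ∀ x, φ x = 1 ↔ (x : G) ∈ zpowers b) := by
  classical
  haveI := Fintype.ofFinite G
  haveI : Fact (Nat.Prime 5) := ⟨by norm_num⟩
  obtain h | ⟨φ, h1, h2, h3⟩ := n.cent_dich (p := 5) (Or.inr rfl) hb hbo
  swap
  · exact ⟨h3, φ, h1, h2⟩
  exfalso
  obtain ⟨-, hmem⟩ := n.cent_N (p := 5) (Or.inr rfl) hb hbo
  -- count the fixed points of `b` among the involutions conjugate to `t`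
  let σ : Equiv.Perm G := MulAut.toPerm G (MulAut.conj b)
  have hσ : σ ^ 5 = 1 := by rw [← map_pow, ← map_pow, ← hbo, pow_orderOf_eq_one, map_one, map_one]
  have hσx : ∀ x, σ x = b * x * b⁻¹ := fun x => rfl
  have hm := card_modEq_fixed_of_invariant σ hσ (fun u => IsConj t u) fun x => by
    rw [hσx]; exact ⟨fun h => h.trans (isConj_conj b x).symm, fun h => h.trans (isConj_conj b x)⟩
  have hcl : Nat.card {u : G // IsConj t u} = 2520 := by
    have e := CfsgLib.Invol.card_conjugates_mul t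
    rw [n.dd.card_D, n.card_G] at e
    omega
  have hfix : Nat.card {u : G // IsConj t u ∧ σ u = u} = 3 := by
    have h3 : ((Finset.univ.filter fun y => y ∈ V).erase 1).card = 3 := by
      rw [Finset.card_erase_of_mem (Finset.mem_filter.2 ⟨Finset.mem_univ _, one_mem _⟩), ← Fintype.card_subtype,
        ← Nat.card_eq_fintype_card, n.dd.hVc]
    rw [← h3, Nat.card_eq_fintype_card, Fintype.card_subtype]
    congr 1
    ext u
    simp only [Finset.mem_filter, Finset.mem_univ, true_and, Finset.mem_erase, hσx]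
    constructor
    · rintro ⟨hu, hc⟩
      obtain ⟨g, hg⟩ := isConj_iff.1 hu
      have hu2 : u * u = 1 := by
        rw [← hg, show g * t * g⁻¹ * (g * t * g⁻¹) = g * (t * t) * g⁻¹ by group, n.dd.pr.ht2, mul_one, mul_inv_cancel]
      have hu1 : u ≠ 1 := fun e => n.dd.pr.t_ne (conj_eq_one_iff.1 (hg.trans e))
      have huC : u ∈ centralizer ({b} : Set G) := mem_centralizer_singleton_iff.2 (mul_inv_eq_iff_eq_mul.1 hc).symm
      obtain ⟨k, hk, c, hcb, rfl⟩ := hmem u (mem_inf.2 ⟨huC, h huC⟩)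
      have hkc := n.hKB k hk c (zpowers_le.2 hb hcb)
      have e : (k * k) * (c * c) = 1 := by
        calc k * k * (c * c) = k * (k * c) * c := by group
          _ = k * (c * k) * c := by rw [hkc]
          _ = (k * c) * (k * c) := by group
          _ = 1 := hu2
      have e1 : k * k = 1 := n.hKinf _ (mul_mem hk hk)
        (eq_inv_of_mul_eq_one_left e ▸ inv_mem (mul_mem (zpowers_le.2 hb hcb) (zpowers_le.2 hb hcb)))
      rw [e1, one_mul] at e
      have hd1 := Subgroup.orderOf_dvd_natCard _ hcb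
      rw [Nat.card_zpowers, hbo] at hd1
      have hd2 : orderOf c ∣ 2 := orderOf_dvd_of_pow_eq_one (by rw [pow_two, e])
      have hc1 : c = 1 := orderOf_eq_one_iff.1
        (Nat.eq_one_of_dvd_one ((by norm_num : Nat.gcd 5 2 = 1) ▸ Nat.dvd_gcd hd1 hd2))
      rw [hc1, mul_one] at hu1 ⊢
      exact ⟨hu1, n.K_two hk (m := 1) (by rw [pow_one, pow_two, e1])⟩
    · rintro ⟨h1, hu⟩
      exact ⟨n.dd.hVt u hu h1, mul_inv_eq_iff_eq_mul.2 (n.dd.hcomm u hu b hb).symm⟩
  rw [hcl, hfix] at hm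
  exact absurd hm (by decide)

theorem five_not_sq [Finite G] {b : G} (hb : b ∈ B) (hbo : orderOf b = 5) (g : G) : g * b * g⁻¹ ≠ b ^ 2 := by
  intro e
  haveI : Fact (Nat.Prime 5) := ⟨by norm_num⟩
  have hwC : g * t * g⁻¹ ∈ centralizer ({b ^ 2} : Set G) := by
    rw [← e, mem_centralizer_conj, mem_centralizer_singleton_iff]
    exact n.b_comm_t hb
  have hwb : g * t * g⁻¹ * b = b * (g * t * g⁻¹) := by
    have h : Commute (g * t * g⁻¹) (b ^ 2) := mem_centralizer_singleton_iff.1 hwC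
    have h' := h.pow_right 3
    rwa [← pow_mul, show 2 * 3 = 5 + 1 by norm_num, pow_succ, ← hbo, pow_orderOf_eq_one, one_mul] at h'
  obtain ⟨c, hc, hce⟩ := n.cent_b_invol (p := 5) (Or.inr rfl) hb hbo hwb
    (by rw [show g * t * g⁻¹ * (g * t * g⁻¹) = g * (t * t) * g⁻¹ by group, n.dd.pr.ht2, mul_one, mul_inv_cancel])
    (fun h => n.dd.pr.t_ne (conj_eq_one_iff.1 h))
  have hD : c * g ∈ centralizer ({t} : Set G) := mem_centralizer_singleton_iff.2 (mul_inv_eq_iff_eq_mul.1 (by
    calc c * g * t * (c * g)⁻¹ = c * (g * t * g⁻¹) * c⁻¹ := by group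
      _ = t := hce))
  have hcb : c * g * b * (c * g)⁻¹ = b ^ 2 := by
    calc c * g * b * (c * g)⁻¹ = c * (g * b * g⁻¹) * c⁻¹ := by group
      _ = c * b ^ 2 * c⁻¹ := by rw [e]
      _ = b ^ 2 := by
        rw [((show Commute c b from mem_centralizer_singleton_iff.1 hc).pow_right 2).eq, mul_inv_cancel_right]
  obtain ⟨v, hv, β, hβ, hvβ⟩ := n.dd.hdec _ hD
  have hb1 : β * b * β⁻¹ ∈ B := mul_mem (mul_mem hβ hb) (inv_mem hβ)
  rw [hvβ, show v * β * b * (v * β)⁻¹ = v * (β * b * β⁻¹) * v⁻¹ by group, n.dd.hcomm v hv _ hb1,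
    mul_inv_cancel_right] at hcb
  obtain ⟨eB⟩ := n.dd.hB
  have h5 : (eB ⟨b, hb⟩) ^ 5 = 1 := by
    rw [← map_pow, ← map_one eB]
    exact congrArg eB (Subtype.ext (show b ^ 5 = 1 by rw [← hbo, pow_orderOf_eq_one]))
  have h := a5_five_not_sq (eB ⟨b, hb⟩) (eB ⟨β, hβ⟩) h5 (by
    rw [← map_mul, ← map_inv, ← map_mul, ← map_pow]
    exact congrArg eB (Subtype.ext hcb))
  have hb' : b = 1 := congrArg Subtype.val (eB.injective (h.trans (map_one eB).symm))
  rw [hb', orderOf_one] at hbo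
  omega

theorem five_inv [Finite G] {b : G} (hb : b ∈ B) (hbo : orderOf b = 5) : IsConj b b⁻¹ := by
  obtain ⟨eB⟩ := n.dd.hB
  obtain ⟨c, hc⟩ := a5_five_inv (eB ⟨b, hb⟩) (by
    rw [← map_pow, ← map_one eB]
    exact congrArg eB (Subtype.ext (show b ^ 5 = 1 by rw [← hbo, pow_orderOf_eq_one])))
  refine isConj_iff.2 ⟨((eB.symm c : B) : G), ?_⟩
  have e : eB.symm c * ⟨b, hb⟩ * (eB.symm c)⁻¹ = ⟨b, hb⟩⁻¹ := eB.injective (by
    rw [map_mul, map_mul, map_inv, map_inv, eB.apply_symm_apply, hc])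
  exact congrArg Subtype.val e

end NData

/-- An element of order five conjugate into `B`. -/
def IsB5 (B : Subgroup G) (w : G) : Prop := orderOf w = 5 ∧ ∃ g : G, g * w * g⁻¹ ∈ B

namespace NData

variable {t : G} {V B K : Subgroup G} (n : NData z t Q V B K)
include n

theorem isB5_cent [Finite G] {x : G} (hx : IsB5 B x) :
    Nat.card (centralizer ({x} : Set G)) = 300 ∧
      (∃ φ : ↥(centralizer ({x} : Set G)) →* alternatingGroup (Fin 5),
        Function.Surjective φ ∧ ∀ y, φ y = 1 ↔ (y : G) ∈ zpowers x) ∧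
      (∀ g : G, g * x * g⁻¹ ≠ x ^ 2) ∧ IsConj x x⁻¹ := by
  obtain ⟨hxo, g, hg⟩ := hx
  set b := g * x * g⁻¹ with hb
  have hbo : orderOf b = 5 := ((MulAut.conj g).orderOf_eq x).trans hxo
  obtain ⟨h300, φ, hφs, hφk⟩ := n.five_B hg hbo
  have hcm : ∀ y, y ∈ centralizer ({x} : Set G) ↔ g * y * g⁻¹ ∈ centralizer ({b} : Set G) := fun y => by
    rw [hb, mem_centralizer_conj]
  let e : ↥(centralizer ({x} : Set G)) ≃* ↥(centralizer ({b} : Set G)) :=
    { toFun := fun y => ⟨g * y * g⁻¹, (hcm y).1 y.2⟩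
      invFun := fun y => ⟨g⁻¹ * y * g, (hcm _).2 (by rw [show g * (g⁻¹ * (y : G) * g) * g⁻¹ = y by group]; exact y.2)⟩
      left_inv := fun y => Subtype.ext (by show g⁻¹ * (g * y * g⁻¹) * g = y; group)
      right_inv := fun y => Subtype.ext (by show g * (g⁻¹ * y * g) * g⁻¹ = y; group)
      map_mul' := fun y y' => Subtype.ext (by show g * (y * y') * g⁻¹ = g * y * g⁻¹ * (g * y' * g⁻¹); group) }
  refine ⟨(Nat.card_congr e.toEquiv).trans h300, ⟨φ.comp e.toMonoidHom, hφs.comp e.surjective, fun y => ?_⟩,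
    fun k hk => n.five_not_sq hg hbo (g * k * g⁻¹) ?_, ?_⟩
  · show φ (e y) = 1 ↔ _
    rw [hφk]
    show g * (y : G) * g⁻¹ ∈ zpowers b ↔ _
    simp only [mem_zpowers_iff, hb, conj_zpow, mul_left_inj, mul_right_inj]
  · calc g * k * g⁻¹ * b * (g * k * g⁻¹)⁻¹ = g * (k * x * k⁻¹) * g⁻¹ := by rw [hb]; group
      _ = g * x ^ 2 * g⁻¹ := by rw [hk]
      _ = b ^ 2 := by rw [hb, conj_pow]
  · refine (isConj_conj g x).trans ((n.five_inv hg hbo).trans ?_)
    rw [hb, show (g * x * g⁻¹)⁻¹ = g * x⁻¹ * g⁻¹ by group]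
    exact (isConj_conj g x⁻¹).symm

theorem isB5_pow [Finite G] {x : G} (hx : IsB5 B x) {w : G} (hw : w ∈ zpowers x) (hw1 : w ≠ 1) : IsB5 B w := by
  haveI : Fact (Nat.Prime 5) := ⟨by norm_num⟩
  obtain ⟨hxo, g, hg⟩ := hx
  refine ⟨?_, g, ?_⟩
  · rw [← Nat.card_zpowers, zpowers_eq_of_prime hxo hw hw1, Nat.card_zpowers, hxo]
  · obtain ⟨k, rfl⟩ := mem_zpowers_iff.1 hw
    rw [← conj_zpow]
    exact zpow_mem hg k

theorem sylow_five [Finite G] (P : Sylow 5 G) :
    Nat.card P = 25 ∧ ∀ a ∈ (P : Subgroup G), ∀ b ∈ (P : Subgroup G), a * b = b * a := by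
  haveI : Fact (Nat.Prime 5) := ⟨by norm_num⟩
  have h := card_sylow_of_exact (p := 5) (k := 2) (by rw [n.card_G]; norm_num) (by rw [n.card_G]; norm_num) P
  refine ⟨h.trans (by norm_num), fun a ha b hb => ?_⟩
  exact congrArg Subtype.val (IsPGroup.commutative_of_card_eq_prime_sq h ⟨a, ha⟩ ⟨b, hb⟩)

theorem exists_isB5 [Finite G] (P : Sylow 5 G) : ∃ x ∈ (P : Subgroup G), IsB5 B x := by
  haveI : Fact (Nat.Prime 5) := ⟨by norm_num⟩
  obtain ⟨eB⟩ := n.dd.hB
  obtain ⟨b, hb⟩ := exists_prime_orderOf_dvd_card' (G := B) 5 (by rw [Nat.card_congr eB.toEquiv, a5_card]; norm_num)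
  have hbo : orderOf (b : G) = 5 := by rw [orderOf_coe, hb]
  obtain ⟨g, hg⟩ := CfsgLib.Transfer.exists_conj_mem_sylow P (S := zpowers (b : G))
    (IsPGroup.of_card (n := 1) (by rw [Nat.card_zpowers, hbo, pow_one]))
  refine ⟨g * b * g⁻¹, hg _ (mem_zpowers _), ((MulAut.conj g).orderOf_eq _).trans hbo, g⁻¹, ?_⟩
  rw [show g⁻¹ * (g * (b : G) * g⁻¹) * g⁻¹⁻¹ = b by group]
  exact b.2

/-- A Sylow 5-subgroup is its own centraliser. -/
theorem five_self_cent [Finite G] (P : Sylow 5 G) : centralizer ((P : Subgroup G) : Set G) = P := by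
  haveI : Fact (Nat.Prime 5) := ⟨by norm_num⟩
  obtain ⟨hPc, hab⟩ := n.sylow_five P
  obtain ⟨x, hxP, hx⟩ := n.exists_isB5 P
  set C := centralizer ({x} : Set G) with hC
  obtain ⟨φ, hφs, hφk⟩ : ∃ φ : C →* alternatingGroup (Fin 5),
      Function.Surjective φ ∧ ∀ y, φ y = 1 ↔ (y : G) ∈ zpowers x := (n.isB5_cent hx).2.1
  set CP := centralizer ((P : Subgroup G) : Set G) with hCP
  have hPCP : (P : Subgroup G) ≤ CP := fun a ha => mem_centralizer_iff.2 fun b hb => hab b hb a ha
  have hCPC : CP ≤ C := fun a ha => mem_centralizer_singleton_iff.2 (mem_centralizer_iff.1 ha x hxP).symm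
  refine (eq_of_le_of_card_ge hPCP ?_).symm
  rw [hPc]
  -- a nontrivial image of `P`
  obtain ⟨y, hyP, hy⟩ : ∃ y ∈ (P : Subgroup G), y ∉ zpowers x := by
    by_contra h
    push Not at h
    have hc := card_le_of_le (show (P : Subgroup G) ≤ zpowers x from h)
    rw [hPc, Nat.card_zpowers, hx.1] at hc
    omega
  set β := φ ⟨y, hCPC (hPCP hyP)⟩ with hβ
  have hβ1 : β ≠ 1 := fun h => hy ((hφk ⟨y, hCPC (hPCP hyP)⟩).1 h)
  have hβ5 : β ^ 5 = 1 := by
    have hd : orderOf β ∣ 5 ^ 2 := (orderOf_map_dvd φ _).trans (by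
      rw [← orderOf_coe]
      exact (Subgroup.orderOf_dvd_natCard _ hyP).trans (by rw [hPc]; norm_num))
    have h60 : orderOf β ∣ 60 := by rw [← a5_card]; exact orderOf_dvd_natCard β
    exact orderOf_dvd_iff_pow_eq_one.1 ((Nat.dvd_gcd hd h60).trans (dvd_of_eq (by norm_num)))
  let θ : CP →* alternatingGroup (Fin 5) := φ.comp (Subgroup.inclusion hCPC)
  have hrange : Nat.card θ.range ≤ 5 := by
    refine le_trans (card_le_of_le (K := centralizer ({β} : Set (alternatingGroup (Fin 5)))) ?_) ?_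
    · rintro _ ⟨a, rfl⟩
      rw [mem_centralizer_singleton_iff, hβ]
      show φ (Subgroup.inclusion hCPC a) * φ _ = _
      rw [← map_mul]
      refine Eq.trans ?_ (map_mul φ _ _)
      exact congrArg φ (Subtype.ext (mem_centralizer_iff.1 a.2 y hyP).symm)
    · rw [Nat.card_congr (Equiv.subtypeEquivRight fun x => mem_centralizer_singleton_iff), Nat.card_eq_fintype_card,
        a5_cent_five β hβ5 hβ1]
  have hker : Nat.card θ.ker ≤ 5 := by
    refine le_trans ?_ ((Nat.card_zpowers x).trans hx.1).le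
    refine Nat.card_le_card_of_injective
      (fun a : θ.ker => (⟨((a : CP) : G), (hφk _).1 a.2⟩ : zpowers x)) fun a b h => ?_
    exact Subtype.ext (Subtype.ext (congrArg Subtype.val h :))
  have h := card_mul_index θ.ker
  rw [index_ker] at h
  nlinarith

/-- The normalizer of a Sylow 5-subgroup inside a subgroup of order `50 * m`. -/
theorem five_norm_in [Finite G] (P : Sylow 5 G) {x : G} (hxP : x ∈ (P : Subgroup G)) (hx : IsB5 B x)
    {H : Subgroup G} (hCH : centralizer ({x} : Set G) ≤ H) (hH : Nat.card H = 300 ∨ Nat.card H = 600) :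
    Nat.card ↥(H ⊓ normalizer ((P : Subgroup G) : Set G)) * 6 = Nat.card H := by
  haveI : Fact (Nat.Prime 5) := ⟨by norm_num⟩
  obtain ⟨hPc, hab⟩ := n.sylow_five P
  set C := centralizer ({x} : Set G) with hC
  obtain ⟨φ, hφs, hφk⟩ : ∃ φ : C →* alternatingGroup (Fin 5),
      Function.Surjective φ ∧ ∀ y, φ y = 1 ↔ (y : G) ∈ zpowers x := (n.isB5_cent hx).2.1
  have hPC : (P : Subgroup G) ≤ C := fun a ha => mem_centralizer_singleton_iff.2 (hab a ha x hxP)
  set P' := P.subtype (hPC.trans hCH) with hP'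
  have hnn : Nat.card ↥(H ⊓ normalizer ((P : Subgroup G) : Set G)) =
      Nat.card ↥(normalizer ((P' : Subgroup H) : Set H)) := by
    refine Nat.card_congr
      { toFun := fun a => ⟨⟨a, a.2.1⟩, mem_normalizer_iff.2 fun y => mem_normalizer_iff.1 a.2.2 y⟩
        invFun := fun a => ⟨(a : H), (a : H).2, mem_normalizer_iff.2 fun y => ?_⟩
        left_inv := fun _ => rfl
        right_inv := fun _ => rfl }
    constructor
    · intro hy
      exact (mem_normalizer_iff.1 a.2 ⟨y, hCH (hPC hy)⟩).1 hy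
    · intro hy
      have hyH : y ∈ H := by
        have := mul_mem (mul_mem (inv_mem (a : H).2) (hCH (hPC hy))) (a : H).2
        rwa [show ((a : H) : G)⁻¹ * ((a : H) * y * ((a : H) : G)⁻¹) * (a : H) = y by group] at this
      exact (mem_normalizer_iff.1 a.2 ⟨y, hyH⟩).2 hy
  have h1 := card_mul_index (normalizer ((P' : Subgroup H) : Set H))
  rw [← show Nat.card (Sylow 5 H) = (normalizer ((P' : Subgroup H) : Set H)).index from
    Sylow.card_eq_index_normalizer P', ← hnn] at h1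
  have h2 := P'.card_dvd_index
  have h3 := card_mul_index (P' : Subgroup H)
  have hP'c : Nat.card (P' : Subgroup H) = 25 := by
    rw [hP', Sylow.coe_subtype, Nat.card_congr (subgroupOfEquivOfLe (hPC.trans hCH)).toEquiv, hPc]
  rw [hP'c] at h3
  have h4 : Nat.card (Sylow 5 H) % 5 = 1 := card_sylow_modEq_one 5 H
  have h5 : Nat.card (Sylow 5 H) ≠ 1 := by
    intro h
    haveI : Subsingleton (Sylow 5 H) := (Nat.card_eq_one_iff_unique.1 h).1
    haveI hn := P'.normal_of_subsingleton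
    -- a normal subgroup of `A₅` of order five
    set M := (((P : Subgroup G).subgroupOf C)).map φ with hM
    haveI hMC : ((P : Subgroup G).subgroupOf C).Normal := ⟨fun a ha g =>
      hn.conj_mem ⟨a, hCH a.2⟩ ha ⟨g, hCH g.2⟩⟩
    haveI := a5_simple
    rcases (hMC.map φ hφs).eq_bot_or_eq_top with hb | ht
    · have hle : (P : Subgroup G) ≤ zpowers x := fun a ha => (hφk ⟨a, hPC ha⟩).1 (by
        rw [← mem_bot, ← hb]; exact ⟨⟨a, hPC ha⟩, ha, rfl⟩)
      have hc := card_le_of_le hle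
      rw [hPc, Nat.card_zpowers, hx.1] at hc
      omega
    · have hd := ((P : Subgroup G).subgroupOf C).card_map_dvd φ
      rw [ht, card_top, a5_card, Nat.card_congr (subgroupOfEquivOfLe hPC).toEquiv, hPc] at hd
      norm_num at hd
  have h6 : Nat.card (Sylow 5 H) = 6 := by
    set s := Nat.card (Sylow 5 H) with hs
    rcases hH with hH | hH <;> rw [hH] at h3
    · have hidx : (P' : Subgroup H).index = 12 := by omega
      rw [hidx] at h2
      have := Nat.le_of_dvd (by norm_num) h2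
      interval_cases s <;> omega
    · have hidx : (P' : Subgroup H).index = 24 := by omega
      rw [hidx] at h2
      have := Nat.le_of_dvd (by norm_num) h2
      interval_cases s <;> omega
  rw [h6] at h1
  exact h1

theorem five_norm_line [Finite G] {x : G} (hx : IsB5 B x) :
    Nat.card (normalizer (zpowers x : Set G)) = 600 ∧ centralizer ({x} : Set G) ≤ normalizer (zpowers x : Set G) := by
  classical
  haveI := Fintype.ofFinite G
  haveI : Fact (Nat.Prime 5) := ⟨by norm_num⟩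
  obtain ⟨h300, -, hsq, hinv⟩ := n.isB5_cent hx
  have hx1 : x ≠ 1 := fun h => by have := hx.1; rw [h, orderOf_one] at this; omega
  set N := normalizer (zpowers x : Set G) with hN
  have hmemN : ∀ g, g * x * g⁻¹ ∈ zpowers x → g ∈ N := fun g hg => by
    have hg1 : g * x * g⁻¹ ≠ 1 := fun h => hx1 (conj_eq_one_iff.1 h)
    refine mem_normalizer_iff.2 fun y => ⟨?_, fun hy => ?_⟩
    · intro hy
      obtain ⟨k, rfl⟩ := mem_zpowers_iff.1 hy
      rw [← conj_zpow]
      exact zpow_mem hg k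
    · rw [← zpowers_eq_of_prime hx.1 hg hg1] at hy
      obtain ⟨k, hk⟩ := mem_zpowers_iff.1 hy
      rw [conj_zpow] at hk
      exact ⟨k, mul_left_cancel (mul_right_cancel hk)⟩
  have hCN : centralizer ({x} : Set G) ≤ N := fun g hg => hmemN g (by
    rw [mul_inv_eq_iff_eq_mul.2 (mem_centralizer_singleton_iff.1 hg)]; exact mem_zpowers x)
  refine ⟨?_, hCN⟩
  have hxN : x ∈ N := hCN (mem_centralizer_singleton_iff.2 rfl)
  have h := card_class_mul hxN
  rw [inf_eq_right.2 hCN, h300] at h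
  have hcls : Nat.card {y : G // ∃ m ∈ N, m * x * m⁻¹ = y} = 2 := by
    rw [Nat.card_eq_fintype_card, Fintype.card_subtype,
      show (Finset.univ.filter fun y => ∃ m ∈ N, m * x * m⁻¹ = y) = {x, x⁻¹} from ?_, Finset.card_pair ?_]
    · intro h
      have hd := orderOf_dvd_of_pow_eq_one (show x ^ 2 = 1 by
        rw [pow_two]; nth_rewrite 2 [h]; rw [mul_inv_cancel])
      rw [hx.1] at hd
      norm_num at hd
    · ext y
      simp only [Finset.mem_filter, Finset.mem_univ, true_and, Finset.mem_insert, Finset.mem_singleton]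
      constructor
      · rintro ⟨m, hm, rfl⟩
        obtain ⟨k, hk5, hk⟩ : ∃ k, k < 5 ∧ x ^ k = m * x * m⁻¹ := by
          have hmem := (mem_normalizer_iff.1 hm x).1 (mem_zpowers x)
          rw [← mem_powers_iff_mem_zpowers, Submonoid.mem_powers_iff] at hmem
          obtain ⟨k, hk⟩ := hmem
          refine ⟨k % 5, Nat.mod_lt _ (by norm_num), ?_⟩
          rw [← hk]
          conv_rhs => rw [← pow_mod_orderOf, hx.1]
        interval_cases k
        · rw [pow_zero] at hk; exact absurd (conj_eq_one_iff.1 hk.symm) hx1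
        · left; rw [← hk, pow_one]
        · exact absurd hk.symm (hsq m)
        · exfalso
          refine hsq m⁻¹ ?_
          have h6 : (x ^ 3) ^ 2 = x := by
            rw [← pow_mul, show 3 * 2 = 5 + 1 by norm_num, pow_succ, ← hx.1, pow_orderOf_eq_one, one_mul]
          calc m⁻¹ * x * m⁻¹⁻¹ = m⁻¹ * (x ^ 3) ^ 2 * m⁻¹⁻¹ := by rw [h6]
            _ = (m⁻¹ * x ^ 3 * m⁻¹⁻¹) ^ 2 := conj_pow.symm
            _ = x ^ 2 := by rw [hk]; group
        · right
          rw [← hk]
          refine eq_inv_of_mul_eq_one_left ?_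
          rw [← pow_succ, show 4 + 1 = orderOf x by rw [hx.1], pow_orderOf_eq_one]
      · rintro (rfl | rfl)
        · exact ⟨1, one_mem _, by simp⟩
        · obtain ⟨g, hg⟩ := isConj_iff.1 hinv
          exact ⟨g, hmemN g (hg ▸ inv_mem (mem_zpowers x)), hg⟩
  rw [hcls] at h
  exact h.symm

end NData

end CfsgLib.HJType
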