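import Mathlib
import Cfsg.Agent.Lib.HJType.FiveB
import Cfsg.Agent.Lib.Transfer.Frobenius

/-!
Groups of Hall-Janko type: the normalizer of a Sylow 5-subgroup and the two classes of subgroups of order five.
-/

set_option autoImplicit false
set_option linter.style.haveILetI false
set_option linter.unusedSectionVars false

namespace CfsgLib.HJType

open Subgroup

variable {G : Type*} [Group G] {z : G} {Q : Subgroup G}

/-- The elements of a subgroup of order five are powers `x ^ 1, …, x ^ 4` of a nontrivial one, or trivial. -/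
theorem five_powers [Finite G] {x w : G} (hx : orderOf x = 5) (hw : w ∈ zpowers x) (hw1 : w ≠ 1) :
    w = x ∨ w = x ^ 2 ∨ w = x⁻¹ ^ 2 ∨ w = x⁻¹ := by
  rw [← mem_powers_iff_mem_zpowers, Submonoid.mem_powers_iff] at hw
  obtain ⟨k, rfl⟩ := hw
  have h5 : x ^ 5 = 1 := by rw [← hx, pow_orderOf_eq_one]
  have e : x ^ k = x ^ (k % 5) := by rw [← hx, pow_mod_orderOf]
  rw [e] at hw1 ⊢
  have hlt : k % 5 < 5 := Nat.mod_lt _ (by norm_num)
  interval_cases hk : k % 5
  · exact absurd (pow_zero x) hw1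
  · exact Or.inl (pow_one x)
  · exact Or.inr (Or.inl rfl)
  · refine Or.inr (Or.inr (Or.inl ?_))
    rw [inv_pow]
    exact eq_inv_of_mul_eq_one_left (by rw [← pow_add, h5])
  · refine Or.inr (Or.inr (Or.inr ?_))
    exact eq_inv_of_mul_eq_one_left (by rw [← pow_succ, h5])

/-- An element of order three normalising a subgroup of order five centralises it. -/
theorem comm_of_three_five [Finite G] {g w : G} (hg : orderOf g = 3) (hw : orderOf w = 5)
    (h : g * w * g⁻¹ ∈ zpowers w) : g * w = w * g := by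
  have hg3 : g ^ 3 = 1 := by rw [← hg, pow_orderOf_eq_one]
  rw [← mem_powers_iff_mem_zpowers, Submonoid.mem_powers_iff] at h
  obtain ⟨k, hk⟩ := h
  have e : ∀ m : ℕ, g ^ m * w * (g ^ m)⁻¹ = w ^ k ^ m := by
    intro m
    induction m with
    | zero => simp
    | succ m ih =>
      calc g ^ (m + 1) * w * (g ^ (m + 1))⁻¹ = g * (g ^ m * w * (g ^ m)⁻¹) * g⁻¹ := by rw [pow_succ']; group
        _ = (g * w * g⁻¹) ^ k ^ m := by rw [ih, conj_pow]
        _ = w ^ k ^ (m + 1) := by rw [← hk, ← pow_mul, ← pow_succ']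
  have h3 := e 3
  rw [hg3, one_mul, inv_one, mul_one] at h3
  have hmod : 1 ≡ k ^ 3 [MOD 5] := by
    rw [← hw, ← pow_eq_pow_iff_modEq, pow_one]
    exact h3
  have hk1 : k % 5 = 1 := by
    have h' : (k % 5) ^ 3 % 5 = 1 := by rw [← Nat.pow_mod]; exact hmod.symm
    have hlt : k % 5 < 5 := Nat.mod_lt _ (by norm_num)
    interval_cases hk5 : k % 5 <;> first | rfl | (norm_num at h')
  refine mul_inv_eq_iff_eq_mul.1 ?_
  rw [← hk, ← pow_mod_orderOf, hw, hk1, pow_one]

namespace NData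

variable {t : G} {V B K : Subgroup G} (n : NData z t Q V B K)
include n

theorem isB5_conj {w : G} (hw : IsB5 B w) (g : G) : IsB5 B (g * w * g⁻¹) := by
  obtain ⟨h5, k, hk⟩ := hw
  refine ⟨((MulAut.conj g).orderOf_eq w).trans h5, k * g⁻¹, ?_⟩
  rwa [show k * g⁻¹ * (g * w * g⁻¹) * (k * g⁻¹)⁻¹ = k * w * k⁻¹ by group]

theorem five_fusion [Finite G] (P : Sylow 5 G) {x w : G} (hxP : x ∈ (P : Subgroup G)) (hx : IsB5 B x)
    (hwP : w ∈ (P : Subgroup G)) (hw : IsB5 B w) :
    ∃ g ∈ normalizer ((P : Subgroup G) : Set G), g * w * g⁻¹ ∈ zpowers x := by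
  haveI : Fact (Nat.Prime 5) := ⟨by norm_num⟩
  obtain ⟨eB⟩ := n.dd.hB
  obtain ⟨hPc, hab⟩ := n.sylow_five P
  obtain ⟨hxo, g0, hg0⟩ := hx
  obtain ⟨hwo, g1, hg1⟩ := hw
  have hb0 : orderOf (g0 * x * g0⁻¹) = 5 := ((MulAut.conj g0).orderOf_eq x).trans hxo
  have hb1 : orderOf (g1 * w * g1⁻¹) = 5 := ((MulAut.conj g1).orderOf_eq w).trans hwo
  obtain ⟨c, -, hc⟩ := exists_conj_into (K := B) (p := 5) (n := 1) (zpowers_le.2 hg0)
    (by rw [Nat.card_zpowers, hb0, pow_one]) (by rw [Nat.card_congr eB.toEquiv, a5_card]; norm_num)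
    (zpowers_le.2 hg1) (IsPGroup.of_card (n := 1) (by rw [Nat.card_zpowers, hb1, pow_one]))
  set g := g0⁻¹ * c * g1 with hg
  have hgw : g * w * g⁻¹ ∈ zpowers x := by
    obtain ⟨k, hk⟩ := mem_zpowers_iff.1 (hc _ (mem_zpowers _))
    refine ⟨k, ?_⟩
    rw [conj_zpow] at hk
    calc x ^ k = g0⁻¹ * (g0 * x ^ k * g0⁻¹) * g0 := by group
      _ = g0⁻¹ * (c * (g1 * w * g1⁻¹) * c⁻¹) * g0 := by rw [hk]
      _ = g * w * g⁻¹ := by rw [hg]; group
  have hw1 : g * w * g⁻¹ ≠ 1 := fun h => by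
    rw [conj_eq_one_iff.1 h, orderOf_one] at hwo; omega
  set C := centralizer ({g * w * g⁻¹} : Set G) with hC
  have hPC : (P : Subgroup G) ≤ C := fun a ha => mem_centralizer_singleton_iff.2
    (hab a ha _ (zpowers_le.2 hxP hgw))
  set A := (P : Subgroup G).map (MulAut.conj g).toMonoidHom with hA
  have hAC : A ≤ C := by
    rintro _ ⟨a, ha, rfl⟩
    show g * a * g⁻¹ ∈ centralizer ({g * w * g⁻¹} : Set G)
    rw [mem_centralizer_conj]
    exact mem_centralizer_singleton_iff.2 (hab a ha w hwP)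
  have hAc : Nat.card A = 5 ^ 2 := by
    rw [← Nat.card_congr ((P : Subgroup G).equivMapOfInjective _ (MulAut.conj g).injective).toEquiv, hPc]
    norm_num
  obtain ⟨d, hd, hdA⟩ := exists_conj_eq hPC (by rw [hPc]; norm_num)
    (fun h => by
      have := h.trans (card_subgroup_dvd_card C)
      rw [n.card_G] at this
      norm_num at this) hAC hAc
  refine ⟨d * g, mem_normalizer_iff.2 fun a => ?_, ?_⟩
  · rw [show d * g * a * (d * g)⁻¹ = d * (g * a * g⁻¹) * d⁻¹ by group, hdA, hA]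
    exact (mem_map_iff_mem (f := (MulAut.conj g).toMonoidHom) (MulAut.conj g).injective).symm
  · rw [show d * g * w * (d * g)⁻¹ = d * (g * w * g⁻¹) * d⁻¹ by group, mem_centralizer_singleton_iff.1 hd,
      mul_inv_cancel_right]
    exact hgw

set_option maxHeartbeats 800000 in
/-- The normalizer of a Sylow 5-subgroup and the class of the elements conjugate into `B`. -/
theorem five_norm [Finite G] (P : Sylow 5 G) :
    Nat.card (normalizer ((P : Subgroup G) : Set G)) = 300 ∧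
      Nat.card {w : G // w ∈ (P : Subgroup G) ∧ IsB5 B w} = 12 := by
  classical
  haveI := Fintype.ofFinite G
  haveI : Fact (Nat.Prime 5) := ⟨by norm_num⟩
  obtain ⟨hPc, hab⟩ := n.sylow_five P
  obtain ⟨x, hxP, hx⟩ := n.exists_isB5 P
  obtain ⟨h300, -, hsq, hinv⟩ := n.isB5_cent hx
  obtain ⟨h600, hCN⟩ := n.five_norm_line hx
  set N := normalizer ((P : Subgroup G) : Set G) with hN
  set C := centralizer ({x} : Set G) with hC
  have hC50 : Nat.card ↥(C ⊓ N) = 50 := by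
    have := n.five_norm_in P hxP hx (le_refl C) (Or.inl h300)
    exact Nat.eq_of_mul_eq_mul_right (by norm_num : 0 < 6) (this.trans h300)
  have hL100 : Nat.card ↥(normalizer (zpowers x : Set G) ⊓ N) = 100 := by
    have := n.five_norm_in P hxP hx hCN (Or.inr h600)
    exact Nat.eq_of_mul_eq_mul_right (by norm_num : 0 < 6) (this.trans h600)
  -- an element of `N` inverting `x`
  obtain ⟨a, haN, hax⟩ : ∃ a ∈ N, a * x * a⁻¹ = x⁻¹ := by
    by_contra h
    push Not at h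
    have hle : normalizer (zpowers x : Set G) ⊓ N ≤ C ⊓ N := by
      intro a ha
      refine mem_inf.2 ⟨?_, ha.2⟩
      have hmem := (mem_normalizer_iff.1 ha.1 x).1 (mem_zpowers x)
      have hx1 : x ≠ 1 := fun e => by have := hx.1; rw [e, orderOf_one] at this; omega
      have hne : a * x * a⁻¹ ≠ 1 := fun e => hx1 (conj_eq_one_iff.1 e)
      rcases five_powers hx.1 hmem hne with e | e | e | e
      · exact mem_centralizer_singleton_iff.2 (mul_inv_eq_iff_eq_mul.1 e)
      · exact absurd e (hsq a)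
      · exfalso
        obtain ⟨g, hg⟩ := isConj_iff.1 hinv
        refine hsq (g * a) ?_
        calc g * a * x * (g * a)⁻¹ = g * (a * x * a⁻¹) * g⁻¹ := by group
          _ = g * x⁻¹ ^ 2 * g⁻¹ := by rw [e]
          _ = (g * x * g⁻¹)⁻¹ ^ 2 := by rw [← conj_pow]; group
          _ = x ^ 2 := by rw [hg, inv_inv]
      · exact absurd e (h a ha.2)
    have := card_le_of_le hle
    omega
  have hNxP : x ∈ N := le_normalizer hxP
  have h := card_class_mul hNxP
  rw [inf_comm N, hC50] at h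
  set O := Finset.univ.filter (fun y => ∃ m ∈ N, m * x * m⁻¹ = y) with hO
  have hOc : Nat.card {y : G // ∃ m ∈ N, m * x * m⁻¹ = y} = O.card := by
    rw [Nat.card_eq_fintype_card, Fintype.card_subtype]
  rw [hOc] at h
  set W := Finset.univ.filter (fun w => w ∈ (P : Subgroup G) ∧ IsB5 B w) with hW
  have hWc : Nat.card {w : G // w ∈ (P : Subgroup G) ∧ IsB5 B w} = W.card := by
    rw [Nat.card_eq_fintype_card, Fintype.card_subtype]
  have hOW : O ⊆ W := by
    intro y hy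
    obtain ⟨m, hm, rfl⟩ := (Finset.mem_filter.1 hy).2
    exact Finset.mem_filter.2 ⟨Finset.mem_univ _, (mem_normalizer_iff.1 hm x).1 hxP, n.isB5_conj hx m⟩
  -- squaring
  have hsqinj : Set.InjOn (fun w : G => w ^ 2) (W : Set G) := by
    intro u hu v hv e
    have hu5 := ((Finset.mem_filter.1 (Finset.mem_coe.1 hu)).2.2).1
    have hv5 := ((Finset.mem_filter.1 (Finset.mem_coe.1 hv)).2.2).1
    have e' : u ^ 2 = v ^ 2 := e
    calc u = u ^ (5 + 1) := by rw [pow_succ, ← hu5, pow_orderOf_eq_one, one_mul]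
      _ = (u ^ 2) ^ 3 := by rw [← pow_mul]
      _ = (v ^ 2) ^ 3 := by rw [e']
      _ = v := by rw [← pow_mul, show 2 * 3 = 5 + 1 by norm_num, pow_succ, ← hv5, pow_orderOf_eq_one, one_mul]
  have hsqW : ∀ u ∈ W, u ^ 2 ∈ W := fun u hu => by
    obtain ⟨huP, hu5⟩ := (Finset.mem_filter.1 hu).2
    refine Finset.mem_filter.2 ⟨Finset.mem_univ _, pow_mem huP 2, n.isB5_pow hu5 (pow_mem (mem_zpowers u) 2) ?_⟩
    intro e
    have := orderOf_dvd_of_pow_eq_one e
    rw [hu5.1] at this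
    norm_num at this
  set O2 := O.image (fun w : G => w ^ 2) with hO2
  have hO2c : O2.card = O.card := Finset.card_image_of_injOn (hsqinj.mono (Finset.coe_subset.2 hOW))
  have hdisj : Disjoint O O2 := by
    rw [Finset.disjoint_left]
    intro y hy hy2
    obtain ⟨m, hm, rfl⟩ := (Finset.mem_filter.1 hy).2
    obtain ⟨u, hu, hu2⟩ := Finset.mem_image.1 hy2
    obtain ⟨m', hm', rfl⟩ := (Finset.mem_filter.1 hu).2
    refine hsq (m'⁻¹ * m) ?_
    calc m'⁻¹ * m * x * (m'⁻¹ * m)⁻¹ = m'⁻¹ * (m * x * m⁻¹) * m' := by group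
      _ = m'⁻¹ * (m' * x * m'⁻¹) ^ 2 * m' := by rw [hu2]
      _ = x ^ 2 := by rw [conj_pow]; group
  have hsub : O ∪ O2 ⊆ W := by
    intro y hy
    rcases Finset.mem_union.1 hy with h' | h'
    · exact hOW h'
    · obtain ⟨u, hu, rfl⟩ := Finset.mem_image.1 h'
      exact hsqW u (hOW hu)
  have hWle : W ⊆ O ∪ O2 := by
    intro w hw
    obtain ⟨hwP, hw5⟩ := (Finset.mem_filter.1 hw).2
    obtain ⟨g, hg, hgw⟩ := n.five_fusion P hxP hx hwP hw5
    have hne : g * w * g⁻¹ ≠ 1 := fun e => by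
      have := hw5.1
      rw [conj_eq_one_iff.1 e, orderOf_one] at this; omega
    have hback : ∀ u ∈ O, g⁻¹ * u * g ∈ O := fun u hu => by
      obtain ⟨m, hm, rfl⟩ := (Finset.mem_filter.1 hu).2
      exact Finset.mem_filter.2 ⟨Finset.mem_univ _, g⁻¹ * m, mul_mem (inv_mem hg) hm, by group⟩
    have hxO : x ∈ O := Finset.mem_filter.2 ⟨Finset.mem_univ _, 1, one_mem _, by simp⟩
    have hxO' : x⁻¹ ∈ O := Finset.mem_filter.2 ⟨Finset.mem_univ _, a, haN, hax⟩
    have hwe : w = g⁻¹ * (g * w * g⁻¹) * g := by group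
    rcases five_powers hx.1 hgw hne with e | e | e | e <;> rw [e] at hwe <;> rw [hwe, Finset.mem_union]
    · exact Or.inl (hback x hxO)
    · exact Or.inr (Finset.mem_image.2 ⟨_, hback x hxO, by
        rw [show g⁻¹ * x * g = g⁻¹ * x * g⁻¹⁻¹ by rw [inv_inv], conj_pow, inv_inv]⟩)
    · exact Or.inr (Finset.mem_image.2 ⟨_, hback _ hxO', by
        rw [show g⁻¹ * x⁻¹ * g = g⁻¹ * x⁻¹ * g⁻¹⁻¹ by rw [inv_inv], conj_pow, inv_inv]⟩)
    · exact Or.inl (hback _ hxO')
  have hW2 : W.card = 2 * O.card := by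
    rw [Finset.Subset.antisymm hWle hsub, Finset.card_union_of_disjoint hdisj, hO2c, two_mul]
  have hW24 : W.card ≤ 24 := by
    have h24 : ((Finset.univ.filter fun y => y ∈ (P : Subgroup G)).erase 1).card = 24 := by
      rw [Finset.card_erase_of_mem (Finset.mem_filter.2 ⟨Finset.mem_univ _, one_mem _⟩), ← Fintype.card_subtype,
        ← Nat.card_eq_fintype_card, hPc]
    rw [← h24]
    refine Finset.card_le_card fun w hw => ?_
    obtain ⟨hwP, hw5⟩ := (Finset.mem_filter.1 hw).2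
    refine Finset.mem_erase.2 ⟨fun e => ?_, Finset.mem_filter.2 ⟨Finset.mem_univ _, hwP⟩⟩
    have := hw5.1
    rw [e, orderOf_one] at this; omega
  have hN50 : 100 ∣ Nat.card N := hL100 ▸ card_dvd_of_le inf_le_right
  have hidx := card_mul_index N
  have hn5 : Nat.card (Sylow 5 G) % 5 = 1 := card_sylow_modEq_one 5 G
  rw [show Nat.card (Sylow 5 G) = N.index from Sylow.card_eq_index_normalizer P] at hn5
  rw [n.card_G] at hidx
  rw [← h] at hidx hN50
  obtain ⟨r, hr⟩ := hN50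
  have hr' : O.card = 2 * r := by omega
  have hO6 : O.card = 6 := by
    have hr6 : r ≤ 6 := by omega
    rw [hr'] at hidx ⊢
    interval_cases r <;> omega
  refine ⟨by rw [← h, hO6], ?_⟩
  rw [hWc, hW2, hO6]

/-- An element of order three of the normalizer of a Sylow 5-subgroup fixes no nontrivial element of it. -/
theorem three_no_fix [Finite G] (P : Sylow 5 G) {g w : G} (hg : g ∈ normalizer ((P : Subgroup G) : Set G))
    (hg3 : orderOf g = 3) (hw : w ∈ (P : Subgroup G)) (hc : g * w = w * g) : w = 1 := by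
  classical
  haveI := Fintype.ofFinite G
  haveI : Fact (Nat.Prime 3) := ⟨Nat.prime_three⟩
  haveI : Fact (Nat.Prime 5) := ⟨by norm_num⟩
  obtain ⟨hPc, hab⟩ := n.sylow_five P
  by_contra hw1
  have hgP : g ∉ centralizer ((P : Subgroup G) : Set G) := by
    rw [n.five_self_cent P]
    intro h
    have := Subgroup.orderOf_dvd_natCard _ h
    rw [hPc, hg3] at this
    norm_num at this
  let σ : Equiv.Perm G := MulAut.toPerm G (MulAut.conj g)
  have hσ : σ ^ 3 = 1 := by rw [← map_pow, ← map_pow, ← hg3, pow_orderOf_eq_one, map_one, map_one]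
  have hσx : ∀ a, σ a = g * a * g⁻¹ := fun a => rfl
  have hm := card_modEq_fixed_of_invariant σ hσ (fun a => a ∈ (P : Subgroup G)) fun a => by
    rw [hσx]; exact ((mem_normalizer_iff.1 hg) a).symm
  rw [show Nat.card {a // a ∈ (P : Subgroup G)} = 25 from hPc] at hm
  set F := (P : Subgroup G) ⊓ centralizer ({g} : Set G) with hF
  have hFc : Nat.card {a : G // a ∈ (P : Subgroup G) ∧ σ a = a} = Nat.card F :=
    Nat.card_congr (Equiv.subtypeEquivRight fun a => and_congr Iff.rfl (by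
      rw [hσx]
      refine Iff.trans ?_ mem_centralizer_singleton_iff.symm
      exact mul_inv_eq_iff_eq_mul.trans ⟨fun h => h.symm, fun h => h.symm⟩))
  rw [hFc] at hm
  obtain ⟨k, hk2, hk⟩ := (Nat.dvd_prime_pow (p := 5) (by norm_num)).1
    (show Nat.card F ∣ 5 ^ 2 by rw [show 5 ^ 2 = 25 from rfl, ← hPc]; exact card_dvd_of_le inf_le_left)
  have hF0 : Nat.card F ≠ 1 := fun h => by
    have hwF : w ∈ F := mem_inf.2 ⟨hw, mem_centralizer_singleton_iff.2 hc.symm⟩
    rw [card_eq_one.1 h, mem_bot] at hwF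
    exact hw1 hwF
  have hF2 : Nat.card F ≠ 25 := fun h => by
    have hFP : F = (P : Subgroup G) := eq_of_le_of_card_ge inf_le_left (by rw [h, hPc])
    refine hgP (mem_centralizer_iff.2 fun a ha => ?_)
    exact mem_centralizer_singleton_iff.1 (hFP.symm ▸ ha : a ∈ F).2
  rw [hk] at hm hF0 hF2
  unfold Nat.ModEq at hm
  interval_cases k <;> omega

/-- The subgroups of order five in `P` not conjugate into `B` form one orbit. -/
theorem five_other [Finite G] (P : Sylow 5 G) {y w : G} (hy : y ∈ (P : Subgroup G)) (hy1 : y ≠ 1)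
    (hyB : ¬ IsB5 B y) (hw : w ∈ (P : Subgroup G)) (hw1 : w ≠ 1) (hwB : ¬ IsB5 B w) :
    ∃ g : G, g * w * g⁻¹ ∈ zpowers y := by
  classical
  haveI := Fintype.ofFinite G
  haveI : Fact (Nat.Prime 3) := ⟨Nat.prime_three⟩
  haveI : Fact (Nat.Prime 5) := ⟨by norm_num⟩
  obtain ⟨hPc, hab⟩ := n.sylow_five P
  obtain ⟨h300, h12⟩ := n.five_norm P
  set N := normalizer ((P : Subgroup G) : Set G) with hN
  obtain ⟨g0, hg0⟩ := exists_prime_orderOf_dvd_card' (G := N) 3 (by rw [h300]; norm_num)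
  set g : G := (g0 : G) with hg
  have hg3 : orderOf g = 3 := by rw [hg, orderOf_coe, hg0]
  have hgN : g ∈ N := g0.2
  have hord : ∀ u ∈ (P : Subgroup G), u ≠ 1 → ¬ IsB5 B u → orderOf u = 5 := by
    intro u hu hu1 _
    let T : Subgroup G :=
      { carrier := {a | a ∈ (P : Subgroup G) ∧ a ^ 5 = 1}
        one_mem' := ⟨one_mem _, one_pow 5⟩
        mul_mem' := fun {a b} ha hb => ⟨mul_mem ha.1 hb.1, by
          rw [(show Commute a b from hab a ha.1 b hb.1).mul_pow, ha.2, hb.2, one_mul]⟩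
        inv_mem' := fun {a} ha => ⟨inv_mem ha.1, by rw [inv_pow, ha.2, inv_one]⟩ }
    have hT : T ≤ (P : Subgroup G) := fun a ha => ha.1
    have hge : 12 ≤ Nat.card T := by
      rw [← h12]
      refine Nat.card_le_card_of_injective
        (fun a => (⟨a.1, a.2.1, orderOf_dvd_iff_pow_eq_one.1 (dvd_of_eq a.2.2.1)⟩ : T)) fun a b h => ?_
      exact Subtype.ext (congrArg Subtype.val h :)
    obtain ⟨k, hk2, hk⟩ := (Nat.dvd_prime_pow (p := 5) (by norm_num)).1
      (show Nat.card T ∣ 5 ^ 2 by rw [show 5 ^ 2 = 25 from rfl, ← hPc]; exact card_dvd_of_le hT)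
    have hTP : T = (P : Subgroup G) := eq_of_le_of_card_ge hT (by
      rw [hPc, hk]
      rw [hk] at hge
      interval_cases k <;> omega)
    exact orderOf_eq_prime (hTP.symm ▸ hu : u ∈ T).2 hu1
  have hy5 := hord y hy hy1 hyB
  set R := Finset.univ.filter (fun u => u ∈ (P : Subgroup G) ∧ u ≠ 1 ∧ ¬ IsB5 B u) with hR
  have hRc : R.card = 12 := by
    have h24 : ((Finset.univ.filter fun u => u ∈ (P : Subgroup G)).erase 1).card = 24 := by
      rw [Finset.card_erase_of_mem (Finset.mem_filter.2 ⟨Finset.mem_univ _, one_mem _⟩), ← Fintype.card_subtype,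
        ← Nat.card_eq_fintype_card, hPc]
    have h12' : (Finset.univ.filter fun u => u ∈ (P : Subgroup G) ∧ IsB5 B u).card = 12 := by
      rw [← h12, Nat.card_eq_fintype_card, Fintype.card_subtype]
    have e : R = ((Finset.univ.filter fun u => u ∈ (P : Subgroup G)).erase 1) \
        (Finset.univ.filter fun u => u ∈ (P : Subgroup G) ∧ IsB5 B u) := by
      ext u; simp [hR]; tauto
    rw [e, Finset.card_sdiff_of_subset, h24, h12']
    intro u hu
    obtain ⟨huP, hu5⟩ := (Finset.mem_filter.1 hu).2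
    refine Finset.mem_erase.2 ⟨fun e => ?_, Finset.mem_filter.2 ⟨Finset.mem_univ _, huP⟩⟩
    have := hu5.1
    rw [e, orderOf_one] at this; omega
  -- the three lines through the conjugates of `y`
  let M : Fin 3 × Fin 4 → G := fun q => g ^ (q.1 : ℕ) * y ^ ((q.2 : ℕ) + 1) * (g ^ (q.1 : ℕ))⁻¹
  have hyne : ∀ j : Fin 4, y ^ ((j : ℕ) + 1) ≠ 1 := fun j h => by
    have hd := orderOf_dvd_of_pow_eq_one h
    rw [hy5] at hd
    have := Nat.le_of_dvd (by omega) hd
    have := j.2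
    omega
  have hline : ∀ i : ℕ, ∀ u ∈ zpowers y, g ^ i * u * (g ^ i)⁻¹ ∈ zpowers y → u ≠ 1 → i % 3 = 0 := by
    intro i u hu hmem hu1
    by_contra hi
    have hu5 : orderOf u = 5 := by
      rw [← Nat.card_zpowers, zpowers_eq_of_prime hy5 hu hu1, Nat.card_zpowers, hy5]
    have hgi : orderOf (g ^ i) = 3 := by
      rw [Nat.Coprime.orderOf_pow, hg3]
      rw [hg3, Nat.prime_three.coprime_iff_not_dvd]
      omega
    rw [← zpowers_eq_of_prime hy5 hu hu1] at hmem
    exact hu1 (n.three_no_fix P (pow_mem hgN i) hgi (zpowers_le.2 hy hu) (comm_of_three_five hgi hu5 hmem))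
  have hMinj : Function.Injective M := by
    rintro ⟨i, j⟩ ⟨i', j'⟩ h
    have h' : g ^ (i : ℕ) * y ^ ((j : ℕ) + 1) * (g ^ (i : ℕ))⁻¹ =
        g ^ (i' : ℕ) * y ^ ((j' : ℕ) + 1) * (g ^ (i' : ℕ))⁻¹ := h
    have hg3' : g ^ 3 = 1 := by rw [← hg3, pow_orderOf_eq_one]
    set d := 3 - (i' : ℕ) + (i : ℕ) with hd
    have hgd : g ^ d = (g ^ (i' : ℕ))⁻¹ * g ^ (i : ℕ) := by
      rw [eq_inv_mul_iff_mul_eq, ← pow_add, show (i' : ℕ) + d = 3 + i by omega, pow_add, hg3', one_mul]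
    have e : g ^ d * y ^ ((j : ℕ) + 1) * (g ^ d)⁻¹ = y ^ ((j' : ℕ) + 1) := by
      rw [hgd]
      calc (g ^ (i' : ℕ))⁻¹ * g ^ (i : ℕ) * y ^ ((j : ℕ) + 1) * ((g ^ (i' : ℕ))⁻¹ * g ^ (i : ℕ))⁻¹
          = (g ^ (i' : ℕ))⁻¹ * (g ^ (i : ℕ) * y ^ ((j : ℕ) + 1) * (g ^ (i : ℕ))⁻¹) * g ^ (i' : ℕ) := by group
        _ = y ^ ((j' : ℕ) + 1) := by rw [h']; group
    have hd0 := hline d _ (pow_mem (mem_zpowers y) _) (by rw [e]; exact pow_mem (mem_zpowers y) _) (hyne j)
    have hii : i = i' := by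
      apply Fin.ext
      have := i.2; have := i'.2
      omega
    subst hii
    have e2 : y ^ ((j : ℕ) + 1) = y ^ ((j' : ℕ) + 1) := mul_left_cancel (mul_right_cancel h')
    rw [pow_eq_pow_iff_modEq, hy5] at e2
    have := j.2; have := j'.2
    unfold Nat.ModEq at e2
    obtain rfl : j = j' := Fin.ext (by omega)
    rfl
  have hMR : Finset.univ.image M ⊆ R := by
    intro u hu
    obtain ⟨⟨i, j⟩, -, rfl⟩ := Finset.mem_image.1 hu
    refine Finset.mem_filter.2 ⟨Finset.mem_univ _, (mem_normalizer_iff.1 (pow_mem hgN _) _).1 (pow_mem hy _),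
      fun h => hyne j (conj_eq_one_iff.1 h), fun h => hyB ?_⟩
    have h1 := n.isB5_conj h (g ^ (i : ℕ))⁻¹
    rw [show (g ^ (i : ℕ))⁻¹ * (g ^ (i : ℕ) * y ^ ((j : ℕ) + 1) * (g ^ (i : ℕ))⁻¹) * ((g ^ (i : ℕ))⁻¹)⁻¹
      = y ^ ((j : ℕ) + 1) by group] at h1
    have hymem : y ∈ zpowers (y ^ ((j : ℕ) + 1)) := by
      rw [zpowers_eq_of_prime hy5 (pow_mem (mem_zpowers y) _) (hyne j)]
      exact mem_zpowers y
    exact n.isB5_pow h1 hymem hy1
  have hwR : w ∈ Finset.univ.image M := by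
    rw [Finset.eq_of_subset_of_card_le hMR (by
      rw [Finset.card_image_of_injective _ hMinj, Finset.card_univ, hRc]; simp)]
    exact Finset.mem_filter.2 ⟨Finset.mem_univ _, hw, hw1, hwB⟩
  obtain ⟨⟨i, j⟩, -, rfl⟩ := Finset.mem_image.1 hwR
  refine ⟨(g ^ (i : ℕ))⁻¹, ?_⟩
  show (g ^ (i : ℕ))⁻¹ * (g ^ (i : ℕ) * y ^ ((j : ℕ) + 1) * (g ^ (i : ℕ))⁻¹) * ((g ^ (i : ℕ))⁻¹)⁻¹ ∈ zpowers y
  rw [show (g ^ (i : ℕ))⁻¹ * (g ^ (i : ℕ) * y ^ ((j : ℕ) + 1) * (g ^ (i : ℕ))⁻¹) * ((g ^ (i : ℕ))⁻¹)⁻¹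
    = y ^ ((j : ℕ) + 1) by group]
  exact pow_mem (mem_zpowers y) _

end NData

end CfsgLib.HJType
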