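import Mathlib
import Cfsg.Agent.Lib.HJType.FiveClasses
import Cfsg.Agent.Lib.Transfer.Frobenius

/-!
Groups of Hall-Janko type: the two classes of subgroups of order five and their centralizers.
-/

set_option autoImplicit false
set_option linter.style.haveILetI false
set_option linter.unusedSectionVars false

namespace CfsgLib.HJType

open Subgroup

variable {G : Type*} [Group G] {z : G} {Q : Subgroup G}

theorem centralizer_eq_of_zpowers [Finite G] {p : ℕ} [Fact p.Prime] {x w : G} (hx : orderOf x = p)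
    (hw : w ∈ zpowers x) (hw1 : w ≠ 1) : centralizer ({w} : Set G) = centralizer ({x} : Set G) := by
  have h1 := zpowers_eq_of_prime hx hw hw1
  have hxw : x ∈ zpowers w := h1.symm ▸ mem_zpowers x
  ext y
  rw [mem_centralizer_singleton_iff, mem_centralizer_singleton_iff]
  constructor
  · intro h
    obtain ⟨k, hk⟩ := mem_zpowers_iff.1 hxw
    rw [← hk]
    exact ((show Commute y w from h).zpow_right k).eq
  · intro h
    obtain ⟨k, hk⟩ := mem_zpowers_iff.1 hw
    rw [← hk]
    exact ((show Commute y x from h).zpow_right k).eq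

namespace NData

variable {t : G} {V B K : Subgroup G} (n : NData z t Q V B K)
include n

theorem five_conj_into [Finite G] (P : Sylow 5 G) {w : G} (hw : orderOf w = 5) :
    ∃ g : G, g * w * g⁻¹ ∈ (P : Subgroup G) ∧ g * w * g⁻¹ ≠ 1 := by
  haveI : Fact (Nat.Prime 5) := ⟨by norm_num⟩
  obtain ⟨g, hg⟩ := CfsgLib.Transfer.exists_conj_mem_sylow P (S := zpowers w)
    (IsPGroup.of_card (n := 1) (by rw [Nat.card_zpowers, hw, pow_one]))
  refine ⟨g, hg w (mem_zpowers w), fun h => ?_⟩
  rw [conj_eq_one_iff.1 h, orderOf_one] at hw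
  omega

theorem five_isB5_of_conj {w : G} (g : G) (h : IsB5 B (g * w * g⁻¹)) : IsB5 B w := by
  have := n.isB5_conj h g⁻¹
  rwa [show g⁻¹ * (g * w * g⁻¹) * g⁻¹⁻¹ = w by group] at this

/-- The two classes of subgroups of order five. -/
theorem five_two_classes [Finite G] (P : Sylow 5 G) : ∃ X Y : Subgroup G, Nat.card X = 5 ∧ Nat.card Y = 5 ∧
    (∀ g : G, X.map (MulAut.conj g).toMonoidHom ≠ Y) ∧
    ∀ W : Subgroup G, Nat.card W = 5 →
      ∃ g : G, W.map (MulAut.conj g).toMonoidHom = X ∨ W.map (MulAut.conj g).toMonoidHom = Y := by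
  classical
  haveI := Fintype.ofFinite G
  haveI : Fact (Nat.Prime 5) := ⟨by norm_num⟩
  obtain ⟨hPc, hab⟩ := n.sylow_five P
  obtain ⟨-, h12⟩ := n.five_norm P
  obtain ⟨x, hxP, hx⟩ := n.exists_isB5 P
  obtain ⟨y, hyP, hy1, hyB⟩ : ∃ y ∈ (P : Subgroup G), y ≠ 1 ∧ ¬ IsB5 B y := by
    by_contra h
    push Not at h
    have h24 : ((Finset.univ.filter fun u => u ∈ (P : Subgroup G)).erase 1).card = 24 := by
      rw [Finset.card_erase_of_mem (Finset.mem_filter.2 ⟨Finset.mem_univ _, one_mem _⟩), ← Fintype.card_subtype,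
        ← Nat.card_eq_fintype_card, hPc]
    have hle : ((Finset.univ.filter fun u => u ∈ (P : Subgroup G)).erase 1).card ≤ 12 := by
      rw [← h12, Nat.card_eq_fintype_card, Fintype.card_subtype]
      refine Finset.card_le_card fun u hu => ?_
      obtain ⟨hu1, hu'⟩ := Finset.mem_erase.1 hu
      exact Finset.mem_filter.2 ⟨Finset.mem_univ _, (Finset.mem_filter.1 hu').2,
        h u (Finset.mem_filter.1 hu').2 hu1⟩
    omega
  have hy5 : orderOf y = 5 := by
    obtain ⟨g, hg⟩ := n.five_other P hyP hy1 hyB hyP hy1 hyB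
    have hd := Subgroup.orderOf_dvd_natCard _ hyP
    rw [hPc] at hd
    by_contra hne
    obtain ⟨k, hk2, hk⟩ := (Nat.dvd_prime_pow (p := 5) (by norm_num)).1 (show orderOf y ∣ 5 ^ 2 by simpa using hd)
    -- a cyclic Sylow subgroup has only four elements of order five
    have h25 : orderOf y = 25 := by
      interval_cases k
      · exact absurd (orderOf_eq_one_iff.1 hk) hy1
      · exact absurd hk hne
      · exact hk
    have htop : zpowers y = (P : Subgroup G) :=
      eq_of_le_of_card_ge (zpowers_le.2 hyP) (by rw [Nat.card_zpowers, h25, hPc])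
    have hle := IsCyclic.card_pow_eq_one_le (α := zpowers y) (n := 5) (by norm_num)
    have h12le : Nat.card {w : G // w ∈ (P : Subgroup G) ∧ IsB5 B w} ≤
        (Finset.univ.filter fun a : zpowers y => a ^ 5 = 1).card := by
      rw [← Fintype.card_subtype, ← Nat.card_eq_fintype_card]
      refine Nat.card_le_card_of_injective (fun w => ⟨⟨w.1, htop.symm ▸ w.2.1⟩, Subtype.ext
        (orderOf_dvd_iff_pow_eq_one.1 (dvd_of_eq w.2.2.1))⟩) fun a b h => ?_
      exact Subtype.ext (congrArg (fun q => ((q.1 : zpowers y) : G)) h :)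
    omega
  have hX : ∀ u : G, orderOf u = 5 → ∀ g : G, g * u * g⁻¹ ≠ 1 := fun u hu g h => by
    rw [conj_eq_one_iff.1 h, orderOf_one] at hu
    omega
  have hmap : ∀ (u v g : G), orderOf v = 5 → g * u * g⁻¹ ∈ zpowers v → g * u * g⁻¹ ≠ 1 →
      (zpowers u).map (MulAut.conj g).toMonoidHom = zpowers v := by
    intro u v g hv h h1
    rw [MonoidHom.map_zpowers]
    exact zpowers_eq_of_prime hv h h1
  refine ⟨zpowers x, zpowers y, by rw [Nat.card_zpowers, hx.1], by rw [Nat.card_zpowers, hy5], ?_, ?_⟩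
  · intro g hg
    refine hyB ?_
    have hm : g * x * g⁻¹ ∈ zpowers y := hg ▸ mem_map_of_mem (MulAut.conj g).toMonoidHom (mem_zpowers x)
    have h1 := n.isB5_conj hx g
    refine n.isB5_pow h1 ?_ hy1
    rw [zpowers_eq_of_prime hy5 hm (hX x hx.1 g)]
    exact mem_zpowers y
  · intro W hW
    obtain ⟨w, hw⟩ := exists_prime_orderOf_dvd_card' (G := W) 5 (by rw [hW])
    have hw5 : orderOf (w : G) = 5 := by rw [orderOf_coe, hw]
    have hWeq : zpowers (w : G) = W :=
      eq_of_le_of_card_ge (zpowers_le.2 w.2) (by rw [Nat.card_zpowers, hw5, hW])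
    obtain ⟨g, hgP, hg1⟩ := n.five_conj_into P hw5
    by_cases hB : IsB5 B (g * w * g⁻¹)
    · obtain ⟨k, -, hk⟩ := n.five_fusion P hxP hx hgP hB
      refine ⟨k * g, Or.inl ?_⟩
      have e : k * g * (w : G) * (k * g)⁻¹ = k * (g * w * g⁻¹) * k⁻¹ := by group
      rw [← hWeq]
      exact hmap _ _ _ hx.1 (e ▸ hk) (hX _ hw5 _)
    · obtain ⟨k, hk⟩ := n.five_other P hyP hy1 hyB hgP hg1 hB
      refine ⟨k * g, Or.inr ?_⟩
      have e : k * g * (w : G) * (k * g)⁻¹ = k * (g * w * g⁻¹) * k⁻¹ := by group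
      rw [← hWeq]
      exact hmap _ _ _ hy5 (e ▸ hk) (hX _ hw5 _)

/-- An element of order five of the centralizer of `z` is not conjugate into `B`. -/
theorem five_H_not_B5 [Finite G] {f : G} (hf : f ∈ centralizer ({z} : Set G)) (hf5 : orderOf f = 5) :
    ¬ IsB5 B f := by
  rintro ⟨-, g, hg⟩
  have hgo : orderOf (g * f * g⁻¹) = 5 := ((MulAut.conj g).orderOf_eq f).trans hf5
  exact n.dd.pr.no_mixed (Or.inr rfl) hgo (isConj_conj g z) (IsConj.refl t)
    ((Commute.conj_iff g).2 (show Commute z f from (n.dd.pr.st.zc hf).symm)).eq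
    (n.b_comm_t hg)

set_option maxHeartbeats 800000 in
/-- The centralizer of an element of order five of the centralizer of `z` has order prime to three and seven. -/
theorem five_H_cent [Finite G] {f : G} (hf : f ∈ centralizer ({z} : Set G)) (hf5 : orderOf f = 5) :
    ¬ 3 ∣ Nat.card (centralizer ({f} : Set G)) ∧ ¬ 7 ∣ Nat.card (centralizer ({f} : Set G)) := by
  classical
  haveI : Fact (Nat.Prime 5) := ⟨by norm_num⟩
  haveI : Fact (Nat.Prime 2) := ⟨Nat.prime_two⟩
  haveI : Fact (Nat.Prime 3) := ⟨Nat.prime_three⟩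
  haveI : Fact (Nat.Prime 7) := ⟨by norm_num⟩
  have st := n.dd.pr.st
  obtain ⟨P, hfP⟩ := (IsPGroup.of_card (p := 5) (G := zpowers f) (n := 1)
    (by rw [Nat.card_zpowers, hf5, pow_one])).exists_le_sylow
  have hfP' : f ∈ (P : Subgroup G) := hfP (mem_zpowers f)
  obtain ⟨hPc, hab⟩ := n.sylow_five P
  obtain ⟨h300, -⟩ := n.five_norm P
  obtain ⟨h4, -⟩ := st.five_cent hf hf5
  set C := centralizer ({f} : Set G) with hC
  have hPC : (P : Subgroup G) ≤ C := fun a ha => mem_centralizer_singleton_iff.2 (hab a ha f hfP')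
  have hzC : z ∈ C := mem_centralizer_singleton_iff.2 (st.zc hf).symm
  -- the normal complement
  set T0 := (zpowers z).subgroupOf C with hT0
  have hT0c : Nat.card T0 = 2 := by
    rw [hT0, Nat.card_congr (subgroupOfEquivOfLe (zpowers_le.2 hzC)).toEquiv, Nat.card_zpowers, st.hz]
  obtain ⟨S, hS⟩ := (IsPGroup.of_card (p := 2) (G := T0) (n := 1) (by rw [hT0c, pow_one])).exists_le_sylow
  have hScard : Nat.card S = 2 := by
    have h := card_sylow_of_exact (p := 2) (k := 1) (G := C)
      (by rw [pow_one]; exact hT0c ▸ card_subgroup_dvd_card T0) (by simpa using h4) S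
    simpa using h
  have hST : (S : Subgroup C) = T0 := (eq_of_le_of_card_ge hS (by rw [hScard, hT0c])).symm
  obtain ⟨S', O, hOn, hOc⟩ : Cfsg.HasNormalPComplement 2 C := by
    refine CfsgLib.Transfer.hasNormalPComplement_of_normalizer_le_centralizer S fun g hg => ?_
    rw [mem_centralizer_iff]
    intro a ha
    have hz' : (⟨z, hzC⟩ : C) ∈ (S : Subgroup C) := hS (mem_zpowers z)
    have hga : g * a * g⁻¹ ∈ (S : Subgroup C) := (mem_normalizer_iff.1 hg a).1 ha
    by_cases ha1 : a = 1
    · simp [ha1]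
    have hga1 : g * a * g⁻¹ ≠ 1 := fun h => ha1 (conj_eq_one_iff.1 h)
    have key : ∀ b ∈ (S : Subgroup C), b ≠ 1 → b = ⟨z, hzC⟩ := by
      intro b hb hb1
      rw [hST, hT0, mem_subgroupOf] at hb
      exact Subtype.ext ((eq_one_or_self st.zz hb).resolve_left fun h => hb1 (Subtype.ext h))
    exact (mul_inv_eq_iff_eq_mul.1 ((key _ hga hga1).trans (key a ha ha1).symm)).symm
  haveI := hOn
  have hOodd : ¬ 2 ∣ Nat.card O := by
    intro h
    apply h4
    rw [← hOc.card_mul]
    have hS' : 2 ∣ Nat.card S' := by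
      simpa using S'.pow_dvd_card_of_pow_dvd_card (n := 1) (p := 2)
        (by rw [pow_one]; exact hT0c ▸ card_subgroup_dvd_card T0)
    exact (show 4 = 2 * 2 from rfl) ▸ mul_dvd_mul h hS'
  have hOidx : O.index ∣ 2 := by
    have h := hOc.card_mul
    have h' := card_mul_index O
    rw [← h] at h'
    have hidx : O.index = Nat.card S' := Nat.eq_of_mul_eq_mul_left Nat.card_pos h'
    rw [hidx, card_sylow_of_exact (p := 2) (k := 1) (G := C)
      (by rw [pow_one]; exact hT0c ▸ card_subgroup_dvd_card T0) (by simpa using h4) S', pow_one]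
  have hPO : ∀ a : C, (a : G) ∈ (P : Subgroup G) → a ∈ O := by
    intro a ha
    have h1 : orderOf a ∣ 25 := by rw [← orderOf_coe, ← hPc]; exact Subgroup.orderOf_dvd_natCard _ ha
    have h2 : a ^ O.index ∈ O := O.pow_index_mem a
    have hc : (orderOf a).Coprime O.index :=
      Nat.Coprime.coprime_dvd_left h1 (Nat.Coprime.coprime_dvd_right hOidx (by norm_num))
    obtain ⟨m, hm⟩ := exists_pow_eq_self_of_coprime (x := a) (n := O.index) hc.symm
    rw [← hm]
    exact pow_mem h2 m
  -- inversion modulo `⟨f⟩`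
  set F := (zpowers f).subgroupOf C with hF
  haveI : F.Normal := ⟨fun a ha g => by
    rw [hF, mem_subgroupOf] at ha ⊢
    obtain ⟨k, hk⟩ := mem_zpowers_iff.1 ha
    rw [coe_mul, coe_mul, coe_inv, ← hk,
      ((show Commute (g : G) f from mem_centralizer_singleton_iff.1 g.2).zpow_right k).eq, mul_inv_cancel_right]
    exact zpow_mem (mem_zpowers f) k⟩
  let π : C →* C ⧸ F := QuotientGroup.mk' F
  have hπ : ∀ a b : C, π a = π b ↔ (a : G)⁻¹ * b ∈ zpowers f := fun a b => by
    rw [QuotientGroup.mk'_apply, QuotientGroup.mk'_apply, QuotientGroup.eq, hF, mem_subgroupOf]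
    rfl
  set zd : C := ⟨z, hzC⟩ with hzd
  have hzz : π zd * π zd = 1 := by
    rw [← map_mul, ← map_one π]; exact congrArg π (Subtype.ext st.zz)
  haveI hOm : (O.map π).Normal := hOn.map π (QuotientGroup.mk'_surjective F)
  have hinv := fpf_inverts hzz (N := O.map π) (fun x hx => by
      have := hOm.conj_mem x hx (π zd)
      rwa [inv_eq_of_mul_eq_one_right hzz] at this) (by
    rintro _ ⟨a, ha, rfl⟩ hc
    rw [← map_mul, ← map_mul, hπ] at hc
    have e : (a : G) * z = z * a * (((z : G) * a)⁻¹ * ((a : G) * z)) := by group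
    obtain ⟨k, hk⟩ := mem_zpowers_iff.1 hc
    have hk' : f ^ k = ((z : G) * a)⁻¹ * ((a : G) * z) := hk
    rw [← hk'] at e
    have hfz : Commute z (f ^ k) := (show Commute z f from (st.zc hf).symm).zpow_right k
    have haf : Commute (a : G) (f ^ k) :=
      (show Commute (a : G) f from mem_centralizer_singleton_iff.1 a.2).zpow_right k
    have e2 : (a : G) = z * a * z * f ^ k := by
      calc (a : G) = a * z * z := by rw [mul_assoc, st.zz, mul_one]
        _ = z * a * f ^ k * z := by rw [← e]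
        _ = _ := by rw [mul_assoc (z * (a : G)), ← hfz.eq, ← mul_assoc]
    have e3 : f ^ k * f ^ k = 1 := by
      have e4 : (a : G) = z * (z * a * z * f ^ k) * z * f ^ k := by
        conv_lhs => rw [e2]
        conv_lhs => enter [1, 1, 2]; rw [e2]
      rw [show z * (z * (a : G) * z * f ^ k) * z * f ^ k = z * z * a * z * (f ^ k * z) * f ^ k by group,
        ← hfz.eq, show z * z * (a : G) * z * (z * f ^ k) * f ^ k = z * z * a * (z * z) * (f ^ k * f ^ k) by group,
        st.zz, one_mul, mul_one] at e4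
      exact mul_eq_left.1 e4.symm
    have hfk1 : f ^ k = 1 := by
      have h1 : orderOf (f ^ k) ∣ 5 := by
        have := Subgroup.orderOf_dvd_natCard _ (zpow_mem (mem_zpowers f) k)
        rwa [Nat.card_zpowers, hf5] at this
      have h2 : orderOf (f ^ k) ∣ 2 := orderOf_dvd_of_pow_eq_one (by rw [pow_two, e3])
      exact orderOf_eq_one_iff.1 (Nat.eq_one_of_dvd_one ((by norm_num : Nat.gcd 5 2 = 1) ▸ Nat.dvd_gcd h1 h2))
    rw [hfk1, mul_one] at e
    -- `a` lies in the centralizer of `z` and has odd order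
    have haH : (a : G) ∈ centralizer ({z} : Set G) ⊓ C := mem_inf.2 ⟨mem_centralizer_singleton_iff.2 e, a.2⟩
    have h1 := Subgroup.orderOf_dvd_natCard _ haH
    rw [(st.cent_five hf hf5).1] at h1
    have h2 : orderOf (a : G) ∣ Nat.card O := by rw [orderOf_coe]; exact Subgroup.orderOf_dvd_natCard O ha
    have h5 : orderOf (a : G) ∣ 5 := by
      refine Nat.Coprime.dvd_of_dvd_mul_left (k := orderOf (a : G)) (m := 2) ?_ (show orderOf (a : G) ∣ 2 * 5 from h1)
      exact (Nat.prime_two.coprime_iff_not_dvd.2 fun h => hOodd (h.trans h2)).symm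
    rw [← map_one π, hπ, coe_one, mul_one]
    -- the elements of order five of the centralizer of `z` and `f`
    obtain ⟨c, hcC, hc'⟩ := exists_conj_into (K := centralizer ({z} : Set G) ⊓ C) (p := 5) (n := 1)
      (B := zpowers f) (zpowers_le.2 (mem_inf.2 ⟨hf, mem_centralizer_singleton_iff.2 rfl⟩))
      (by rw [Nat.card_zpowers, hf5, pow_one]) (by rw [(st.cent_five hf hf5).1]; norm_num)
      (zpowers_le.2 haH) (A := zpowers (a : G)) (by
        obtain ⟨m, -, hm⟩ := (Nat.dvd_prime_pow (p := 5) (by norm_num)).1 (show orderOf (a : G) ∣ 5 ^ 1 by simpa using h5)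
        exact IsPGroup.of_card (n := m) (by rw [Nat.card_zpowers, hm]))
    exact inv_mem (by
      obtain ⟨k2, hk2⟩ := mem_zpowers_iff.1 (hc' _ (mem_zpowers _))
      refine ⟨k2, ?_⟩
      show f ^ k2 = (a : G)
      have hcc : Commute c (f ^ k2) :=
        (show Commute c f from mem_centralizer_singleton_iff.1 hcC.2).zpow_right k2
      calc f ^ k2 = c⁻¹ * (c * f ^ k2) := by group
        _ = c⁻¹ * (f ^ k2 * c) := by rw [hcc.eq]
        _ = c⁻¹ * ((c * a * c⁻¹) * c) := by rw [hk2]
        _ = a := by group))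
  -- `P` is normal in `C`
  have hfsub : zpowers f ≤ (P : Subgroup G) := zpowers_le.2 hfP'
  have habO : ∀ a ∈ O, ∀ b ∈ O, π a * π b = π b * π a := by
    intro a ha b hb
    have h1 := hinv _ ⟨a, ha, rfl⟩
    have h2 := hinv _ ⟨b, hb, rfl⟩
    have h3 := hinv _ ⟨_, mul_mem (inv_mem ha) (inv_mem hb), rfl⟩
    rw [map_mul, map_inv, map_inv, mul_inv_rev, inv_inv, inv_inv,
      show π zd * ((π a)⁻¹ * (π b)⁻¹) * π zd = (π zd * (π a)⁻¹ * (π zd)⁻¹) * (π zd * (π b)⁻¹ * π zd) by group] at h3
    rw [← map_inv π a, ← map_inv π b, inv_eq_of_mul_eq_one_right hzz, hinv _ ⟨a⁻¹, inv_mem ha, rfl⟩,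
      hinv _ ⟨b⁻¹, inv_mem hb, rfl⟩, map_inv, map_inv, inv_inv, inv_inv] at h3
    exact h3
  have hnormal : C ≤ normalizer ((P : Subgroup G) : Set G) := by
    have key : ∀ g : C, ∀ a : C, (a : G) ∈ (P : Subgroup G) →
        ((g * a * g⁻¹ : C) : G) ∈ (P : Subgroup G) := by
      have hO' : ∀ g ∈ O, ∀ a : C, (a : G) ∈ (P : Subgroup G) → ((g * a * g⁻¹ : C) : G) ∈ (P : Subgroup G) := by
        intro g hg a ha
        have h := habO g hg a (hPO a ha)
        have h' : π a = π (g * a * g⁻¹) := by rw [map_mul, map_mul, map_inv, h, mul_inv_cancel_right]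
        have := mul_mem ha (hfsub ((hπ _ _).1 h'))
        rwa [mul_inv_cancel_left] at this
      intro g a ha
      have h' := hinv _ ⟨a, hPO a ha, rfl⟩
      have hza : ((zd * a * zd⁻¹ : C) : G) ∈ (P : Subgroup G) := by
        have h2 : π a⁻¹ = π (zd * a * zd⁻¹) := by
          rw [map_mul, map_mul, map_inv, map_inv, inv_eq_of_mul_eq_one_right hzz, h']
        have := mul_mem (inv_mem ha) (hfsub ((hπ _ _).1 h2))
        rwa [coe_inv, inv_inv, ← mul_assoc, inv_mul_cancel, one_mul] at this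
      by_cases hgO : g ∈ O
      · exact hO' g hgO a ha
      have hzO : zd ∉ O := fun h => hOodd (by
        have := Subgroup.orderOf_dvd_natCard O h
        rwa [← orderOf_coe, show ((zd : C) : G) = z from rfl, st.hz] at this)
      have hidx2 : O.index = 2 := ((Nat.dvd_prime Nat.prime_two).1 hOidx).resolve_left fun h =>
        hgO ((Subgroup.index_eq_one.1 h).symm ▸ mem_top g)
      have hgz : g * zd⁻¹ ∈ O := (mul_mem_iff_of_index_two hidx2).2 (iff_of_false hgO (fun h => hzO (inv_mem_iff.1 h)))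
      have := hO' _ hgz _ hza
      rwa [show g * zd⁻¹ * (zd * a * zd⁻¹) * (g * zd⁻¹)⁻¹ = g * a * g⁻¹ by group] at this
    intro g hg
    refine mem_normalizer_iff.2 fun a => ⟨fun ha => key ⟨g, hg⟩ ⟨a, hPC ha⟩ ha, fun ha => ?_⟩
    have := key ⟨g, hg⟩⁻¹ ⟨g * a * g⁻¹, hPC ha⟩ ha
    simpa [mul_assoc] using this
  refine ⟨fun h3 => ?_, fun h7 => ?_⟩
  · obtain ⟨g, hg⟩ := exists_prime_orderOf_dvd_card' (G := C) 3 h3
    have := n.three_no_fix P (hnormal g.2) (by rw [orderOf_coe, hg]) hfP' (mem_centralizer_singleton_iff.1 g.2)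
    rw [this, orderOf_one] at hf5
    omega
  · obtain ⟨g, hg⟩ := exists_prime_orderOf_dvd_card' (G := C) 7 h7
    have := Subgroup.orderOf_dvd_natCard _ (hnormal g.2)
    rw [h300, orderOf_coe, hg] at this
    norm_num at this

/-- The elements of order five: conjugate into `B`, or with centralizer of order prime to three and seven. -/
theorem five_cases [Finite G] {w : G} (hw : orderOf w = 5) :
    IsB5 B w ∨ (¬ 3 ∣ Nat.card (centralizer ({w} : Set G)) ∧ ¬ 7 ∣ Nat.card (centralizer ({w} : Set G))) := by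
  haveI : Fact (Nat.Prime 5) := ⟨by norm_num⟩
  by_cases hB : IsB5 B w
  · exact Or.inl hB
  right
  obtain ⟨f, hf, hf5⟩ := n.dd.pr.st.exists_five
  obtain ⟨P, hfP⟩ := (IsPGroup.of_card (p := 5) (G := zpowers f) (n := 1)
    (by rw [Nat.card_zpowers, hf5, pow_one])).exists_le_sylow
  have hfP' : f ∈ (P : Subgroup G) := hfP (mem_zpowers f)
  have hf1 : f ≠ 1 := fun h => by rw [h, orderOf_one] at hf5; omega
  obtain ⟨g, hgP, hg1⟩ := n.five_conj_into P hw
  obtain ⟨k, hk⟩ := n.five_other P hfP' hf1 (n.five_H_not_B5 hf hf5) hgP hg1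
    (fun h => hB (n.five_isB5_of_conj g h))
  have hne : k * (g * w * g⁻¹) * k⁻¹ ≠ 1 := fun h => hg1 (conj_eq_one_iff.1 h)
  have e : Nat.card (centralizer ({w} : Set G)) = Nat.card (centralizer ({f} : Set G)) := by
    rw [← centralizer_eq_of_zpowers hf5 hk hne]
    exact (CfsgLib.Invol.card_centralizer_of_isConj ((isConj_conj g w).trans (isConj_conj k _))).symm
  rw [e]
  exact n.five_H_cent hf hf5

end NData

end CfsgLib.HJType
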