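import Mathlib
import Cfsg.Agent.Lib.HJType.FiveMain

/-!
Groups of Hall-Janko type: the centralizers of the two kinds of elements of order three.
-/

set_option autoImplicit false
set_option linter.style.haveILetI false
set_option linter.unusedSectionVars false

namespace CfsgLib.HJType

open Subgroup

variable {G : Type*} [Group G] {z : G} {Q : Subgroup G}

/-- The elements of order three in play: `σ` centralising `B`, `ρ` in `B`. -/
structure TData (z t : G) (Q V B K : Subgroup G) (σ ρ : G) : Prop where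
  nd : NData z t Q V B K
  hσ : σ ∈ K
  hσo : orderOf σ = 3
  hρ : ρ ∈ B
  hρo : orderOf ρ = 3

theorem NData.exists_tData [Finite G] {t : G} {V B K : Subgroup G} (n : NData z t Q V B K) :
    ∃ σ ρ, TData z t Q V B K σ ρ := by
  haveI : Fact (Nat.Prime 3) := ⟨Nat.prime_three⟩
  obtain ⟨σ, hσ, hσo⟩ := n.exists_sigma
  obtain ⟨eB⟩ := n.dd.hB
  obtain ⟨r, hr⟩ := exists_prime_orderOf_dvd_card' (G := B) 3 (by rw [Nat.card_congr eB.toEquiv, a5_card]; norm_num)
  exact ⟨σ, r, n, hσ, hσo, r.2, by rw [orderOf_coe, hr]⟩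

namespace TData

variable {t : G} {V B K : Subgroup G} {σ ρ : G} (T : TData z t Q V B K σ ρ)
include T

theorem σρ : σ * ρ = ρ * σ := T.nd.hKB σ T.hσ ρ T.hρ

theorem σz : σ * z = z * σ := T.nd.hKB σ T.hσ z T.nd.dd.hzB

theorem σH : σ ∈ centralizer ({z} : Set G) := mem_centralizer_singleton_iff.2 T.σz

theorem σ_ne : σ ≠ 1 := fun h => by have := T.hσo; rw [h, orderOf_one] at this; omega

theorem ρ_ne : ρ ≠ 1 := fun h => by have := T.hρo; rw [h, orderOf_one] at this; omega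

/-- No conjugate of `σ` centralises a conjugate of `t`. -/
theorem σ_no_t [Finite G] {u g : G} (hu : IsConj t u) (h : u * (g * σ * g⁻¹) = g * σ * g⁻¹ * u) : False :=
  T.nd.dd.pr.no_mixed (p := 3) (Or.inl rfl) (x := σ) T.hσo (IsConj.refl z)
    (hu.trans (isConj_conj g⁻¹ u)) T.σz.symm (by
      calc g⁻¹ * u * g⁻¹⁻¹ * σ = g⁻¹ * (u * (g * σ * g⁻¹)) * g := by group
        _ = g⁻¹ * (g * σ * g⁻¹ * u) * g := by rw [h]
        _ = σ * (g⁻¹ * u * g⁻¹⁻¹) := by group)

/-- `σ` is not conjugate into `⟨ρ⟩`. -/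
theorem not_conj [Finite G] {g : G} : g * σ * g⁻¹ ∉ zpowers ρ := fun h => by
  obtain ⟨k, hk⟩ := mem_zpowers_iff.1 h
  refine T.σ_no_t (IsConj.refl t) (g := g) ?_
  rw [← hk]
  exact ((show Commute t ρ from T.nd.b_comm_t T.hρ).zpow_right k).eq

theorem σ_invol [Finite G] {w : G} (hw : w * σ = σ * w) (hw2 : w * w = 1) (hw1 : w ≠ 1) :
    ∃ c ∈ centralizer ({σ} : Set G), c * w * c⁻¹ = z := by
  have hcl : IsConj z w := (T.nd.dd.pr.classes hw2 hw1).resolve_right fun h =>
    T.σ_no_t h (g := 1) (by simpa using hw)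
  obtain ⟨g, hg⟩ := isConj_iff.1 hcl.symm
  have hgσ : g * σ * g⁻¹ ∈ centralizer ({z} : Set G) := by
    rw [← hg, mem_centralizer_conj, mem_centralizer_singleton_iff]
    exact hw.symm
  obtain ⟨h, hh, he⟩ := T.nd.dd.pr.st.conj_three hgσ T.σH (((MulAut.conj g).orderOf_eq σ).trans T.hσo) T.hσo
  refine ⟨h * g, mem_centralizer_singleton_iff.2 (mul_inv_eq_iff_eq_mul.1 ?_), ?_⟩
  · calc h * g * σ * (h * g)⁻¹ = h * (g * σ * g⁻¹) * h⁻¹ := by group
      _ = σ := he
  · calc h * g * w * (h * g)⁻¹ = h * (g * w * g⁻¹) * h⁻¹ := by group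
      _ = z := by rw [hg, T.nd.dd.pr.st.zc hh, mul_inv_cancel_right]

theorem ρ_cent [Finite G] :
    Nat.card (centralizer ({ρ} : Set G)) = 36 ∧ centralizer ({ρ} : Set G) ≤ normalizer (V : Set G) := by
  classical
  haveI : Fact (Nat.Prime 5) := ⟨by norm_num⟩
  haveI : Fact (Nat.Prime 3) := ⟨Nat.prime_three⟩
  have n := T.nd
  obtain ⟨hc, -⟩ := n.cent_N (p := 3) (Or.inl rfl) T.hρ T.hρo
  obtain h | ⟨φ, -, -, h180⟩ := n.cent_dich (p := 3) (Or.inl rfl) T.hρ T.hρo
  · refine ⟨?_, h⟩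
    rw [inf_eq_left.2 h] at hc
    exact hc
  exfalso
  obtain ⟨q, hq⟩ := exists_prime_orderOf_dvd_card' (G := centralizer ({ρ} : Set G)) 5 (by rw [h180]; norm_num)
  have hqo : orderOf (q : G) = 5 := by rw [orderOf_coe, hq]
  have hρq : ρ ∈ centralizer ({(q : G)} : Set G) :=
    mem_centralizer_singleton_iff.2 (mem_centralizer_singleton_iff.1 q.2).symm
  rcases n.five_cases hqo with hB | ⟨h3, -⟩
  · obtain ⟨-, g, hg⟩ := hB
    have hbo : orderOf (g * (q : G) * g⁻¹) = 5 := ((MulAut.conj g).orderOf_eq _).trans hqo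
    have hr : g * ρ * g⁻¹ ∈ centralizer ({g * (q : G) * g⁻¹} : Set G) := mem_centralizer_conj.2 hρq
    have hs : σ ∈ centralizer ({g * (q : G) * g⁻¹} : Set G) :=
      mem_centralizer_singleton_iff.2 (n.hKB σ T.hσ _ hg)
    obtain ⟨c, -, hc⟩ := exists_conj_into (K := centralizer ({g * (q : G) * g⁻¹} : Set G)) (p := 3) (n := 1)
      (zpowers_le.2 hs) (by rw [Nat.card_zpowers, T.hσo, pow_one]) (by rw [(n.five_B hg hbo).1]; norm_num)
      (zpowers_le.2 hr) (IsPGroup.of_card (n := 1) (by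
        rw [Nat.card_zpowers, show orderOf (g * ρ * g⁻¹) = 3 from ((MulAut.conj g).orderOf_eq ρ).trans T.hρo,
          pow_one]))
    have hm := hc _ (mem_zpowers _)
    set w := c * g with hw
    have hm' : w * ρ * w⁻¹ ∈ zpowers σ := by
      rwa [show c * (g * ρ * g⁻¹) * c⁻¹ = w * ρ * w⁻¹ by rw [hw]; group] at hm
    have hne : w * ρ * w⁻¹ ≠ 1 := fun e => T.ρ_ne (conj_eq_one_iff.1 e)
    have hback : σ ∈ zpowers (w * ρ * w⁻¹) := (zpowers_eq_of_prime T.hσo hm' hne).symm ▸ mem_zpowers σ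
    obtain ⟨k, hk⟩ := mem_zpowers_iff.1 hback
    refine T.not_conj (g := w⁻¹) ⟨k, ?_⟩
    show ρ ^ k = w⁻¹ * σ * w⁻¹⁻¹
    rw [← hk, conj_zpow]
    group
  · exact h3 (T.hρo ▸ Subgroup.orderOf_dvd_natCard _ hρq)

/-- The group generated by `σ` and `ρ`. -/
theorem exists_E [Finite G] : ∃ E : Subgroup G, Nat.card E = 9 ∧ σ ∈ E ∧ ρ ∈ E ∧
    (∀ x ∈ E, ∃ a ∈ zpowers σ, ∃ b ∈ zpowers ρ, x = a * b) ∧ (∀ x ∈ E, ∀ y ∈ E, x * y = y * x) ∧
    (∀ x ∈ E, x ^ 3 = 1) := by
  have hcomm : ∀ (a : zpowers σ) (b : zpowers ρ), Commute (a : G) (b : G) := fun a b =>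
    T.nd.hKB _ (zpowers_le.2 T.hσ a.2) _ (zpowers_le.2 T.hρ b.2)
  let f : zpowers σ × zpowers ρ →* G := MonoidHom.noncommCoprod (zpowers σ).subtype (zpowers ρ).subtype hcomm
  have hf : ∀ p, f p = (p.1 : G) * p.2 := fun p => rfl
  have hinj : Function.Injective f := by
    rw [injective_iff_map_eq_one]
    rintro ⟨a, b⟩ h
    rw [hf] at h
    have ha := T.nd.hKinf _ (zpowers_le.2 T.hσ a.2) (eq_inv_of_mul_eq_one_left h ▸ inv_mem (zpowers_le.2 T.hρ b.2))
    rw [show (((a, b) : zpowers σ × zpowers ρ).1 : G) = a from rfl, ha, one_mul] at h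
    exact Prod.ext (Subtype.ext ha) (Subtype.ext h)
  have hmem : ∀ x ∈ f.range, ∃ a ∈ zpowers σ, ∃ b ∈ zpowers ρ, x = a * b := by
    rintro _ ⟨⟨a, b⟩, rfl⟩
    exact ⟨a, a.2, b, b.2, rfl⟩
  refine ⟨f.range, ?_, ⟨(⟨σ, mem_zpowers σ⟩, 1), by simp [hf]⟩, ⟨(1, ⟨ρ, mem_zpowers ρ⟩), by simp [hf]⟩, hmem, ?_, ?_⟩
  · rw [← Nat.card_congr (MonoidHom.ofInjective hinj).toEquiv, Nat.card_prod, Nat.card_zpowers, Nat.card_zpowers,
      T.hσo, T.hρo]
  · rintro _ ⟨p, rfl⟩ _ ⟨q, rfl⟩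
    rw [← map_mul, ← map_mul]
    exact congrArg f (Prod.ext (Subtype.ext (by
        obtain ⟨i, hi⟩ := mem_zpowers_iff.1 p.1.2
        obtain ⟨j, hj⟩ := mem_zpowers_iff.1 q.1.2
        show (p.1 : G) * q.1 = q.1 * p.1
        rw [← hi, ← hj]
        exact ((Commute.refl σ).zpow_zpow i j).eq))
      (Subtype.ext (by
        obtain ⟨i, hi⟩ := mem_zpowers_iff.1 p.2.2
        obtain ⟨j, hj⟩ := mem_zpowers_iff.1 q.2.2
        show (p.2 : G) * q.2 = q.2 * p.2
        rw [← hi, ← hj]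
        exact ((Commute.refl ρ).zpow_zpow i j).eq)))
  · intro x hx
    obtain ⟨a, ha, b, hb, rfl⟩ := hmem x hx
    rw [(hcomm ⟨a, ha⟩ ⟨b, hb⟩).mul_pow]
    have ha3 : a ^ 3 = 1 := orderOf_dvd_iff_pow_eq_one.1 (by
      have := Subgroup.orderOf_dvd_natCard _ ha
      rwa [Nat.card_zpowers, T.hσo] at this)
    have hb3 : b ^ 3 = 1 := orderOf_dvd_iff_pow_eq_one.1 (by
      have := Subgroup.orderOf_dvd_natCard _ hb
      rwa [Nat.card_zpowers, T.hρo] at this)
    rw [ha3, hb3, one_mul]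

/-- A Sylow 3-subgroup containing `σ` and `ρ` centralises `σ`. -/
theorem exists_sylow [Finite G] : ∃ (P : Sylow 3 G) (E : Subgroup G), Nat.card P = 27 ∧
    E ≤ (P : Subgroup G) ∧ (P : Subgroup G) ≤ centralizer ({σ} : Set G) ∧ (P : Subgroup G) ≤ normalizer (E : Set G) ∧
    Nat.card E = 9 ∧ σ ∈ E ∧ ρ ∈ E ∧ (∀ x ∈ E, ∀ y ∈ E, x * y = y * x) ∧
    (∀ x ∈ E, ∃ a ∈ zpowers σ, ∃ b ∈ zpowers ρ, x = a * b) := by
  classical
  haveI := Fintype.ofFinite G
  haveI : Fact (Nat.Prime 3) := ⟨Nat.prime_three⟩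
  obtain ⟨E, hE9, hσE, hρE, hdec, hcomm, hexp⟩ := T.exists_E
  obtain ⟨P, hEP⟩ := (IsPGroup.of_card (p := 3) (G := E) (n := 2) (by rw [hE9]; norm_num)).exists_le_sylow
  have hG := T.nd.card_G
  have hP : Nat.card P = 27 := by
    rw [card_sylow_of_exact (p := 3) (k := 3) (by rw [hG]; norm_num) (by rw [hG]; norm_num) P]; norm_num
  haveI hEn : (E.subgroupOf (P : Subgroup G)).Normal := by
    refine normal_of_index_eq_minFac_card ?_
    have h := card_mul_index (E.subgroupOf (P : Subgroup G))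
    rw [Nat.card_congr (subgroupOfEquivOfLe hEP).toEquiv, hE9, hP] at h
    rw [hP, show (E.subgroupOf (P : Subgroup G)).index = 3 by omega]
    norm_num
  have hPN : (P : Subgroup G) ≤ normalizer (E : Set G) := fun p hp => mem_normalizer_iff.2 fun x => by
    constructor
    · intro hx
      exact hEn.conj_mem ⟨x, hEP hx⟩ hx ⟨p, hp⟩
    · intro hx
      have := hEn.conj_mem ⟨p * x * p⁻¹, hEP hx⟩ hx ⟨p⁻¹, inv_mem hp⟩
      simpa [mem_subgroupOf, mul_assoc] using this
  refine ⟨P, E, hP, hEP, ?_, hPN, hE9, hσE, hρE, hcomm, hdec⟩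
  intro p hp
  rw [mem_centralizer_singleton_iff]
  by_contra hpσ
  let π : Equiv.Perm G := MulAut.toPerm G (MulAut.conj p)
  have hp27 : orderOf p ∣ 3 ^ 3 := (Subgroup.orderOf_dvd_natCard _ hp).trans (by rw [hP]; norm_num)
  have hpN := hPN hp
  -- the subgroup of fixed points
  set F := E ⊓ centralizer ({p} : Set G) with hF
  have hF1 : F ≠ ⊥ := by
    -- a nontrivial normal subgroup of a 3-group meets the centre
    haveI : IsPGroup 3 (P : Subgroup G) := P.2
    intro hbot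
    let π' : ConjAct (zpowers p) → Equiv.Perm G := fun _ => π
    obtain ⟨m, -, hm⟩ := (Nat.dvd_prime_pow Nat.prime_three).1 hp27
    have hσ3 : π ^ 3 ^ m = 1 := by rw [← map_pow, ← map_pow, ← hm, pow_orderOf_eq_one, map_one, map_one]
    have hinv : ∀ x, (π x ∈ E) ↔ x ∈ E := fun x => ((mem_normalizer_iff.1 hpN) x).symm
    have hn : ∀ (k : ℕ) (a : {a // a ∈ E}), ((π.subtypePerm hinv ^ k) a : G) = (π ^ k) a := by
      intro k
      induction k with
      | zero => exact fun a => rfl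
      | succ k ih => intro a; rw [pow_succ, pow_succ, Equiv.Perm.mul_apply, ih]; rfl
    have hπ' : π.subtypePerm hinv ^ 3 ^ m = 1 := Equiv.ext fun a => Subtype.ext (by rw [hn, hσ3]; rfl)
    haveI := Fintype.ofFinite E
    have hmod := Equiv.Perm.card_compl_support_modEq (p := 3) (n := m) (σ := π.subtypePerm hinv) hπ'
    have hsup : (π.subtypePerm hinv).supportᶜ.card = 1 := by
      rw [Finset.card_eq_one]
      refine ⟨⟨1, one_mem E⟩, ?_⟩
      ext ⟨a, ha⟩
      simp only [Finset.mem_compl, Equiv.Perm.mem_support, not_not, Finset.mem_singleton]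
      constructor
      · intro h
        have h' : p * a * p⁻¹ = a := congrArg Subtype.val h
        have haF : a ∈ F := mem_inf.2 ⟨ha, mem_centralizer_singleton_iff.2 (mul_inv_eq_iff_eq_mul.1 h').symm⟩
        rw [hbot, mem_bot] at haF
        exact Subtype.ext haF
      · intro h
        rw [Subtype.mk.injEq] at h
        subst h
        exact Subtype.ext (show p * 1 * p⁻¹ = 1 by group)
    rw [hsup, ← Nat.card_eq_fintype_card, hE9] at hmod
    exact absurd hmod (by decide)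
  obtain ⟨u, huF, hu1⟩ := (Subgroup.bot_or_exists_ne_one F).resolve_left hF1
  have hu3 : orderOf u = 3 := orderOf_eq_prime (hexp u huF.1) hu1
  obtain ⟨a, ha, b, hb, huab⟩ := hdec u huF.1
  -- the centralizer of `u` contains `E` and `p`
  have hFle : F = zpowers u := by
    refine (eq_of_le_of_card_ge (zpowers_le.2 huF) ?_).symm
    rw [Nat.card_zpowers, hu3]
    obtain ⟨k, hk2, hk⟩ := (Nat.dvd_prime_pow Nat.prime_three).1
      (show Nat.card F ∣ 3 ^ 2 by rw [show 3 ^ 2 = 9 from rfl, ← hE9]; exact card_dvd_of_le inf_le_left)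
    have hne : Nat.card F ≠ 9 := fun h => hpσ (by
      have hFE : F = E := eq_of_le_of_card_ge inf_le_left (by rw [h, hE9])
      exact (mem_centralizer_singleton_iff.1 (hFE.symm ▸ hσE : σ ∈ F).2).symm)
    rw [hk] at hne ⊢
    interval_cases k <;> omega
  set d := σ⁻¹ * (p * σ * p⁻¹) with hd
  have hdE : d ∈ E := mul_mem (inv_mem hσE) ((mem_normalizer_iff.1 hpN σ).1 hσE)
  have hd1 : d ≠ 1 := fun h => hpσ (mul_inv_eq_iff_eq_mul.1 (inv_mul_eq_one.1 h).symm)
  -- the commutator is fixed by `p`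
  have hdF : d ∈ zpowers u := by
    rw [← hFle]
    let δ : E →* E :=
      { toFun := fun x => ⟨(x : G)⁻¹ * (p * x * p⁻¹), mul_mem (inv_mem x.2) ((mem_normalizer_iff.1 hpN x).1 x.2)⟩
        map_one' := Subtype.ext (by simp)
        map_mul' := fun x y => Subtype.ext (by
          show ((x : G) * y)⁻¹ * (p * ((x : G) * y) * p⁻¹) = (x : G)⁻¹ * (p * x * p⁻¹) * ((y : G)⁻¹ * (p * y * p⁻¹))
          have h1 := hcomm _ ((mem_normalizer_iff.1 hpN x).1 x.2) _ (inv_mem y.2)
          calc ((x : G) * y)⁻¹ * (p * ((x : G) * y) * p⁻¹)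
              = (y : G)⁻¹ * (x : G)⁻¹ * (p * x * p⁻¹) * (p * y * p⁻¹) := by group
            _ = (x : G)⁻¹ * (y : G)⁻¹ * (p * x * p⁻¹) * (p * y * p⁻¹) := by
                rw [hcomm _ (inv_mem y.2) _ (inv_mem x.2)]
            _ = (x : G)⁻¹ * ((p * x * p⁻¹) * (y : G)⁻¹) * (p * y * p⁻¹) := by
                rw [mul_assoc ((x : G)⁻¹), h1]
            _ = _ := by group) }
    have hker : 3 ≤ Nat.card δ.ker := by
      rw [← hu3, ← Nat.card_zpowers, ← hFle]
      refine Nat.card_le_card_of_injective (fun x : F => (⟨⟨x, x.2.1⟩, Subtype.ext (by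
        show (x : G)⁻¹ * (p * x * p⁻¹) = 1
        rw [← mem_centralizer_singleton_iff.1 x.2.2, mul_inv_cancel_right, inv_mul_cancel])⟩ : δ.ker)) ?_
      intro x y h
      exact Subtype.ext (congrArg (fun q : δ.ker => ((q : E) : G)) h :)
    have hkr := card_mul_index δ.ker
    rw [index_ker, hE9] at hkr
    have hrange : Nat.card δ.range = 3 := by
      have hpos : Nat.card δ.range ≠ 1 := fun h => hd1 (by
        have hb' := card_eq_one.1 h
        have : δ ⟨σ, hσE⟩ ∈ δ.range := ⟨_, rfl⟩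
        rw [hb', mem_bot] at this
        exact congrArg Subtype.val this)
      have hdvd : Nat.card δ.range ∣ 3 ^ 2 := ⟨Nat.card δ.ker, by rw [mul_comm, hkr]; norm_num⟩
      obtain ⟨k, hk2, hk⟩ := (Nat.dvd_prime_pow Nat.prime_three).1 hdvd
      rw [hk] at hkr hpos ⊢
      interval_cases k
      · exact absurd (pow_zero 3) hpos
      · norm_num
      · exfalso; nlinarith
    set L := δ.range.map E.subtype with hL
    have hLc : Nat.card L = 3 := by
      rw [← Nat.card_congr (δ.range.equivMapOfInjective _ E.subtype_injective).toEquiv, hrange]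
    have hdL : d ∈ L := ⟨δ ⟨σ, hσE⟩, ⟨_, rfl⟩, rfl⟩
    have hpd : p * d * p⁻¹ ∈ L := by
      refine ⟨δ ⟨p * σ * p⁻¹, (mem_normalizer_iff.1 hpN σ).1 hσE⟩, ⟨_, rfl⟩, ?_⟩
      show (p * σ * p⁻¹)⁻¹ * (p * (p * σ * p⁻¹) * p⁻¹) = p * d * p⁻¹
      rw [hd]; group
    have hd3 : orderOf d = 3 := orderOf_eq_prime (hexp d hdE) hd1
    have hLd : zpowers d = L := eq_of_le_of_card_ge (zpowers_le.2 hdL) (by rw [Nat.card_zpowers, hd3, hLc])
    refine mem_inf.2 ⟨hdE, mem_centralizer_singleton_iff.2 ?_⟩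
    rw [← hLd] at hpd
    obtain ⟨k, hk⟩ := mem_zpowers_iff.1 hpd
    -- a 3-element fixing a line of order three fixes it pointwise
    have hp3 : ∀ i : ℕ, p ^ i * d * (p ^ i)⁻¹ = d ^ k ^ i := by
      intro i
      induction i with
      | zero => simp
      | succ i ih =>
        calc p ^ (i + 1) * d * (p ^ (i + 1))⁻¹ = p * (p ^ i * d * (p ^ i)⁻¹) * p⁻¹ := by rw [pow_succ']; group
          _ = (p * d * p⁻¹) ^ k ^ i := by rw [ih, conj_zpow]
          _ = d ^ k ^ (i + 1) := by rw [← hk, ← zpow_mul, ← pow_succ']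
    have h27 := hp3 27
    rw [show p ^ 27 = 1 from orderOf_dvd_iff_pow_eq_one.1 (by simpa using hp27), one_mul, inv_one, mul_one] at h27
    have hk1 : (k : ℤ) % 3 = 1 := by
      have h' : (3 : ℤ) ∣ k ^ 27 - 1 := by
        have h' : d ^ (k ^ 27 - 1) = 1 := by
          rw [zpow_sub, ← h27, zpow_one, mul_inv_cancel]
        rw [← orderOf_dvd_iff_zpow_eq_one, hd3] at h'
        exact_mod_cast h'
      have hcases : k % 3 = 0 ∨ k % 3 = 1 ∨ k % 3 = 2 := by omega
      have hm : (k ^ 27) % 3 = ((k % 3) ^ 27) % 3 := ((Int.mod_modEq k 3).pow 27).symm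
      rcases hcases with e | e | e
      · rw [e] at hm; norm_num at hm; omega
      · exact e
      · rw [e] at hm; norm_num at hm; omega
    have : d ^ k = d := by
      rw [← zpow_mod_orderOf, hd3]
      have : k % ((3 : ℕ) : ℤ) = 1 := by exact_mod_cast hk1
      rw [this, zpow_one]
    rw [this] at hk
    exact (mul_inv_eq_iff_eq_mul.1 hk.symm).symm
  have hu_d : zpowers d = zpowers u := zpowers_eq_of_prime hu3 hdF hd1
  have hud : u ∈ zpowers d := hu_d.symm ▸ mem_zpowers u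
  have hPu : (P : Subgroup G) ≤ centralizer ({u} : Set G) := by
    -- `P` is generated by `E` and `p`
    set M := (P : Subgroup G) ⊓ centralizer ({u} : Set G) with hM
    have hEM : E ≤ M := fun x hx => mem_inf.2 ⟨hEP hx, mem_centralizer_singleton_iff.2 (hcomm x hx u huF.1)⟩
    have hpM : p ∈ M := mem_inf.2 ⟨hp, mem_centralizer_singleton_iff.2
      (mem_centralizer_singleton_iff.1 huF.2).symm⟩
    have hne : Nat.card M ≠ 9 := fun h => by
      have hME : E = M := eq_of_le_of_card_ge hEM (by rw [h, hE9])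
      exact hpσ (hcomm p (hME.symm ▸ hpM) σ hσE)
    obtain ⟨k, hk3, hk⟩ := (Nat.dvd_prime_pow Nat.prime_three).1
      (show Nat.card M ∣ 3 ^ 3 by rw [show 3 ^ 3 = 27 from rfl, ← hP]; exact card_dvd_of_le inf_le_left)
    have h9 : 9 ≤ Nat.card M := hE9 ▸ card_le_of_le hEM
    rw [hk] at hne h9
    have hk' : k = 3 := by interval_cases k <;> omega
    have hMP : M = (P : Subgroup G) := eq_of_le_of_card_ge inf_le_left (by rw [hk, hk', hP]; norm_num)
    exact fun x hx => (hMP.symm ▸ hx : x ∈ M).2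
  by_cases ha1 : a = 1
  · rw [ha1, one_mul] at huab
    subst huab
    have h := card_le_of_le hPu
    rw [centralizer_eq_of_zpowers T.hρo hb hu1, T.ρ_cent.1, hP] at h
    have hd' := card_dvd_of_le hPu
    rw [centralizer_eq_of_zpowers T.hρo hb hu1, T.ρ_cent.1, hP] at hd'
    norm_num at hd'
  by_cases hb1 : b = 1
  · rw [hb1, mul_one] at huab
    subst huab
    refine hpσ ?_
    have := hPu hp
    rw [centralizer_eq_of_zpowers T.hσo ha ha1] at this
    exact mem_centralizer_singleton_iff.1 this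
  -- a conjugate of `σ` lies in `⟨ρ⟩`
  have hσd : ∀ i : ℕ, p ^ i * σ * (p ^ i)⁻¹ = σ * d ^ i := by
    intro i
    induction i with
    | zero => simp
    | succ i ih =>
      have hdp : Commute p (d ^ i) := by
        have hdC : d ∈ F := hFle.symm ▸ hdF
        exact (show Commute p d from (mem_centralizer_singleton_iff.1 hdC.2).symm).pow_right i
      calc p ^ (i + 1) * σ * (p ^ (i + 1))⁻¹ = p * (p ^ i * σ * (p ^ i)⁻¹) * p⁻¹ := by rw [pow_succ']; group
        _ = p * σ * p⁻¹ * (p * d ^ i * p⁻¹) := by rw [ih]; group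
        _ = σ * d * d ^ i := by
          rw [hdp.eq, mul_inv_cancel_right, hd, mul_inv_cancel_left]
        _ = σ * d ^ (i + 1) := by rw [mul_assoc, ← pow_succ']
  obtain ⟨j, hj⟩ : ∃ j : ℕ, d ^ j = u := by
    rw [← Submonoid.mem_powers_iff, mem_powers_iff_mem_zpowers]; exact hud
  obtain ⟨l, hl⟩ : ∃ l : ℕ, a ^ l = σ⁻¹ := by
    rw [← Submonoid.mem_powers_iff, mem_powers_iff_mem_zpowers, zpowers_eq_of_prime T.hσo ha ha1]
    exact inv_mem (mem_zpowers σ)
  refine T.not_conj (g := p ^ (j * l)) ?_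
  rw [hσd, pow_mul, hj, huab,
    (show Commute a b from T.nd.hKB a (zpowers_le.2 T.hσ ha) b (zpowers_le.2 T.hρ hb)).mul_pow, hl,
    mul_inv_cancel_left]
  exact pow_mem hb l

/-- The centralizer of `σ` has order 1080. -/
theorem σ_card [Finite G] : Nat.card (centralizer ({σ} : Set G)) = 1080 := by
  classical
  haveI := Fintype.ofFinite G
  haveI : Fact (Nat.Prime 2) := ⟨Nat.prime_two⟩
  haveI : Fact (Nat.Prime 5) := ⟨by norm_num⟩
  have n := T.nd
  have hG := n.card_G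
  obtain ⟨h24, -, hq8, hcen, u, huQ, hu2, hu1, huz, hur⟩ := n.dd.pr.st.cent_three T.σH T.hσo
  set C := centralizer ({σ} : Set G) with hC
  have hzC : z ∈ C := mem_centralizer_singleton_iff.2 T.σz.symm
  have h := card_class_mul hzC
  rw [show C ⊓ centralizer ({z} : Set G) = centralizer ({z} : Set G) ⊓ C from inf_comm _ _, h24] at h
  set M := Nat.card {y : G // ∃ c ∈ C, c * z * c⁻¹ = y} with hM
  have hM315 : M < 315 := by
    have e := CfsgLib.Invol.card_conjugates_mul z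
    rw [n.dd.pr.st.hH, hG] at e
    have e' : Nat.card {y : G // IsConj z y} = 315 := by omega
    rw [← e', hM, Nat.card_eq_fintype_card, Nat.card_eq_fintype_card, Fintype.card_subtype, Fintype.card_subtype]
    refine Finset.card_lt_card ?_
    rw [Finset.ssubset_iff_of_subset (fun x hx => by
      obtain ⟨c, -, rfl⟩ := (Finset.mem_filter.1 hx).2
      exact Finset.mem_filter.2 ⟨Finset.mem_univ _, isConj_conj c z⟩)]
    refine ⟨u, Finset.mem_filter.2 ⟨Finset.mem_univ _, n.dd.pr.st.q_conj huQ hu2 hu1⟩, fun hmem => hur ?_⟩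
    obtain ⟨c, hc, e⟩ := (Finset.mem_filter.1 hmem).2
    rw [← e]
    exact mem_centralizer_singleton_iff.1 (mul_mem (mul_mem hc hzC) (inv_mem hc))
  obtain ⟨P, E, hP27, -, hPC, -⟩ := T.exists_sylow
  have h27 : 27 ∣ Nat.card C := hP27 ▸ card_dvd_of_le hPC
  have h5 : 5 ∣ Nat.card C := by
    obtain ⟨eB⟩ := n.dd.hB
    refine dvd_trans ?_ (card_dvd_of_le (show B ≤ C from fun b hb => mem_centralizer_singleton_iff.2
      (n.hKB σ T.hσ b hb).symm))
    rw [Nat.card_congr eB.toEquiv, a5_card]; norm_num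
  have h25 : ¬ 25 ∣ Nat.card C := by
    intro hd
    obtain ⟨X, hX⟩ := Sylow.exists_subgroup_card_pow_prime (G := C) 5 (n := 2) (by simpa using hd)
    have hXc : Nat.card (X.map C.subtype) = 25 := by
      rw [← Nat.card_congr (X.equivMapOfInjective _ C.subtype_injective).toEquiv, hX]; norm_num
    obtain ⟨P5, hP5⟩ := (IsPGroup.of_card (p := 5) (G := X.map C.subtype) (n := 2)
      (by rw [hXc]; norm_num)).exists_le_sylow
    have hP5c := (n.sylow_five P5).1
    have e : X.map C.subtype = (P5 : Subgroup G) := eq_of_le_of_card_ge hP5 (by rw [hXc, hP5c])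
    have hσP : σ ∈ centralizer ((P5 : Subgroup G) : Set G) := mem_centralizer_iff.2 fun x hx =>
      mem_centralizer_singleton_iff.1 (map_subtype_le X (e.symm ▸ hx : x ∈ X.map C.subtype))
    rw [n.five_self_cent P5] at hσP
    have := Subgroup.orderOf_dvd_natCard _ hσP
    rw [hP5c, T.hσo] at this
    norm_num at this
  have h16 : ¬ 16 ∣ Nat.card C := by
    intro hd
    set Q8 := Q ⊓ centralizer ({σ} : Set G) with hQ8
    have hQC : Q8 ≤ C := inf_le_right
    have hQ8' : Nat.card (Q8.subgroupOf C) = 2 ^ 3 := by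
      rw [Nat.card_congr (subgroupOfEquivOfLe hQC).toEquiv, hq8]; norm_num
    obtain ⟨L, hL, hle⟩ := Sylow.exists_subgroup_card_pow_succ (n := 3) (show 2 ^ (3 + 1) ∣ Nat.card C from hd) hQ8'
    set L' := L.map C.subtype with hL'
    have hLc : Nat.card L' = 16 := by
      rw [← Nat.card_congr (L.equivMapOfInjective _ C.subtype_injective).toEquiv, hL]; norm_num
    have hQL : Q8 ≤ L' := fun x hx => ⟨⟨x, hQC hx⟩, hle hx, rfl⟩
    haveI hnorm : (Q8.subgroupOf L').Normal := by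
      refine Subgroup.normal_of_index_eq_two ?_
      have h := card_mul_index (Q8.subgroupOf L')
      rw [Nat.card_congr (subgroupOfEquivOfLe hQL).toEquiv, hq8, hLc] at h
      omega
    have hzQ8 : z ∈ Q8 := mem_inf.2 ⟨n.dd.pr.st.z_mem, hzC⟩
    have hsub : L' ≤ centralizer ({z} : Set G) ⊓ C := by
      intro x hx
      refine mem_inf.2 ⟨?_, map_subtype_le L hx⟩
      have hxz : x * z * x⁻¹ ∈ Q8 := hnorm.conj_mem ⟨z, hQL hzQ8⟩ hzQ8 ⟨x, hx⟩
      rcases hcen _ hxz.1 (mem_centralizer_singleton_iff.1 hxz.2) (fun q hq hqσ => by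
        have hq' : x⁻¹ * q * x ∈ Q8 := by
          have := hnorm.conj_mem ⟨q, hQL (mem_inf.2 ⟨hq, mem_centralizer_singleton_iff.2 hqσ⟩)⟩
            (mem_inf.2 ⟨hq, mem_centralizer_singleton_iff.2 hqσ⟩) ⟨x⁻¹, inv_mem hx⟩
          simpa [mem_subgroupOf] using this
        calc x * z * x⁻¹ * q = x * (z * (x⁻¹ * q * x)) * x⁻¹ := by group
          _ = x * ((x⁻¹ * q * x) * z) * x⁻¹ := by rw [n.dd.pr.st.qz hq'.1]
          _ = q * (x * z * x⁻¹) := by group) with e | e
      · exact absurd (conj_eq_one_iff.1 e) n.dd.pr.st.z_ne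
      · exact mem_centralizer_singleton_iff.2 (mul_inv_eq_iff_eq_mul.1 e)
    have hdd := card_dvd_of_le hsub
    rw [hLc, h24] at hdd
    norm_num at hdd
  have hdG : Nat.card C ∣ 604800 := hG ▸ card_subgroup_dvd_card C
  rw [← h] at h27 h5 h25 h16 hdG ⊢
  obtain ⟨k, hk⟩ : 45 ∣ M := by
    have h9 : 9 ∣ M := by omega
    have h5' : 5 ∣ M := by omega
    exact Nat.Coprime.mul_dvd_of_dvd_of_dvd (by norm_num : Nat.Coprime 9 5) h9 h5'
  rw [hk] at h25 h16 hdG hM315 ⊢
  have hk7 : k < 7 := by omega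
  interval_cases k <;> omega

end TData

end CfsgLib.HJType
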