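import Mathlib
import Cfsg.Agent.Lib.HJType.Three
import Cfsg.Agent.Lib.HJType.Cube

/-!
Groups of Hall-Janko type: the Sylow 3-subgroup and the two classes of elements of order three.
-/

set_option autoImplicit false
set_option linter.style.haveILetI false
set_option linter.unusedSectionVars false

namespace CfsgLib.HJType

open Subgroup

variable {G : Type*} [Group G] {z : G} {Q : Subgroup G}

namespace TData

variable {t : G} {V B K : Subgroup G} {σ ρ : G} (T : TData z t Q V B K σ ρ)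
include T

theorem cent_ρ_E [Finite G] {E : Subgroup G} (hσE : σ ∈ E) (hdec : ∀ x ∈ E, ∃ a ∈ zpowers σ, ∃ b ∈ zpowers ρ, x = a * b) :
    Nat.card ↥(normalizer (E : Set G) ⊓ centralizer ({ρ} : Set G)) ≤ 9 := by
  have n := T.nd
  set S := normalizer (E : Set G) ⊓ centralizer ({ρ} : Set G) with hS
  have hVC : V ≤ centralizer ({ρ} : Set G) := fun v hv =>
    mem_centralizer_singleton_iff.2 (n.dd.hcomm v hv ρ T.hρ)
  have hinf : ∀ v ∈ V, v ∈ S → v = 1 := by
    intro v hv hvS
    by_contra hv1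
    have hvσ : v * σ * v⁻¹ ∈ E := (mem_normalizer_iff.1 hvS.1 σ).1 hσE
    obtain ⟨a, ha, b, hb, e⟩ := hdec _ hvσ
    have hK : v * σ * v⁻¹ ∈ K := mul_mem (mul_mem (n.hVK hv) T.hσ) (inv_mem (n.hVK hv))
    have hb1 : b = 1 := n.hKinf _ (by
      have := mul_mem (inv_mem (zpowers_le.2 T.hσ ha)) hK
      rwa [e, inv_mul_cancel_left] at this) (zpowers_le.2 T.hρ hb)
    rw [hb1, mul_one] at e
    -- the commutator lies in `V` and in `⟨σ⟩`
    have hcV : v * σ * v⁻¹ * σ⁻¹ ∈ V := by
      have := mul_mem hv ((mem_normalizer_iff.1 (n.hKN T.hσ) _).1 (inv_mem hv))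
      simpa [mul_assoc] using this
    have hcσ : v * σ * v⁻¹ * σ⁻¹ ∈ zpowers σ := by rw [e]; exact mul_mem ha (inv_mem (mem_zpowers σ))
    have h1 := Subgroup.orderOf_dvd_natCard _ hcV
    have h2 := Subgroup.orderOf_dvd_natCard _ hcσ
    rw [n.dd.hVc] at h1
    rw [Nat.card_zpowers, T.hσo] at h2
    have h0 := orderOf_eq_one_iff.1 (Nat.eq_one_of_dvd_one ((by norm_num : Nat.gcd 4 3 = 1) ▸ Nat.dvd_gcd h1 h2))
    have hvs : v * σ = σ * v := mul_inv_eq_iff_eq_mul.1 (mul_inv_eq_one.1 h0)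
    have hσD : σ ∈ centralizer ({t} : Set G) := by
      rw [← n.dd.cent_V hv hv1]
      exact mem_centralizer_singleton_iff.2 hvs.symm
    have := Subgroup.orderOf_dvd_natCard _ (n.K_mem_D T.hσ (mem_centralizer_singleton_iff.1 hσD))
    rw [n.dd.hVc, T.hσo] at this
    norm_num at this
  have hle : Nat.card (V × S) ≤ Nat.card (centralizer ({ρ} : Set G)) := by
    refine Nat.card_le_card_of_injective
      (fun p => (⟨(p.1 : G) * p.2, mul_mem (hVC p.1.2) p.2.2.2⟩ : centralizer ({ρ} : Set G))) ?_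
    rintro ⟨v, s⟩ ⟨v', s'⟩ h
    have h' : (v : G) * s = v' * s' := congrArg Subtype.val h
    have h2 : (v' : G)⁻¹ * v = s' * (s : G)⁻¹ := by
      rw [inv_mul_eq_iff_eq_mul, ← mul_assoc, ← h', mul_inv_cancel_right]
    have h4 := hinf _ (mul_mem (inv_mem v'.2) v.2) (h2 ▸ mul_mem s'.2 (inv_mem s.2))
    rw [inv_mul_eq_one] at h4
    rw [h4] at h'
    exact Prod.ext (Subtype.ext h4.symm) (Subtype.ext (mul_left_cancel h'))
  rw [Nat.card_prod, n.dd.hVc, T.ρ_cent.1] at hle
  omega

theorem card_norm_E [Finite G] {E : Subgroup G} (hE9 : Nat.card E = 9) (hσE : σ ∈ E) (hρE : ρ ∈ E)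
    (hdec : ∀ x ∈ E, ∃ a ∈ zpowers σ, ∃ b ∈ zpowers ρ, x = a * b) :
    Nat.card (normalizer (E : Set G)) ≤ 54 := by
  classical
  haveI := Fintype.ofFinite G
  haveI : Fact (Nat.Prime 3) := ⟨Nat.prime_three⟩
  set N := normalizer (E : Set G) with hN
  have hρN : ρ ∈ N := le_normalizer hρE
  have h := card_class_mul hρN
  set O := Finset.univ.filter (fun y => ∃ m ∈ N, m * ρ * m⁻¹ = y) with hO
  have hOc : Nat.card {y : G // ∃ m ∈ N, m * ρ * m⁻¹ = y} = O.card := by
    rw [Nat.card_eq_fintype_card, Fintype.card_subtype]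
  have hOle : O ⊆ (Finset.univ.filter fun y => y ∈ E) \ (Finset.univ.filter fun y => y ∈ zpowers σ) := by
    intro y hy
    obtain ⟨m, hm, rfl⟩ := (Finset.mem_filter.1 hy).2
    simp only [Finset.mem_sdiff, Finset.mem_filter, Finset.mem_univ, true_and]
    refine ⟨(mem_normalizer_iff.1 hm ρ).1 hρE, fun hmem => T.not_conj (g := m⁻¹) ?_⟩
    have hne : m * ρ * m⁻¹ ≠ 1 := fun e => T.ρ_ne (conj_eq_one_iff.1 e)
    obtain ⟨k, hk⟩ := mem_zpowers_iff.1
      ((zpowers_eq_of_prime T.hσo hmem hne).symm ▸ mem_zpowers σ : σ ∈ zpowers (m * ρ * m⁻¹))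
    refine ⟨k, ?_⟩
    show ρ ^ k = m⁻¹ * σ * m⁻¹⁻¹
    rw [← hk, conj_zpow]
    group
  have h6 : ((Finset.univ.filter fun y => y ∈ E) \ (Finset.univ.filter fun y => y ∈ zpowers σ)).card = 6 := by
    rw [Finset.card_sdiff_of_subset (fun y hy => Finset.mem_filter.2 ⟨Finset.mem_univ _,
      zpowers_le.2 hσE (Finset.mem_filter.1 hy).2⟩), ← Fintype.card_subtype, ← Fintype.card_subtype,
      ← Nat.card_eq_fintype_card, ← Nat.card_eq_fintype_card, hE9, Nat.card_zpowers, T.hσo]
  have h9 := T.cent_ρ_E hσE hdec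
  have hO6 := h6 ▸ Finset.card_le_card hOle
  rw [hOc] at h
  rw [← h]
  exact (Nat.mul_le_mul hO6 h9).trans (by norm_num)

theorem σ_inv [Finite G] : ∃ h ∈ centralizer ({z} : Set G), h * σ * h⁻¹ = σ⁻¹ :=
  T.nd.dd.pr.st.conj_three T.σH (inv_mem T.σH) T.hσo (by rw [orderOf_inv, T.hσo])

/-- The normalizer of a Sylow 3-subgroup, and the elements outside its centre. -/
theorem exists_P [Finite G] : ∃ P : Sylow 3 G, Nat.card P = 27 ∧ Cfsg.IsExtraspecial 3 (P : Subgroup G) ∧
    Nat.card (normalizer ((P : Subgroup G) : Set G)) = 216 ∧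
    ∀ x ∈ (P : Subgroup G), x ≠ 1 → IsConj x σ ∨ IsConj x ρ := by
  classical
  haveI := Fintype.ofFinite G
  haveI : Fact (Nat.Prime 3) := ⟨Nat.prime_three⟩
  have n := T.nd
  obtain ⟨P, E, hP, hEP, hPC, hPE, hE9, hσE, hρE, hcomm, hdec⟩ := T.exists_sylow
  set C := centralizer ({σ} : Set G) with hC
  have hC1080 := T.σ_card
  have hPρ : ¬ (P : Subgroup G) ≤ centralizer ({ρ} : Set G) := fun h => by
    have := card_dvd_of_le h
    rw [hP, T.ρ_cent.1] at this
    norm_num at this
  have hnab : ∃ a b : (P : Subgroup G), a * b ≠ b * a := by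
    by_contra h
    push Not at h
    exact hPρ fun x hx => mem_centralizer_singleton_iff.2 (congrArg Subtype.val (h ⟨x, hx⟩ ⟨ρ, hEP hρE⟩))
  have hext := isExtraspecial_of_nonabelian_cube (p := 3) (Q := (P : Subgroup G)) (by rw [hP]; norm_num) hnab
  -- the centre of `P`
  have hcenter : ∀ x : (P : Subgroup G), x ∈ Subgroup.center ↥(P : Subgroup G) → (x : G) ∈ zpowers σ := by
    intro x hx
    have hσc : (⟨σ, hEP hσE⟩ : (P : Subgroup G)) ∈ Subgroup.center ↥(P : Subgroup G) :=
      mem_center_iff.2 fun y => Subtype.ext (mem_centralizer_singleton_iff.1 (hPC y.2))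
    have he : zpowers (⟨σ, hEP hσE⟩ : (P : Subgroup G)) = Subgroup.center ↥(P : Subgroup G) :=
      eq_of_le_of_card_ge (zpowers_le.2 hσc) (by rw [Nat.card_zpowers, ← orderOf_coe, hext.2]; exact T.hσo.ge)
    rw [← he] at hx
    obtain ⟨k, hk⟩ := mem_zpowers_iff.1 hx
    exact ⟨k, congrArg Subtype.val hk⟩
  have hN54 := T.card_norm_E hE9 hσE hρE hdec
  set NP := normalizer ((P : Subgroup G) : Set G) with hNP
  -- the number of Sylow subgroups of the centralizer of `σ`
  set P' := P.subtype hPC with hP'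
  set NC := normalizer ((P' : Subgroup C) : Set C) with hNC
  have hnn : Nat.card ↥(C ⊓ NP) = Nat.card NC := by
    refine Nat.card_congr
      { toFun := fun a => ⟨⟨a, a.2.1⟩, mem_normalizer_iff.2 fun y => mem_normalizer_iff.1 a.2.2 y⟩
        invFun := fun a => ⟨(a : C), (a : C).2, mem_normalizer_iff.2 fun y => ?_⟩
        left_inv := fun _ => rfl
        right_inv := fun _ => rfl }
    constructor
    · intro hy
      exact (mem_normalizer_iff.1 a.2 ⟨y, hPC hy⟩).1 hy
    · intro hy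
      have hyC : y ∈ C := by
        have := mul_mem (mul_mem (inv_mem (a : C).2) (hPC hy)) (a : C).2
        rwa [show ((a : C) : G)⁻¹ * ((a : C) * y * ((a : C) : G)⁻¹) * (a : C) = y by group] at this
      exact (mem_normalizer_iff.1 a.2 ⟨y, hyC⟩).2 hy
  have hP'c : Nat.card (P' : Subgroup C) = 27 := by
    rw [hP', Sylow.coe_subtype, Nat.card_congr (subgroupOfEquivOfLe hPC).toEquiv, hP]
  set s := Nat.card (Sylow 3 C) with hs
  have hsidx : s = NC.index := Sylow.card_eq_index_normalizer P'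
  have hNmul : Nat.card NC * s = 1080 := by rw [hsidx, card_mul_index]; exact hC1080
  have hBC : B ≤ C := fun b hb => mem_centralizer_singleton_iff.2 (n.hKB σ T.hσ b hb).symm
  obtain ⟨eB⟩ := n.dd.hB
  haveI : IsSimpleGroup B := by
    haveI := a5_simple
    haveI : Nontrivial B := eB.toEquiv.nontrivial
    exact IsSimpleGroup.isSimpleGroup_of_surjective eB.symm.toMonoidHom eB.symm.surjective
  have hBnot : ¬ (∀ b ∈ B, b ∈ NP) := by
    intro h
    haveI hn : ((P : Subgroup G).subgroupOf B).Normal := ⟨fun x hx g => by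
      rw [mem_subgroupOf] at hx ⊢
      exact (mem_normalizer_iff.1 (h g g.2) x).1 hx⟩
    rcases hn.eq_bot_or_eq_top with e | e
    · have : (⟨ρ, T.hρ⟩ : B) ∈ (P : Subgroup G).subgroupOf B := hEP hρE
      rw [e, mem_bot] at this
      exact T.ρ_ne (congrArg Subtype.val this)
    · have hd := card_dvd_of_le (subgroupOf_eq_top.1 e)
      rw [hP, Nat.card_congr eB.toEquiv, a5_card] at hd
      norm_num at hd
  have hs4 : 4 < s := by
    by_contra hle
    push Not at hle
    let θ : B →* Equiv.Perm (Sylow 3 C) := (MulAction.toPermHom C (Sylow 3 C)).comp (Subgroup.inclusion hBC)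
    have hker : θ.ker = ⊤ := by
      rcases (inferInstance : θ.ker.Normal).eq_bot_or_eq_top with e | e
      · exfalso
        have hinj : Function.Injective θ := (MonoidHom.ker_eq_bot_iff θ).1 e
        have hh := Nat.card_le_card_of_injective θ hinj
        rw [Nat.card_congr eB.toEquiv, a5_card, Nat.card_perm, ← hs] at hh
        have := Nat.factorial_le hle
        rw [show Nat.factorial 4 = 24 from rfl] at this
        omega
      · exact e
    refine hBnot fun b hb => ?_
    have hbk : θ ⟨b, hb⟩ = 1 := (hker.symm ▸ mem_top _ : (⟨b, hb⟩ : B) ∈ θ.ker)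
    have hmem : (⟨b, hBC hb⟩ : C) ∈ NC := Sylow.smul_eq_iff_mem_normalizer.1 (Equiv.Perm.ext_iff.1 hbk P')
    refine mem_normalizer_iff.2 fun y => ⟨fun hy => (mem_normalizer_iff.1 hmem ⟨y, hPC hy⟩).1 hy, fun hy => ?_⟩
    have hyC : y ∈ C := by
      have := mul_mem (mul_mem (inv_mem (hBC hb)) (hPC hy)) (hBC hb)
      rwa [show b⁻¹ * (b * y * b⁻¹) * b = y by group] at this
    exact (mem_normalizer_iff.1 hmem ⟨y, hyC⟩).2 hy
  -- an involution of `B` inverting `ρ` normalises `P`
  have heven : 2 ∣ Nat.card NC := by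
    obtain ⟨c, hc2, hcr⟩ := a5_three_inv (eB ⟨ρ, T.hρ⟩) (by
      rw [← map_pow, ← map_one eB]
      exact congrArg eB (Subtype.ext (show ρ ^ 3 = 1 by rw [← T.hρo, pow_orderOf_eq_one])))
    set w := eB.symm c with hw
    have hwr : (w : G) * ρ * (w : G)⁻¹ = ρ⁻¹ := by
      have e : w * ⟨ρ, T.hρ⟩ * w⁻¹ = ⟨ρ, T.hρ⟩⁻¹ := eB.injective (by
        rw [map_mul, map_mul, map_inv, map_inv, hw, eB.apply_symm_apply, hcr])
      exact congrArg Subtype.val e
    have hw2 : (w : G) * w = 1 := by rw [hw, ← coe_mul, ← map_mul, hc2, map_one, coe_one]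
    have hw1 : (w : G) ≠ 1 := fun e => by
      rw [e, one_mul, inv_one, mul_one] at hwr
      have := orderOf_dvd_of_pow_eq_one (show ρ ^ 2 = 1 by rw [pow_two]; nth_rewrite 2 [hwr]; rw [mul_inv_cancel])
      rw [T.hρo] at this
      norm_num at this
    have hwC : (w : G) ∈ C := hBC w.2
    have hwσ : (w : G) * σ * (w : G)⁻¹ = σ := mul_inv_eq_iff_eq_mul.2 (mem_centralizer_singleton_iff.1 hwC)
    have key : ∀ x ∈ E, (w : G) * x * (w : G)⁻¹ ∈ E := by
      intro x hx
      obtain ⟨a, ha, b, hb, rfl⟩ := hdec x hx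
      obtain ⟨i, hi⟩ := mem_zpowers_iff.1 ha
      obtain ⟨j, hj⟩ := mem_zpowers_iff.1 hb
      rw [← hi, ← hj, show (w : G) * (σ ^ i * ρ ^ j) * (w : G)⁻¹ =
        ((w : G) * σ ^ i * (w : G)⁻¹) * ((w : G) * ρ ^ j * (w : G)⁻¹) by group, ← conj_zpow, ← conj_zpow, hwσ, hwr]
      exact mul_mem (zpow_mem hσE i) (zpow_mem (inv_mem hρE) j)
    have hwi : (w : G)⁻¹ = w := inv_eq_of_mul_eq_one_right hw2
    have hwE : (w : G) ∈ normalizer (E : Set G) := mem_normalizer_iff.2 fun x => ⟨key x, fun hx => by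
      have := key _ hx
      rwa [hwi, show (w : G) * ((w : G) * x * w) * w = (w : G) * w * x * ((w : G) * w) by group, hw2, one_mul,
        mul_one] at this⟩
    -- `P` is normal in the normalizer of `E` inside `C`
    set M := C ⊓ normalizer (E : Set G) with hM
    have hPM : (P : Subgroup G) ≤ M := fun x hx => mem_inf.2 ⟨hPC hx, hPE hx⟩
    have hM54 : Nat.card M ≤ 54 := (card_le_of_le inf_le_right).trans hN54
    have hidx := card_mul_index ((P : Subgroup G).subgroupOf M)
    rw [Nat.card_congr (subgroupOfEquivOfLe hPM).toEquiv, hP] at hidx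
    haveI hn : ((P : Subgroup G).subgroupOf M).Normal := by
      have h12 : ((P : Subgroup G).subgroupOf M).index = 1 ∨ ((P : Subgroup G).subgroupOf M).index = 2 := by
        have hpos : ((P : Subgroup G).subgroupOf M).index ≠ 0 := index_ne_zero_of_finite
        omega
      rcases h12 with h1 | h1
      · rw [index_eq_one.1 h1]; infer_instance
      · exact normal_of_index_eq_two h1
    have hwM : (w : G) ∈ M := mem_inf.2 ⟨hwC, hwE⟩
    have hwN : (w : G) ∈ NP := mem_normalizer_iff.2 fun x => by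
      constructor
      · intro hx
        exact hn.conj_mem ⟨x, hPM hx⟩ hx ⟨w, hwM⟩
      · intro hx
        have := hn.conj_mem ⟨(w : G) * x * (w : G)⁻¹, hPM hx⟩ hx ⟨(w : G)⁻¹, inv_mem hwM⟩
        simpa [mem_subgroupOf, mul_assoc] using this
    rw [← hnn, ← (orderOf_two_iff.2 ⟨hw2, hw1⟩)]
    exact Subgroup.orderOf_dvd_natCard _ (mem_inf.2 ⟨hwC, hwN⟩)
  have hs10 : s = 10 := by
    have hdiv := P'.card_dvd_index
    have hidx := card_mul_index (P' : Subgroup C)
    rw [hP'c, hC1080] at hidx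
    have hmod : s % 3 = 1 := card_sylow_modEq_one 3 C
    rw [show (P' : Subgroup C).index = 40 by omega] at hdiv
    have hle := Nat.le_of_dvd (by norm_num) hdiv
    obtain ⟨r, hr⟩ := heven
    rw [hr] at hNmul
    rw [← hs] at hdiv hle
    clear * - hdiv hle hmod hs4 hNmul
    interval_cases s <;> omega
  have h108 : Nat.card ↥(C ⊓ NP) = 108 := by
    rw [hnn]
    rw [hs10] at hNmul
    omega
  -- `N(P)` inverts `σ`
  obtain ⟨h, -, hhσ⟩ := T.σ_inv
  have hCinv : ∀ x, x ∈ C ↔ h * x * h⁻¹ ∈ C := fun x => by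
    rw [hC, mem_centralizer_singleton_iff, mem_centralizer_singleton_iff]
    constructor
    · intro e
      have e' := ((Commute.conj_iff h).2 (show Commute x σ from e)).eq
      rw [hhσ] at e'
      exact (Commute.inv_right_iff.1 (show Commute (h * x * h⁻¹) σ⁻¹ from e')).eq
    · intro e
      have e' : Commute (h * x * h⁻¹) (h * σ * h⁻¹) := by
        rw [hhσ]; exact (show Commute (h * x * h⁻¹) σ from e).inv_right
      exact ((Commute.conj_iff h).1 e').eq
  set A := (P : Subgroup G).map (MulAut.conj h).toMonoidHom with hA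
  have hAC : A ≤ C := by
    rintro _ ⟨x, hx, rfl⟩
    exact (hCinv x).1 (hPC hx)
  obtain ⟨c, hc, hcA⟩ := exists_conj_eq (p := 3) (n := 3) hPC (by rw [hP]; norm_num)
    (by rw [hC1080]; norm_num) hAC (by
      rw [← Nat.card_congr ((P : Subgroup G).equivMapOfInjective _ (MulAut.conj h).injective).toEquiv, hP]
      norm_num)
  have hchN : c * h ∈ NP := mem_normalizer_iff.2 fun x => by
    rw [show c * h * x * (c * h)⁻¹ = c * (h * x * h⁻¹) * c⁻¹ by group, hcA]
    exact (mem_map_iff_mem (f := (MulAut.conj h).toMonoidHom) (MulAut.conj h).injective).symm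
  have hchσ : c * h * σ * (c * h)⁻¹ = σ⁻¹ := by
    rw [show c * h * σ * (c * h)⁻¹ = c * (h * σ * h⁻¹) * c⁻¹ by group, hhσ]
    exact mul_inv_eq_iff_eq_mul.2 ((show Commute c σ from mem_centralizer_singleton_iff.1 hc).inv_right).eq
  have hσNP : σ ∈ NP := le_normalizer (hEP hσE)
  have hline : ∀ m ∈ NP, m * σ * m⁻¹ ∈ zpowers σ := by
    intro m hm
    have hmP : m * σ * m⁻¹ ∈ (P : Subgroup G) := (mem_normalizer_iff.1 hm σ).1 (hEP hσE)
    refine hcenter ⟨_, hmP⟩ (mem_center_iff.2 fun y => Subtype.ext ?_)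
    show (y : G) * (m * σ * m⁻¹) = m * σ * m⁻¹ * y
    have hy : m⁻¹ * y * m ∈ (P : Subgroup G) := by
      have := (mem_normalizer_iff.1 (inv_mem hm) y).1 y.2
      rwa [inv_inv] at this
    calc (y : G) * (m * σ * m⁻¹) = m * ((m⁻¹ * y * m) * σ) * m⁻¹ := by group
      _ = m * (σ * (m⁻¹ * y * m)) * m⁻¹ := by rw [mem_centralizer_singleton_iff.1 (hPC hy)]
      _ = m * σ * m⁻¹ * y := by group
  have hclσ : Nat.card {y : G // ∃ m ∈ NP, m * σ * m⁻¹ = y} = 2 := by
    rw [Nat.card_eq_fintype_card, Fintype.card_subtype,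
      show (Finset.univ.filter fun y => ∃ m ∈ NP, m * σ * m⁻¹ = y) = {σ, σ⁻¹} from ?_, Finset.card_pair ?_]
    · intro e
      have := orderOf_dvd_of_pow_eq_one (show σ ^ 2 = 1 by rw [pow_two]; nth_rewrite 2 [e]; rw [mul_inv_cancel])
      rw [T.hσo] at this
      norm_num at this
    · ext y
      simp only [Finset.mem_filter, Finset.mem_univ, true_and, Finset.mem_insert, Finset.mem_singleton]
      constructor
      · rintro ⟨m, hm, rfl⟩
        have hmem := hline m hm
        rw [← mem_powers_iff_mem_zpowers, Submonoid.mem_powers_iff] at hmem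
        obtain ⟨k, hk⟩ := hmem
        rw [← hk, ← pow_mod_orderOf, T.hσo]
        have hlt : k % 3 < 3 := Nat.mod_lt _ (by norm_num)
        interval_cases hk3 : k % 3
        · exfalso
          rw [← pow_mod_orderOf, T.hσo, hk3, pow_zero] at hk
          exact T.σ_ne (conj_eq_one_iff.1 hk.symm)
        · exact Or.inl (pow_one σ)
        · exact Or.inr (eq_inv_of_mul_eq_one_left (by
            rw [← pow_succ, show 2 + 1 = orderOf σ by rw [T.hσo], pow_orderOf_eq_one]))
      · rintro (rfl | rfl)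
        · exact ⟨1, one_mem _, by simp⟩
        · exact ⟨c * h, hchN, hchσ⟩
  have h216 : Nat.card NP = 216 := by
    have e := card_class_mul hσNP
    rw [hclσ, inf_comm NP, h108] at e
    omega
  refine ⟨P, hP, hext, h216, fun x hx hx1 => ?_⟩
  by_cases hxσ : x ∈ zpowers σ
  · rw [← mem_powers_iff_mem_zpowers, Submonoid.mem_powers_iff] at hxσ
    obtain ⟨k, rfl⟩ := hxσ
    left
    rw [← pow_mod_orderOf, T.hσo] at hx1 ⊢
    have hlt : k % 3 < 3 := Nat.mod_lt _ (by norm_num)
    interval_cases hk3 : k % 3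
    · exact absurd (pow_zero σ) hx1
    · rw [pow_one]
    · refine IsConj.symm (isConj_iff.2 ⟨c * h, hchσ.trans ?_⟩)
      exact (eq_inv_of_mul_eq_one_left (by
        rw [← pow_succ, show 2 + 1 = orderOf σ by rw [T.hσo], pow_orderOf_eq_one])).symm
  right
  -- the class of `ρ` in `N(P)` is everything outside the centre
  have hρNP : ρ ∈ NP := le_normalizer (hEP hρE)
  have e := card_class_mul hρNP
  have hstab : NP ⊓ centralizer ({ρ} : Set G) ≤ normalizer (E : Set G) ⊓ centralizer ({ρ} : Set G) := by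
    intro m hm
    refine mem_inf.2 ⟨?_, hm.2⟩
    have key : ∀ m' ∈ NP, m' * ρ = ρ * m' → ∀ y ∈ E, m' * y * m'⁻¹ ∈ E := by
      intro m' hm' hm'ρ y hy
      obtain ⟨a, ha, b, hb, rfl⟩ := hdec y hy
      obtain ⟨i, hi⟩ := mem_zpowers_iff.1 ha
      obtain ⟨j, hj⟩ := mem_zpowers_iff.1 hb
      rw [← hi, ← hj, show m' * (σ ^ i * ρ ^ j) * m'⁻¹ = (m' * σ ^ i * m'⁻¹) * (m' * ρ ^ j * m'⁻¹) by group,
        ← conj_zpow, ← conj_zpow, mul_inv_eq_iff_eq_mul.2 hm'ρ]
      exact mul_mem (zpow_mem (zpowers_le.2 hσE (hline m' hm')) i) (zpow_mem hρE j)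
    refine mem_normalizer_iff.2 fun y => ⟨key m hm.1 (mem_centralizer_singleton_iff.1 hm.2) y, fun hy => ?_⟩
    have := key m⁻¹ (inv_mem hm.1) (show Commute m ρ from mem_centralizer_singleton_iff.1 hm.2).inv_left.eq _ hy
    rwa [show m⁻¹ * (m * y * m⁻¹) * m⁻¹⁻¹ = y by group] at this
  have h9 := (card_le_of_le hstab).trans (T.cent_ρ_E hσE hdec)
  set O := Finset.univ.filter (fun y => ∃ m ∈ NP, m * ρ * m⁻¹ = y) with hO
  have hOc : Nat.card {y : G // ∃ m ∈ NP, m * ρ * m⁻¹ = y} = O.card := by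
    rw [Nat.card_eq_fintype_card, Fintype.card_subtype]
  rw [hOc, h216] at e
  set R := (Finset.univ.filter fun y => y ∈ (P : Subgroup G)) \ (Finset.univ.filter fun y => y ∈ zpowers σ) with hR
  have hR24 : R.card = 24 := by
    rw [hR, Finset.card_sdiff_of_subset (fun y hy => Finset.mem_filter.2 ⟨Finset.mem_univ _,
      zpowers_le.2 (hEP hσE) (Finset.mem_filter.1 hy).2⟩), ← Fintype.card_subtype, ← Fintype.card_subtype,
      ← Nat.card_eq_fintype_card, ← Nat.card_eq_fintype_card, hP, Nat.card_zpowers, T.hσo]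
  have hOR : O ⊆ R := by
    intro y hy
    obtain ⟨m, hm, rfl⟩ := (Finset.mem_filter.1 hy).2
    simp only [hR, Finset.mem_sdiff, Finset.mem_filter, Finset.mem_univ, true_and]
    refine ⟨(mem_normalizer_iff.1 hm ρ).1 (hEP hρE), fun hmem => T.not_conj (g := m⁻¹) ?_⟩
    have hne : m * ρ * m⁻¹ ≠ 1 := fun e' => T.ρ_ne (conj_eq_one_iff.1 e')
    obtain ⟨k, hk⟩ := mem_zpowers_iff.1
      ((zpowers_eq_of_prime T.hσo hmem hne).symm ▸ mem_zpowers σ : σ ∈ zpowers (m * ρ * m⁻¹))
    refine ⟨k, ?_⟩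
    show ρ ^ k = m⁻¹ * σ * m⁻¹⁻¹
    rw [← hk, conj_zpow]
    group
  have hO24 : 24 ≤ O.card := by
    by_contra hlt
    push Not at hlt
    have := Nat.mul_le_mul (Nat.le_of_lt_succ (Nat.lt_succ_of_le (Nat.le_of_lt_succ (show O.card < 23 + 1 from hlt)))) h9
    omega
  have hxO : x ∈ O := by
    rw [Finset.eq_of_subset_of_card_le hOR (hR24 ▸ hO24), hR]
    simp only [Finset.mem_sdiff, Finset.mem_filter, Finset.mem_univ, true_and]
    exact ⟨hx, hxσ⟩
  obtain ⟨m, -, hm⟩ := (Finset.mem_filter.1 hxO).2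
  exact (hm ▸ isConj_conj m ρ).symm

/-- The statement on the Sylow 3-subgroups. -/
theorem three_main [Finite G] (P : Sylow 3 G) :
    Cfsg.IsExtraspecial 3 (P : Subgroup G) ∧ Nat.card P = 27 ∧
      Nat.card (normalizer ((P : Subgroup G) : Set G)) = 216 ∧
      ∃ a b : G, orderOf a = 3 ∧ orderOf b = 3 ∧ ¬ IsConj a b ∧
        ∀ c : G, orderOf c = 3 → IsConj c a ∨ IsConj c b := by
  haveI : Fact (Nat.Prime 3) := ⟨Nat.prime_three⟩
  obtain ⟨P0, hP0, hext, h216, hcls⟩ := T.exists_P
  have e : (P : Subgroup G) ≃* (P0 : Subgroup G) := Sylow.equiv P P0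
  have hc27 : Nat.card (P : Subgroup G) = 27 := (Nat.card_congr e.toEquiv).trans hP0
  have hnab : ∃ a b : (P : Subgroup G), a * b ≠ b * a := by
    by_contra hne
    push Not at hne
    have htop : center (P0 : Subgroup G) = ⊤ := eq_top_iff.2 fun u _ => mem_center_iff.2 fun v => by
      simpa using congrArg e (hne (e.symm v) (e.symm u))
    have := hext.2
    rw [htop, card_top, hP0] at this
    omega
  refine ⟨isExtraspecial_of_nonabelian_cube (p := 3) (by rw [hc27]; norm_num) hnab, hc27, ?_, ?_⟩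
  · have h1 := card_mul_index (normalizer ((P : Subgroup G) : Set G))
    have h2 := card_mul_index (normalizer ((P0 : Subgroup G) : Set G))
    rw [← show Nat.card (Sylow 3 G) = (normalizer ((P : Subgroup G) : Set G)).index from
      Sylow.card_eq_index_normalizer P] at h1
    rw [← show Nat.card (Sylow 3 G) = (normalizer ((P0 : Subgroup G) : Set G)).index from
      Sylow.card_eq_index_normalizer P0, h216, ← h1] at h2
    exact (Nat.eq_of_mul_eq_mul_right Nat.card_pos h2).symm
  · refine ⟨σ, ρ, T.hσo, T.hρo, fun h => ?_, fun c hc => ?_⟩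
    · obtain ⟨g, hg⟩ := isConj_iff.1 h
      exact T.not_conj (g := g) (hg ▸ mem_zpowers ρ)
    · obtain ⟨g, hg⟩ := CfsgLib.Transfer.exists_conj_mem_sylow P0 (S := zpowers c)
        (IsPGroup.of_card (n := 1) (by rw [Nat.card_zpowers, hc, pow_one]))
      have hc1 : g * c * g⁻¹ ≠ 1 := fun h => by
        rw [conj_eq_one_iff.1 h, orderOf_one] at hc; omega
      exact (hcls _ (hg c (mem_zpowers c)) hc1).imp (isConj_conj g c).trans (isConj_conj g c).trans

/-- The statement on the Sylow 7-subgroups. -/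
theorem seven_main [Finite G] (D : Sylow 7 G) :
    centralizer ((D : Subgroup G) : Set G) = D ∧
      Nat.card (normalizer ((D : Subgroup G) : Set G)) = 42 ∧
      ¬ IsMulCommutative (normalizer ((D : Subgroup G) : Set G)) := by
  classical
  haveI := Fintype.ofFinite G
  haveI : Fact (Nat.Prime 7) := ⟨by norm_num⟩
  haveI : Fact (Nat.Prime 3) := ⟨Nat.prime_three⟩
  have n := T.nd
  have hG := n.card_G
  have hDc : Nat.card D = 7 := by
    simpa using card_sylow_of_exact (p := 7) (k := 1) (by rw [hG]; norm_num) (by rw [hG]; norm_num) D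
  obtain ⟨x, hx⟩ := exists_prime_orderOf_dvd_card' (G := (D : Subgroup G)) 7 (by rw [hDc])
  have hxo : orderOf (x : G) = 7 := by rw [orderOf_coe, hx]
  have hxD : zpowers (x : G) = (D : Subgroup G) :=
    eq_of_le_of_card_ge (zpowers_le.2 x.2) (by rw [Nat.card_zpowers, hxo, hDc])
  set C := centralizer ({(x : G)} : Set G) with hC
  have h7C : ∀ {y : G}, y ∈ C → 7 ∣ Nat.card (centralizer ({y} : Set G)) := fun {y} hy =>
    hxo ▸ Subgroup.orderOf_dvd_natCard _
      (mem_centralizer_singleton_iff.2 (mem_centralizer_singleton_iff.1 hy).symm)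
  have hC2 : ¬ 2 ∣ Nat.card C := by
    intro h
    haveI : Fact (Nat.Prime 2) := ⟨Nat.prime_two⟩
    obtain ⟨y, hy⟩ := exists_prime_orderOf_dvd_card' (G := C) 2 h
    have hyo : orderOf (y : G) = 2 := by rw [orderOf_coe, hy]
    obtain ⟨hy2, hy1⟩ := orderOf_two_iff.1 hyo
    have hd := h7C y.2
    rcases n.dd.pr.classes hy2 hy1 with e | e
    · rw [CfsgLib.Invol.card_centralizer_of_isConj e, n.dd.pr.st.hH] at hd; norm_num at hd
    · rw [CfsgLib.Invol.card_centralizer_of_isConj e, n.dd.card_D] at hd; norm_num at hd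
  have hC3 : ¬ 3 ∣ Nat.card C := by
    intro h
    obtain ⟨y, hy⟩ := exists_prime_orderOf_dvd_card' (G := C) 3 h
    have hyo : orderOf (y : G) = 3 := by rw [orderOf_coe, hy]
    have hd := h7C y.2
    obtain ⟨P0, -, -, -, hcls⟩ := T.exists_P
    obtain ⟨g, hg⟩ := CfsgLib.Transfer.exists_conj_mem_sylow P0 (S := zpowers (y : G))
      (IsPGroup.of_card (n := 1) (by rw [Nat.card_zpowers, hyo, pow_one]))
    have hy1 : g * (y : G) * g⁻¹ ≠ 1 := fun h => by
      rw [conj_eq_one_iff.1 h, orderOf_one] at hyo; omega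
    rcases hcls _ (hg _ (mem_zpowers _)) hy1 with e | e
    · rw [← CfsgLib.Invol.card_centralizer_of_isConj ((isConj_conj g (y : G)).trans e), T.σ_card] at hd
      norm_num at hd
    · rw [← CfsgLib.Invol.card_centralizer_of_isConj ((isConj_conj g (y : G)).trans e), T.ρ_cent.1] at hd
      norm_num at hd
  have hC5 : ¬ 5 ∣ Nat.card C := by
    intro h
    haveI : Fact (Nat.Prime 5) := ⟨by norm_num⟩
    obtain ⟨y, hy⟩ := exists_prime_orderOf_dvd_card' (G := C) 5 h
    have hd := h7C y.2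
    rcases n.five_cases (w := (y : G)) (by rw [orderOf_coe, hy]) with e | e
    · rw [(n.isB5_cent e).1] at hd; norm_num at hd
    · exact e.2 hd
  have hC7 : Nat.card C = 7 := by
    have hdG : Nat.card C ∣ (2 ^ 7 * 3 ^ 3 * 5 ^ 2) * 7 := by
      rw [show (2 ^ 7 * 3 ^ 3 * 5 ^ 2) * 7 = 604800 by norm_num, ← hG]; exact card_subgroup_dvd_card C
    have hc : Nat.Coprime (Nat.card C) (2 ^ 7 * 3 ^ 3 * 5 ^ 2) :=
      Nat.Coprime.mul_right (Nat.Coprime.mul_right
        (Nat.Coprime.pow_right 7 (Nat.prime_two.coprime_iff_not_dvd.2 hC2).symm)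
        (Nat.Coprime.pow_right 3 (Nat.prime_three.coprime_iff_not_dvd.2 hC3).symm))
        (Nat.Coprime.pow_right 2 ((by norm_num : Nat.Prime 5).coprime_iff_not_dvd.2 hC5).symm)
    refine Nat.le_antisymm (Nat.le_of_dvd (by norm_num) (hc.dvd_of_dvd_mul_left hdG)) ?_
    exact (Nat.card_zpowers (x : G)).trans hxo ▸
      card_le_of_le (zpowers_le.2 (mem_centralizer_singleton_iff.2 rfl) : zpowers (x : G) ≤ C)
  have hCD : C = (D : Subgroup G) := by
    rw [← hxD]
    exact (eq_of_le_of_card_ge (zpowers_le.2 (mem_centralizer_singleton_iff.2 rfl))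
      (by rw [hC7, Nat.card_zpowers, hxo])).symm
  have hCeq : centralizer ((D : Subgroup G) : Set G) = C := by
    refine (congrArg (fun H : Subgroup G => centralizer (H : Set G)) hxD.symm).trans ?_
    show centralizer ((zpowers (x : G) : Subgroup G) : Set G) = C
    rw [hC]
    ext y
    rw [mem_centralizer_iff, mem_centralizer_singleton_iff]
    refine ⟨fun h => (h _ (mem_zpowers _)).symm, fun h w hw => ?_⟩
    obtain ⟨k, rfl⟩ := mem_zpowers_iff.1 hw
    exact ((show Commute y (x : G) from h).zpow_right k).eq.symm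
  set N := normalizer ((D : Subgroup G) : Set G) with hN
  have hxN : (x : G) ∈ N := le_normalizer x.2
  have hCN : C ≤ N := hCD ▸ le_normalizer
  have h := card_class_mul hxN
  rw [inf_eq_right.2 hCN, hC7] at h
  set O := Finset.univ.filter (fun y => ∃ m ∈ N, m * (x : G) * m⁻¹ = y) with hO
  have hOc : Nat.card {y : G // ∃ m ∈ N, m * (x : G) * m⁻¹ = y} = O.card := by
    rw [Nat.card_eq_fintype_card, Fintype.card_subtype]
  rw [hOc] at h
  have hO6 : O.card ≤ 6 := by
    have h6 : ((Finset.univ.filter fun y => y ∈ (D : Subgroup G)).erase 1).card = 6 := by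
      rw [Finset.card_erase_of_mem (Finset.mem_filter.2 ⟨Finset.mem_univ _, one_mem _⟩), ← Fintype.card_subtype,
        ← Nat.card_eq_fintype_card, hDc]
    rw [← h6]
    refine Finset.card_le_card fun y hy => ?_
    obtain ⟨m, hm, rfl⟩ := (Finset.mem_filter.1 hy).2
    refine Finset.mem_erase.2 ⟨fun e => ?_, Finset.mem_filter.2
      ⟨Finset.mem_univ _, (mem_normalizer_iff.1 hm _).1 x.2⟩⟩
    rw [conj_eq_one_iff.1 e, orderOf_one] at hxo
    omega
  have hidx := card_mul_index N
  have hmod : Nat.card (Sylow 7 G) % 7 = 1 := card_sylow_modEq_one 7 G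
  rw [show Nat.card (Sylow 7 G) = N.index from Sylow.card_eq_index_normalizer D] at hmod
  rw [hG, ← h] at hidx
  have h42 : Nat.card N = 42 := by
    rw [← h]
    clear * - hidx hmod hO6
    interval_cases O.card <;> omega
  refine ⟨hCeq.trans hCD, h42, fun hcomm => ?_⟩
  have hle : N ≤ C := fun m hm => mem_centralizer_singleton_iff.2
    (congrArg Subtype.val (hcomm.is_comm.comm (⟨m, hm⟩ : N) ⟨_, hxN⟩))
  have := card_le_of_le hle
  rw [h42, hC7] at this
  omega

end TData

end CfsgLib.HJType
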